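import Mathlib

/-!
# Zero sums in large subsets of a finite field
-/

set_option autoImplicit false

namespace Cfsg.Lib.Linear.ODec

variable {F : Type*} [Field F] [Fintype F]

omit [Fintype F] in
theorem eq_neg_of_two (h : (2 : F) = 0) (a : F) : -a = a := by linear_combination (-a) * h

/-- Opposite elements of two large sets. -/
theorem exists_opposite {S T : Finset F} (hS : ∀ a ∈ S, a ≠ 0) (hT : ∀ a ∈ T, a ≠ 0)
    (h : Fintype.card F ≤ S.card + T.card) : ∃ a ∈ S, -a ∈ T := by
  classical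
  by_contra hne
  push Not at hne
  have hd : Disjoint S (T.image (- ·)) := Finset.disjoint_left.mpr fun a ha hb => by
    obtain ⟨b, hb, rfl⟩ := Finset.mem_image.mp hb
    exact hne _ ha (by rwa [neg_neg])
  have hsub : S ∪ T.image (- ·) ⊆ Finset.univ.erase 0 := fun a ha => by
    refine Finset.mem_erase.mpr ⟨?_, Finset.mem_univ a⟩
    rcases Finset.mem_union.mp ha with ha | ha
    · exact hS a ha
    · obtain ⟨b, hb, rfl⟩ := Finset.mem_image.mp ha
      exact neg_ne_zero.mpr (hT b hb)
  have h1 := Finset.card_le_card hsub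
  rw [Finset.card_union_of_disjoint hd, Finset.card_image_of_injective _ neg_injective,
    Finset.card_erase_of_mem (Finset.mem_univ _), Finset.card_univ] at h1
  have := Fintype.card_pos (α := F)
  omega

/-- Three sets of about half the field have a short zero sum. -/
theorem short_zero_sum {S T R : Finset F} (hS : ∀ a ∈ S, a ≠ 0) (hT : ∀ a ∈ T, a ≠ 0)
    (hR : ∀ a ∈ R, a ≠ 0) (cS : Fintype.card F ≤ 2 * S.card + 2)
    (cT : Fintype.card F ≤ 2 * T.card + 2) (cR : Fintype.card F ≤ 2 * R.card + 2)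
    (hq : (2 : F) ≠ 0 ∨ 5 ≤ Fintype.card F ∨
      Fintype.card F ≤ S.card + T.card) :
    (∃ a ∈ S, -a ∈ T) ∨ (∃ a ∈ S, -a ∈ R) ∨ (∃ a ∈ T, -a ∈ R) ∨
      ∃ a ∈ S, ∃ b ∈ T, -(a + b) ∈ R := by
  classical
  by_contra hne
  push Not at hne
  obtain ⟨h12, h13, h23, h123⟩ := hne
  have sz : ∀ {X Y : Finset F}, (∀ a ∈ X, a ≠ 0) → (∀ a ∈ Y, a ≠ 0) → (∀ a ∈ X, -a ∉ Y) →
      X.card + Y.card + 1 ≤ Fintype.card F := by
    intro X Y hX hY hXY
    by_contra h
    obtain ⟨a, ha, ha'⟩ := exists_opposite hX hY (by omega)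
    exact hXY a ha ha'
  have e12 := sz hS hT h12
  have e13 := sz hS hR h13
  have e23 := sz hT hR h23
  rcases eq_or_ne (2 : F) 0 with h2 | h2
  · -- characteristic two: pairwise disjoint
    have hneg := eq_neg_of_two h2
    have hd : ∀ {X Y : Finset F}, (∀ a ∈ X, -a ∉ Y) → Disjoint X Y := fun {X Y} h =>
      Finset.disjoint_left.mpr fun a ha hb => h a ha (by rwa [hneg])
    have hsub : S ∪ T ∪ R ⊆ Finset.univ.erase 0 := fun a ha => by
      refine Finset.mem_erase.mpr ⟨?_, Finset.mem_univ a⟩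
      simp only [Finset.mem_union] at ha
      rcases ha with (ha | ha) | ha
      exacts [hS a ha, hT a ha, hR a ha]
    have h1 := Finset.card_le_card hsub
    rw [Finset.card_union_of_disjoint (Finset.disjoint_union_left.mpr ⟨hd h13, hd h23⟩),
      Finset.card_union_of_disjoint (hd h12), Finset.card_erase_of_mem (Finset.mem_univ _),
      Finset.card_univ] at h1
    rcases hq with hq | hq | hq
    · exact hq h2
    · omega
    · omega
  -- odd: the three sets coincide and are closed under addition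
  have hodd : Fintype.card F % 2 = 1 := FiniteField.odd_card_of_char_ne_two fun h => h2 (by
    haveI := ringChar.charP F
    have := CharP.cast_eq_zero F (ringChar F)
    rw [h] at this
    exact_mod_cast this)
  have half : ∀ {X Y : Finset F}, (∀ a ∈ X, a ≠ 0) → (∀ a ∈ Y, a ≠ 0) → (∀ a ∈ X, -a ∉ Y) →
      X.card + Y.card + 1 = Fintype.card F → Y = (Finset.univ.erase 0) \ X.image (- ·) := by
    intro X Y hX hY hXY hc
    refine Finset.eq_of_subset_of_card_le (fun y hy => ?_) ?_
    · refine Finset.mem_sdiff.mpr ⟨Finset.mem_erase.mpr ⟨hY y hy, Finset.mem_univ y⟩, fun h => ?_⟩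
      obtain ⟨a, ha, rfl⟩ := Finset.mem_image.mp h
      exact hXY a ha hy
    · rw [Finset.card_sdiff_of_subset (fun y hy => by
          obtain ⟨a, ha, rfl⟩ := Finset.mem_image.mp hy
          exact Finset.mem_erase.mpr ⟨neg_ne_zero.mpr (hX a ha), Finset.mem_univ _⟩),
        Finset.card_image_of_injective _ neg_injective, Finset.card_erase_of_mem (Finset.mem_univ _),
        Finset.card_univ]
      omega
  have hTR : T = R := (half hS hT h12 (by omega)).trans (half hS hR h13 (by omega)).symm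
  have hST : S = T := by
    have a1 : ∀ a ∈ R, -a ∉ S := fun a ha h => h13 _ h (by rwa [neg_neg])
    have a2 : ∀ a ∈ R, -a ∉ T := fun a ha h => h23 _ h (by rwa [neg_neg])
    exact (half hR hS a1 (by omega)).trans (half hR hT a2 (by omega)).symm
  subst hST hTR
  obtain ⟨a, ha⟩ := Finset.card_pos.mp (show 0 < S.card by
    have := Fintype.one_lt_card (α := F)
    omega)
  have hmem : ∀ n : ℕ, ((n + 1 : ℕ) : F) * a ∈ S := by
    intro n
    induction n with
    | zero => simpa using ha
    | succ n ih =>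
      by_contra hc
      have e : ((n + 1 + 1 : ℕ) : F) * a = ((n + 1 : ℕ) : F) * a + a := by push_cast; ring
      rw [e] at hc
      by_cases h0 : ((n + 1 : ℕ) : F) * a + a = 0
      · exact h12 a ha (by rwa [neg_eq_of_add_eq_zero_left h0])
      · have := half hS hS h12 (by omega)
        refine h123 _ ih a ha ?_
        by_contra hn
        refine hc ?_
        rw [this]
        refine Finset.mem_sdiff.mpr ⟨Finset.mem_erase.mpr ⟨h0, Finset.mem_univ _⟩, fun hm => ?_⟩
        obtain ⟨b, hb, hb'⟩ := Finset.mem_image.mp hm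
        exact hn (by rwa [← hb', neg_neg])
  haveI := ringChar.charP F
  have hp0 : ringChar F ≠ 0 := fun h => by
    haveI : CharP F 0 := h ▸ ringChar.charP F
    haveI := CharP.charP_to_charZero F
    exact not_finite F
  refine hS _ (hmem (ringChar F - 1)) ?_
  rw [Nat.sub_add_cancel (Nat.one_le_iff_ne_zero.mpr hp0), CharP.cast_eq_zero, zero_mul]

/-- Five graded sets whose pair sums cover the field: an even sum `0`, or `ν` of two terms at
least, avoiding one of the sets. -/
theorem graded_sum (h2 : (2 : F) ≠ 0) {ν : F} (hν : ν ≠ 0) (E : Fin 5 → F → Bool → Prop)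
    (hE0 : ∀ i z e, E i z e → z ≠ 0)
    (cover : ∀ i j, i ≠ j → ∀ z : F, z ≠ 0 → ∃ a b : F, ∃ d e : Bool,
      (a = 0 ∧ d = false ∨ E i a d) ∧ (b = 0 ∧ e = false ∨ E j b e) ∧ a + b = z)
    (good : E 4 ν false ∨ ∀ i, ¬ E i ν false) :
    ∃ y : Fin 5 → F, ∃ d : Fin 5 → Bool, (∀ i, y i = 0 ∧ d i = false ∨ E i (y i) (d i)) ∧
      (∃ i, y i ≠ 0) ∧ (∃ i, y i = 0) ∧
      (∑ i, y i = 0 ∨ (∑ i, y i = ν ∧ ∃ i j, i ≠ j ∧ y i ≠ 0 ∧ y j ≠ 0)) ∧
      (((d 0).xor (d 1)).xor ((d 2).xor (d 3))).xor (d 4) = false := by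
  classical
  by_contra hne
  push Not at hne
  have contra : ∀ (y : Fin 5 → F) (d : Fin 5 → Bool),
      (∀ i, y i = 0 ∧ d i = false ∨ E i (y i) (d i)) → (∃ i, y i ≠ 0) → (∃ i, y i = 0) →
      (∑ i, y i = 0 ∨ (∑ i, y i = ν ∧ ∃ i j, i ≠ j ∧ y i ≠ 0 ∧ y j ≠ 0)) →
      (((d 0).xor (d 1)).xor ((d 2).xor (d 3))).xor (d 4) = false → False :=
    fun y d h1 h2 h3 h4 h5 => hne y d h1 h2 h3 h4 h5
  let P : Fin 5 → Fin 5 → F → Bool → Prop := fun i j z g => ∃ a b : F, ∃ d e : Bool,
    (a = 0 ∧ d = false ∨ E i a d) ∧ (b = 0 ∧ e = false ∨ E j b e) ∧ a + b = z ∧ d.xor e = g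
  have hP : ∀ i j, i ≠ j → ∀ z : F, z ≠ 0 → ∃ g, P i j z g := fun i j hij z hz => by
    obtain ⟨a, b, d, e, h1, h2, h3⟩ := cover i j hij z hz
    exact ⟨_, a, b, d, e, h1, h2, h3, rfl⟩
  have some : ∀ {a b z : F}, a + b = z → z ≠ 0 → a ≠ 0 ∨ b ≠ 0 := fun {a b z} h hz => by
    by_contra hc
    push Not at hc
    exact hz (by rw [← h, hc.1, hc.2, add_zero])
  -- two pairs
  have four : ∀ {z w g}, z ≠ 0 → w ≠ 0 → P 0 1 z g → P 2 3 w g → z + w ≠ 0 ∧ z + w ≠ ν := by
    rintro z w g hz hw ⟨a, b, d, e, h1, h2, h3, h4⟩ ⟨a', b', d', e', h1', h2', h3', h4'⟩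
    have hy : ∀ i, ![a, b, a', b', 0] i = 0 ∧ ![d, e, d', e', false] i = false ∨
        E i (![a, b, a', b', 0] i) (![d, e, d', e', false] i) := fun i => by
      fin_cases i <;> simp <;> assumption
    have hx : ∃ i, i.val < 2 ∧ ![a, b, a', b', 0] i ≠ 0 := by
      rcases some h3 hz with h | h
      exacts [⟨0, by decide, by simpa using h⟩, ⟨1, by decide, by simpa using h⟩]
    have hx' : ∃ i, 2 ≤ i.val ∧ ![a, b, a', b', 0] i ≠ 0 := by
      rcases some h3' hw with h | h
      exacts [⟨2, by decide, by simpa using h⟩, ⟨3, by decide, by simpa using h⟩]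
    obtain ⟨i, hi, hi'⟩ := hx
    obtain ⟨j, hj, hj'⟩ := hx'
    have hij : i ≠ j := fun h => by rw [h] at hi; omega
    have hsum : ∑ l, ![a, b, a', b', 0] l = z + w := by
      rw [Fin.sum_univ_five]; simp
      linear_combination h3 + h3'
    exact ⟨fun h => contra _ _ hy ⟨i, hi'⟩ ⟨4, rfl⟩ (Or.inl (hsum.trans h)) (by simp [h4, h4']),
      fun h => contra _ _ hy ⟨i, hi'⟩ ⟨4, rfl⟩
        (Or.inr ⟨hsum.trans h, i, j, hij, hi', hj'⟩) (by simp [h4, h4'])⟩
  -- a pair and the last set
  have three : E 4 ν false → ¬ P 0 1 (-ν) false ∧ ¬ P 2 3 (-ν) false := fun hE => by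
    constructor
    · rintro ⟨a, b, d, e, h1, h2, h3, h4⟩
      refine contra ![a, b, 0, 0, ν] ![d, e, false, false, false]
        (fun i => by fin_cases i <;> simp <;> first | assumption | exact Or.inr hE)
        ⟨4, by simpa using hν⟩ ⟨2, rfl⟩ (Or.inl ?_) (by simp [h4])
      rw [Fin.sum_univ_five]; simp
      linear_combination h3
    · rintro ⟨a, b, d, e, h1, h2, h3, h4⟩
      refine contra ![0, 0, a, b, ν] ![false, false, d, e, false]
        (fun i => by fin_cases i <;> simp <;> first | assumption | exact Or.inr hE)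
        ⟨4, by simpa using hν⟩ ⟨0, rfl⟩ (Or.inl ?_) (by simp [h4])
      rw [Fin.sum_univ_five]; simp
      linear_combination h3
  -- without `ν` among the values, pairs give `ν` oddly
  have odd : (∀ i, ¬ E i ν false) → ¬ P 0 1 ν false ∧ ¬ P 2 3 ν false := fun hall => by
    have both : ∀ {i j : Fin 5} {a b : F} {d e : Bool}, (a = 0 ∧ d = false ∨ E i a d) →
        (b = 0 ∧ e = false ∨ E j b e) → a + b = ν → d.xor e = false → a ≠ 0 ∧ b ≠ 0 := by
      intro i j a b d e h1 h2 h3 h4
      refine ⟨fun ha => ?_, fun hb => ?_⟩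
      · rcases h1 with ⟨-, hd⟩ | h1
        · rcases h2 with ⟨hb, -⟩ | h2
          · exact hν (by rw [← h3, ha, hb, add_zero])
          · rw [hd, Bool.false_xor] at h4
            rw [ha, zero_add] at h3
            exact hall j (h4 ▸ h3 ▸ h2)
        · exact absurd ha (hE0 _ _ _ h1)
      · rcases h2 with ⟨-, he⟩ | h2
        · rcases h1 with ⟨ha, -⟩ | h1
          · exact hν (by rw [← h3, ha, hb, add_zero])
          · rw [he, Bool.xor_false] at h4
            rw [hb, add_zero] at h3
            exact hall i (h4 ▸ h3 ▸ h1)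
        · exact absurd hb (hE0 _ _ _ h2)
    constructor
    · rintro ⟨a, b, d, e, h1, h2, h3, h4⟩
      obtain ⟨ha, hb⟩ := both h1 h2 h3 h4
      refine contra ![a, b, 0, 0, 0] ![d, e, false, false, false]
        (fun i => by fin_cases i <;> simp <;> assumption) ⟨0, by simpa using ha⟩ ⟨2, rfl⟩
        (Or.inr ⟨?_, 0, 1, by decide, by simpa using ha, by simpa using hb⟩) (by simp [h4])
      rw [Fin.sum_univ_five]; simpa using h3
    · rintro ⟨a, b, d, e, h1, h2, h3, h4⟩
      obtain ⟨ha, hb⟩ := both h1 h2 h3 h4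
      refine contra ![0, 0, a, b, 0] ![false, false, d, e, false]
        (fun i => by fin_cases i <;> simp <;> assumption) ⟨2, by simpa using ha⟩ ⟨0, rfl⟩
        (Or.inr ⟨?_, 2, 3, by decide, by simpa using ha, by simpa using hb⟩) (by simp [h4])
      rw [Fin.sum_univ_five]; simpa using h3
  -- along the multiples of `ν` the parities are constant
  haveI := ringChar.charP F
  have hp0 : ringChar F ≠ 0 := fun h => by
    haveI : CharP F 0 := h ▸ ringChar.charP F
    haveI := CharP.charP_to_charZero F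
    exact not_finite F
  have hprime : (ringChar F).Prime :=
    (CharP.char_is_prime_or_zero F (ringChar F)).resolve_right hp0
  set p := ringChar F with hp
  have hne0 : ∀ m : ℕ, 0 < m → m < p → (m : F) * ν ≠ 0 := fun m h1 h2 =>
    mul_ne_zero (fun h => absurd (Nat.le_of_dvd h1 ((CharP.cast_eq_zero_iff F p m).mp h))
      (by omega)) hν
  have chain : ∀ g, P 0 1 ν g → ∀ n, 0 < n → n < p →
      P 0 1 ((n : F) * ν) g ∧ P 2 3 (-((n : F) * ν)) (!g) := by
    intro g hg n hn hnp
    have step : ∀ m : ℕ, 0 < m → m < p → P 0 1 ((m : F) * ν) g →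
        P 2 3 (-((m : F) * ν)) (!g) := fun m h1 h2 h => by
      have hm := hne0 m h1 h2
      obtain ⟨g', hg'⟩ := hP 2 3 (by decide) _ (neg_ne_zero.mpr hm)
      have := fun h' : P 2 3 (-((m : F) * ν)) g =>
        (four hm (neg_ne_zero.mpr hm) h h').1 (add_neg_cancel _)
      cases g <;> cases g' <;> first | exact hg' | exact absurd hg' this
    induction n with
    | zero => omega
    | succ n ih =>
      rcases Nat.eq_zero_or_pos n with h0 | hpos
      · subst h0
        have h1 : P 0 1 (((0 + 1 : ℕ) : F) * ν) g := by simpa using hg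
        exact ⟨h1, step 1 one_pos hnp h1⟩
      · have hm := hne0 n hpos (by omega)
        have hm' := hne0 (n + 1) (by omega) hnp
        obtain ⟨g', hg'⟩ := hP 0 1 (by decide) _ hm'
        have := fun h' : P 0 1 (((n + 1 : ℕ) : F) * ν) (!g) =>
          (four hm' (neg_ne_zero.mpr hm) h' (ih hpos (by omega)).2).2 (by push_cast; ring)
        have hgood : P 0 1 (((n + 1 : ℕ) : F) * ν) g := by
          cases g <;> cases g' <;> first | exact hg' | exact absurd hg' this
        exact ⟨hgood, step _ (by omega) hnp hgood⟩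
  have hp2 := hprime.two_le
  have elast : ((p - 1 : ℕ) : F) * ν = -ν := by
    have h := CharP.cast_eq_zero F p
    rw [show p = p - 1 + 1 by omega] at h
    push_cast at h
    linear_combination ν * h
  obtain ⟨g, hg⟩ := hP 0 1 (by decide) ν hν
  obtain ⟨c1, c2⟩ := chain g hg 1 one_pos (by omega)
  obtain ⟨l1, l2⟩ := chain g hg (p - 1) (by omega) (by omega)
  rw [Nat.cast_one, one_mul] at c2
  rw [elast] at l1 l2
  rw [neg_neg] at l2
  rcases good with hE | hall
  · cases g
    · exact (three hE).1 l1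
    · exact (three hE).2 c2
  · cases g
    · exact (odd hall).1 hg
    · exact (odd hall).2 l2

end Cfsg.Lib.Linear.ODec
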