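import Cfsg.Agent.Lib.Linear.ODec.Values
import Cfsg.Agent.Lib.Linear.ODec.Sums

/-!
# Decompositions into isometric non-degenerate blocks, any characteristic

`Dec Q B D k`: the space is the orthogonal sum of the pairwise isometric non-degenerate subspaces
`D i` of dimension `k ≥ 2`.  `Ctx`: a subgroup of the isometry group containing the stabiliser in `Ω`.
-/

set_option autoImplicit false

namespace Cfsg.Lib.Linear.ODec

open Module Cfsg.Lib.Linear.Orth
open scoped Matrix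

variable {ι : Type} [Fintype ι] [DecidableEq ι] {F : Type*} [Field F]
  {Q : (ι → F) → F} {B : LinearMap.BilinForm F (ι → F)}
  {t : ℕ} {D : Fin t → Submodule F (ι → F)} {k : ℕ}

/-- An orthogonal decomposition into isometric non-degenerate blocks. -/
structure Dec (Q : (ι → F) → F) (B : LinearMap.BilinForm F (ι → F))
    (D : Fin t → Submodule F (ι → F)) (k : ℕ) : Prop where
  space : Space Q B
  k2 : 2 ≤ k
  nd : ∀ i, NDeg B (D i)
  orth : ∀ i j, i ≠ j → ∀ u ∈ D i, ∀ w ∈ D j, B u w = 0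
  top : iSup D = ⊤
  dim : ∀ i, finrank F (D i) = k
  two_le : 2 ≤ t
  big : 10 ≤ Fintype.card ι
  card : Fintype.card ι = t * k
  isom : ∀ i j, ∃ e : D i ≃ₗ[F] D j, ∀ w : D i, Q ((e w : D j) : ι → F) = Q (w : ι → F)

/-- The excluded small cases do not occur. -/
structure Small [Fintype F] (Q : (ι → F) → F) (D : Fin t → Submodule F (ι → F)) (k : ℕ) : Prop where
  three : k = 2 → Fintype.card F ≠ 3
  odd3 : k ≠ 3
  plus : k = 2 → ∀ i, ∀ v ∈ D i, v ≠ 0 → Q v = 0 → 7 ≤ Fintype.card F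
  four : k = 4 → Fintype.card F = 2 → ∀ i, ∀ e ∈ D i, ∀ e' ∈ D i, Q e = 0 → Q e' = 0 →
    Q (e + e') = 0 → e = 0 ∨ e' = 0 ∨ e = e'

theorem Dec.five (X : Dec Q B D k) : 5 ≤ Fintype.card ι := by have := X.big; omega

theorem Dec.t6 (X : Dec Q B D k) (hk : k = 2) : 5 ≤ t := by
  have := X.card
  have := X.big
  subst hk
  omega

theorem Dec.exists_comp (X : Dec Q B D k) (l : Fin t) (x : ι → F) :
    ∃ z ∈ D l, ∀ y ∈ D l, B z y = B x y := by
  obtain ⟨u, hu, w, hw, rfl⟩ := (split_of_ndeg X.space (X.nd l)).parts X.space x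
  exact ⟨w, hw, fun y hy => by
    rw [map_add, LinearMap.add_apply, X.space.symm u y, hu.2 y hy, zero_add]⟩

theorem Dec.uniq (X : Dec Q B D k) {l : Fin t} {z z' : ι → F} (hz : z ∈ D l)
    (hz' : z' ∈ D l) (h : ∀ y ∈ D l, B z y = B z' y) : z = z' :=
  sub_eq_zero.mp (X.nd l _ ((D l).sub_mem hz hz') fun y hy => by
    rw [map_sub, LinearMap.sub_apply, h y hy, sub_self])

/-- The component of a vector in a block. -/
noncomputable def Dec.comp (X : Dec Q B D k) (l : Fin t) : (ι → F) →ₗ[F] (ι → F) where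
  toFun x := (X.exists_comp l x).choose
  map_add' x y := X.uniq (X.exists_comp l _).choose_spec.1
    ((D l).add_mem (X.exists_comp l _).choose_spec.1 (X.exists_comp l _).choose_spec.1) fun z hz => by
      rw [(X.exists_comp l _).choose_spec.2 z hz, map_add, map_add, LinearMap.add_apply,
        LinearMap.add_apply, (X.exists_comp l _).choose_spec.2 z hz,
        (X.exists_comp l _).choose_spec.2 z hz]
  map_smul' c x := X.uniq (X.exists_comp l _).choose_spec.1
    ((D l).smul_mem _ (X.exists_comp l _).choose_spec.1) fun z hz => by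
      rw [(X.exists_comp l _).choose_spec.2 z hz, RingHom.id_apply, map_smul, map_smul,
        LinearMap.smul_apply, LinearMap.smul_apply, (X.exists_comp l _).choose_spec.2 z hz]

section

variable (X : Dec Q B D k)

include X

theorem Dec.comp_mem (l : Fin t) (x : ι → F) : X.comp l x ∈ D l :=
  (X.exists_comp l x).choose_spec.1

theorem Dec.comp_B (l : Fin t) (x : ι → F) {y : ι → F} (hy : y ∈ D l) :
    B (X.comp l x) y = B x y :=
  (X.exists_comp l x).choose_spec.2 y hy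

theorem Dec.comp_B' (l : Fin t) (x : ι → F) {y : ι → F} (hy : y ∈ D l) :
    B y (X.comp l x) = B y x := by
  rw [X.space.symm, X.comp_B l x hy, X.space.symm]

theorem Dec.comp_self {l : Fin t} {x : ι → F} (hx : x ∈ D l) : X.comp l x = x :=
  X.uniq (X.comp_mem l x) hx fun _ hy => X.comp_B l x hy

theorem Dec.comp_other {l i : Fin t} (h : i ≠ l) {x : ι → F} (hx : x ∈ D i) :
    X.comp l x = 0 :=
  X.uniq (X.comp_mem l x) (D l).zero_mem fun y hy => by
    rw [X.comp_B l x hy, X.orth i l h x hx y hy, map_zero, LinearMap.zero_apply]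

theorem Dec.eq_zero {x : ι → F} (h : ∀ l, X.comp l x = 0) : x = 0 := by
  refine X.space.nondeg' fun v => ?_
  have hle : iSup D ≤ LinearMap.ker (B x) := iSup_le fun l y hy => LinearMap.mem_ker.mpr (by
    rw [← X.comp_B l x hy, h l, map_zero, LinearMap.zero_apply])
  exact LinearMap.mem_ker.mp (hle (X.top ▸ Submodule.mem_top))

theorem Dec.sum_comp (x : ι → F) : ∑ l, X.comp l x = x := by
  refine (sub_eq_zero.mp (X.eq_zero fun l => ?_)).symm
  rw [map_sub, map_sum, Finset.sum_eq_single l (fun i _ hi => X.comp_other hi (X.comp_mem i x))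
    (fun h => absurd (Finset.mem_univ l) h), X.comp_self (X.comp_mem l x), sub_self]

theorem Dec.mem_of_comp {i : Fin t} {x : ι → F} (h : ∀ l, l ≠ i → X.comp l x = 0) :
    x ∈ D i := by
  rw [← X.sum_comp x, Finset.sum_eq_single i (fun l _ hl => h l hl)
    (fun h' => absurd (Finset.mem_univ i) h')]
  exact X.comp_mem i x

theorem Dec.disj {i l : Fin t} (h : i ≠ l) {x : ι → F} (hi : x ∈ D i) (hl : x ∈ D l) :
    x = 0 := by
  rw [← X.comp_self hl, X.comp_other h hi]

theorem Dec.index_unique {i l : Fin t} {x : ι → F} (hx0 : x ≠ 0) (hi : x ∈ D i) (hl : x ∈ D l) :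
    i = l := by
  by_contra h
  exact hx0 (X.disj h hi hl)

theorem Dec.B_sum (u v : ι → F) : B u v = ∑ l, B (X.comp l u) (X.comp l v) := by
  conv_lhs => rw [← X.sum_comp u]
  rw [map_sum, LinearMap.sum_apply]
  exact Finset.sum_congr rfl fun l _ => (X.comp_B' l v (X.comp_mem l u)).symm

theorem Dec.Q_sum (x : ι → F) : Q x = ∑ l, Q (X.comp l x) := by
  classical
  have C := X.space
  have key : ∀ s : Finset (Fin t), Q (∑ l ∈ s, X.comp l x) = ∑ l ∈ s, Q (X.comp l x) := by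
    intro s
    induction s using Finset.induction with
    | empty => simpa using C.zero
    | insert a s ha ih =>
      rw [Finset.sum_insert ha, Finset.sum_insert ha, C.add, ih]
      simp only [map_sum, add_eq_left]
      exact Finset.sum_eq_zero fun l hl =>
        X.orth a l (fun e => ha (e ▸ hl)) _ (X.comp_mem a x) _ (X.comp_mem l x)
  conv_lhs => rw [← X.sum_comp x]
  exact key _

theorem Dec.splitAt (l : Fin t) : Split Q B (D l) (perpIn B ⊤ (D l)) :=
  (split_of_ndeg X.space (X.nd l)).swap X.space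

theorem Dec.ne_bot (l : Fin t) : D l ≠ ⊥ := fun h => by
  have := X.dim l
  rw [h, finrank_bot] at this
  have := X.k2
  omega

/-- An element mapping blocks into blocks stabilises the decomposition. -/
theorem Dec.mem_stab_of_perm {g : GL ι F} (σ : Equiv.Perm (Fin t))
    (h : ∀ i, ∀ y ∈ D i, g.val *ᵥ y ∈ D (σ i)) : g ∈ Cfsg.Geo.decompositionStabilizer D := by
  refine ⟨σ, fun i => Submodule.eq_of_le_of_finrank_eq ?_ ?_⟩
  · rintro _ ⟨y, hy, rfl⟩
    rw [Matrix.toLin'_apply]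
    exact h i y hy
  · rw [← (Submodule.equivMapOfInjective _ (fun a b e => act_injective g (by
      simpa [Matrix.toLin'_apply] using e)) (D i)).finrank_eq, X.dim, X.dim]

theorem Dec.refl_pres {j : Fin t} {p : ι → F} (hp : p ∈ D j) (hQp : Q p ≠ 0) (i : Fin t)
    {y : ι → F} (hy : y ∈ D i) : (rGL Q p).val *ᵥ y ∈ D i := by
  by_cases h : i = j
  · subst h
    rw [rGL_act X.space hQp]
    exact (D i).sub_mem hy ((D i).smul_mem _ hp)
  · rwa [rGL_fix X.space hQp (X.orth j i (Ne.symm h) p hp y hy)]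

theorem Dec.refl_other {j i : Fin t} (h : i ≠ j) {p : ι → F} (hp : p ∈ D j) (hQp : Q p ≠ 0)
    {y : ι → F} (hy : y ∈ D i) : (rGL Q p).val *ᵥ y = y :=
  rGL_fix X.space hQp (X.orth j i (Ne.symm h) p hp y hy)

theorem Dec.comp_refl {j l : Fin t} {p : ι → F} (hp : p ∈ D j) (hQp : Q p ≠ 0) (x : ι → F) :
    X.comp l ((rGL Q p).val *ᵥ x) = if l = j then (rGL Q p).val *ᵥ X.comp j x else X.comp l x := by
  rw [rGL_act X.space hQp, map_sub, map_smul]
  split_ifs with h
  · subst h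
    rw [X.comp_self hp, rGL_act X.space hQp, X.comp_B' l x hp]
  · rw [X.comp_other (Ne.symm h) hp, smul_zero, sub_zero]

theorem Dec.sGL_pres {j : Fin t} {u b : ι → F} (hu : u ∈ D j) (hb : b ∈ D j) (hQu : Q u = 0)
    (hub : B u b = 0) (i : Fin t) {y : ι → F} (hy : y ∈ D i) :
    (sGL Q B u b).val *ᵥ y ∈ D i := by
  rw [sGL_act X.space hQu hub]
  by_cases h : i = j
  · subst h
    exact (D i).sub_mem ((D i).add_mem hy ((D i).smul_mem _ hb)) ((D i).smul_mem _ hu)
  · rw [X.orth j i (Ne.symm h) u hu y hy, X.orth j i (Ne.symm h) b hb y hy]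
    simpa using hy

variable [Finite F]

theorem Dec.exists_norm (l : Fin t) {c : F} (hc : c ≠ 0) : ∃ x ∈ D l, Q x = c :=
  ODec.exists_norm X.space (X.nd l) (by rw [X.dim]; exact X.k2) hc

/-- Every isometry is corrected into `Ω` by reflections of one block. -/
theorem Dec.exists_correct (l : Fin t) {g : GL ι F} (hg : g ∈ isometryGroup F Q) :
    ∃ c : GL ι F, (∀ i, ∀ y ∈ D i, c.val *ᵥ y ∈ D i) ∧ (∀ i, i ≠ l → ∀ y ∈ D i, c.val *ᵥ y = y) ∧
      g * c ∈ Cfsg.Geo.omegaGL Q := by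
  have C := X.space
  have h5 := X.five
  set K : Subgroup (GL ι F) := Subgroup.closure {h | ∃ c ∈ D l, Q c ≠ 0 ∧ h = rGL Q c} with hK
  have hKI : K ≤ isometryGroup F Q := (Subgroup.closure_le _).mpr (by
    rintro _ ⟨c, -, hQc, rfl⟩
    exact rGL_mem C hQc)
  have props : ∀ c ∈ K, (∀ i, ∀ y ∈ D i, c.val *ᵥ y ∈ D i) ∧
      ∀ i, i ≠ l → ∀ y ∈ D i, c.val *ᵥ y = y := by
    intro c hc
    refine Subgroup.closure_induction (p := fun c _ => (∀ i, ∀ y ∈ D i, c.val *ᵥ y ∈ D i) ∧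
      ∀ i, i ≠ l → ∀ y ∈ D i, c.val *ᵥ y = y) ?_ ?_ ?_ ?_ hc
    · rintro _ ⟨p, hp, hQp, rfl⟩
      exact ⟨fun i y hy => X.refl_pres hp hQp i hy, fun i hi y hy => X.refl_other hi hp hQp hy⟩
    · exact ⟨fun i y hy => by simpa using hy, fun i _ y _ => by simp⟩
    · rintro a b - - ⟨ha, ha'⟩ ⟨hb, hb'⟩
      exact ⟨fun i y hy => by rw [mul_act]; exact ha i _ (hb i y hy),
        fun i hi y hy => by rw [mul_act, hb' i hi y hy, ha' i hi y hy]⟩
    · rintro a - ⟨ha, ha'⟩
      exact ⟨fun i y hy => stab_mem (Subgroup.inv_mem _ (mem_stab_of_mapsTo (ha i))) hy,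
        fun i hi y hy => act_injective a (by simp only [act_inv, ha' i hi y hy])⟩
  suffices h : ∃ c ∈ K, g * c ∈ Root Q B ⊤ by
    obtain ⟨c, hc, hcg⟩ := h
    exact ⟨c, (props c hc).1, (props c hc).2, by rw [omegaGL_eq C h5]; exact hcg⟩
  have hconj : ∀ {g x}, g ∈ isometryGroup F Q → x ∈ Root Q B ⊤ → g * x * g⁻¹ ∈ Root Q B ⊤ :=
    fun hg hx => root_conj C hg hx
  rw [iso_eq_closure C] at hg
  refine Subgroup.closure_induction (p := fun g _ => ∃ c ∈ K, g * c ∈ Root Q B ⊤) ?_ ?_ ?_ ?_ hg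
  · rintro x (⟨v, hv, rfl⟩ | ⟨u, v, hu, -, huv, rfl⟩)
    · obtain ⟨z, hz, hQz⟩ := X.exists_norm l hv
      refine ⟨_, Subgroup.subset_closure ⟨z, hz, hQz ▸ hv, rfl⟩, ?_⟩
      rw [← comm_eq_root C h5]
      exact rGL_mul_rGL_mem C h5 hv hQz.symm
    · exact ⟨1, one_mem _, by rw [mul_one]; exact sGL_mem_root trivial trivial hu huv⟩
  · exact ⟨1, one_mem _, by rw [mul_one]; exact one_mem _⟩
  · rintro a b ha hb ⟨c1, hc1, h1⟩ ⟨c2, hc2, h2⟩
    refine ⟨c2 * c1, mul_mem hc2 hc1, ?_⟩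
    rw [show a * b * (c2 * c1) = (a * (b * c2) * a⁻¹) * (a * c1) by group]
    exact mul_mem (hconj ((iso_eq_closure C).symm ▸ ha) h2) h1
  · rintro a ha ⟨c, hc, h⟩
    refine ⟨c⁻¹, inv_mem hc, ?_⟩
    have := inv_mem (hconj (hKI hc) h)
    rwa [show (c * (a * c) * c⁻¹)⁻¹ = a⁻¹ * c⁻¹ by group] at this

end

/-- A subgroup of the isometry group containing the stabiliser in `Ω`. -/
structure Ctx (Q : (ι → F) → F) (B : LinearMap.BilinForm F (ι → F))
    (D : Fin t → Submodule F (ι → F)) (k : ℕ) (H : Subgroup (GL ι F)) : Prop where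
  dec : Dec Q B D k
  le_iso : H ≤ isometryGroup F Q
  le : Cfsg.Geo.decompositionStabilizer D ⊓ Cfsg.Geo.omegaGL Q ≤ H

omit [Fintype ι] [DecidableEq ι] in
/-- The reflection of a multiple. -/
theorem smul_norm_ne {Q : (ι → F) → F} (h : ∀ (c : F) v, Q (c • v) = c ^ 2 * Q v) {c : F} {v : ι → F}
    (hc : c ≠ 0) (hv : Q v ≠ 0) : Q (c • v) ≠ 0 := by
  rw [h]; exact mul_ne_zero (pow_ne_zero _ hc) hv

theorem rGL_smul (C : Space Q B) {c : F} {v : ι → F} (hc : c ≠ 0) (hv : Q v ≠ 0) :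
    rGL Q (c • v) = rGL Q v := by
  refine gl_ext fun x => ?_
  rw [rGL_act C (smul_norm_ne C.smul hc hv), rGL_act C hv, C.smul, map_smul, LinearMap.smul_apply,
    smul_smul, smul_eq_mul]
  congr 2
  field_simp

section Ctx

variable [Finite F] {H : Subgroup (GL ι F)} (T : Ctx Q B D k H)

include T

omit [Finite F] in
theorem Ctx.mem_of_pres {g : GL ι F} (hg : g ∈ Cfsg.Geo.omegaGL Q)
    (h : ∀ i, ∀ y ∈ D i, g.val *ᵥ y ∈ D i) : g ∈ H :=
  T.le ⟨T.dec.mem_stab_of_perm 1 h, hg⟩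

theorem Ctx.sGL_mem_block {j : Fin t} {u b : ι → F} (hu : u ∈ D j) (hb : b ∈ D j)
    (hQu : Q u = 0) (hub : B u b = 0) : sGL Q B u b ∈ H :=
  T.mem_of_pres (by
    rw [omegaGL_eq T.dec.space T.dec.five]
    exact sGL_mem_root trivial trivial hQu hub)
    fun i _ hy => T.dec.sGL_pres hu hb hQu hub i hy

/-- Two reflections of block vectors with norms in one square class. -/
theorem Ctx.rr_mem {j l : Fin t} {p r : ι → F} (hp : p ∈ D j) (hr : r ∈ D l)
    (hQp : Q p ≠ 0) (hQr : Q r ≠ 0) (hpr : IsSquare (Q p / Q r)) : rGL Q p * rGL Q r ∈ H := by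
  have C := T.dec.space
  obtain ⟨a, ha⟩ := hpr
  have ha0 : a ≠ 0 := fun h => div_ne_zero hQp hQr (by rw [ha, h, mul_zero])
  rw [← rGL_smul C ha0 hQr]
  have hQ : Q (a • r) = Q p := by rw [C.smul, sq, ← ha, div_mul_cancel₀ _ hQr]
  refine T.mem_of_pres (by
    rw [omegaGL_eq C T.dec.five, ← comm_eq_root C T.dec.five]
    exact rGL_mul_rGL_mem C T.dec.five hQp hQ.symm)
    fun i y hy => ?_
  rw [mul_act]
  exact T.dec.refl_pres hp hQp i (T.dec.refl_pres ((D l).smul_mem a hr) (hQ ▸ hQp) i hy)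

theorem Ctx.rr_mem' {j l : Fin t} {p r : ι → F} (hp : p ∈ D j) (hr : r ∈ D l)
    (hQp : Q p ≠ 0) (hpr : Q p = Q r) : rGL Q p * rGL Q r ∈ H :=
  T.rr_mem hp hr hQp (hpr ▸ hQp) ⟨1, by rw [← hpr, div_self hQp, one_mul]⟩

/-- An element of `H` mapping the block `l` onto the block `j` and fixing all others pointwise. -/
theorem Ctx.exists_swap {l j : Fin t} (hlj : l ≠ j) :
    ∃ g ∈ H, (∀ i, i ≠ l → i ≠ j → ∀ y ∈ D i, g.val *ᵥ y = y) ∧
      (∀ y ∈ D j, ∃ z ∈ D l, g.val *ᵥ z = y) ∧ ∀ y ∈ D l, g.val *ᵥ y ∈ D j := by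
  have X := T.dec
  have C := X.space
  obtain ⟨e, he⟩ := X.isom l j
  let el : (ι → F) →ₗ[F] (ι → F) := (D j).subtype ∘ₗ e.toLinearMap ∘ₗ
    LinearMap.codRestrict (D l) (X.comp l) (X.comp_mem l)
  let ej : (ι → F) →ₗ[F] (ι → F) := (D l).subtype ∘ₗ e.symm.toLinearMap ∘ₗ
    LinearMap.codRestrict (D j) (X.comp j) (X.comp_mem j)
  have helm : ∀ x, el x ∈ D j := fun x => (e ⟨_, X.comp_mem l x⟩).2
  have hejm : ∀ x, ej x ∈ D l := fun x => (e.symm ⟨_, X.comp_mem j x⟩).2
  have helQ : ∀ x, Q (el x) = Q (X.comp l x) := fun x => he ⟨_, X.comp_mem l x⟩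
  have hejQ : ∀ x, Q (ej x) = Q (X.comp j x) := fun x => by
    have h := he (e.symm ⟨_, X.comp_mem j x⟩)
    rw [e.apply_symm_apply] at h
    exact h.symm
  let S : (ι → F) →ₗ[F] (ι → F) := LinearMap.id - X.comp l - X.comp j + el + ej
  have hS : ∀ x, S x = (x - X.comp l x - X.comp j x) + el x + ej x := fun x => rfl
  have hR : ∀ x, X.comp l (x - X.comp l x - X.comp j x) = 0 ∧
      X.comp j (x - X.comp l x - X.comp j x) = 0 := fun x => by
    simp only [map_sub, X.comp_self (X.comp_mem l x), X.comp_self (X.comp_mem j x),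
      X.comp_other (Ne.symm hlj) (X.comp_mem j x), X.comp_other hlj (X.comp_mem l x), sub_self,
      sub_zero, and_self]
  have hCl : ∀ x, X.comp l (S x) = ej x := fun x => by
    rw [hS, map_add, map_add, X.comp_other (Ne.symm hlj) (helm x), X.comp_self (hejm x),
      (hR x).1]
    simp
  have hCj : ∀ x, X.comp j (S x) = el x := fun x => by
    rw [hS, map_add, map_add, X.comp_other hlj (hejm x), X.comp_self (helm x), (hR x).2]
    simp
  have hinv : ∀ x, S (S x) = x := fun x => by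
    have e1 : el (S x) = X.comp j x := by
      show ((e ⟨X.comp l (S x), _⟩ : D j) : ι → F) = _
      rw [show (⟨X.comp l (S x), X.comp_mem l _⟩ : D l) = e.symm ⟨_, X.comp_mem j x⟩ from
        Subtype.ext (hCl x), e.apply_symm_apply]
    have e2 : ej (S x) = X.comp l x := by
      show ((e.symm ⟨X.comp j (S x), _⟩ : D l) : ι → F) = _
      rw [show (⟨X.comp j (S x), X.comp_mem j _⟩ : D j) = e ⟨_, X.comp_mem l x⟩ from
        Subtype.ext (hCj x), e.symm_apply_apply]
    rw [hS (S x), hCl, hCj, e1, e2, hS]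
    abel
  have hQS : ∀ x, Q (S x) = Q x := fun x => by
    rw [X.Q_sum, X.Q_sum x]
    rw [← Finset.sum_erase_add _ _ (Finset.mem_univ l), ← Finset.sum_erase_add _ (fun m => Q (X.comp m x)) (Finset.mem_univ l)]
    rw [← Finset.sum_erase_add _ _ (Finset.mem_erase.mpr ⟨Ne.symm hlj, Finset.mem_univ j⟩),
      ← Finset.sum_erase_add _ (fun m => Q (X.comp m x))
        (Finset.mem_erase.mpr ⟨Ne.symm hlj, Finset.mem_univ j⟩)]
    rw [hCl, hCj, helQ, hejQ, Finset.sum_congr rfl fun m hm => ?_]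
    · ring
    · simp only [Finset.mem_erase] at hm
      rw [hS, map_add, map_add, map_sub, map_sub, X.comp_other (Ne.symm hm.2.1) (X.comp_mem l x),
        X.comp_other (Ne.symm hm.1) (X.comp_mem j x), X.comp_other (Ne.symm hm.1) (helm x),
        X.comp_other (Ne.symm hm.2.1) (hejm x)]
      simp
  have hM : LinearMap.toMatrix' S * LinearMap.toMatrix' S = 1 := mat_ext fun x => by
    rw [← Matrix.mulVec_mulVec, LinearMap.toMatrix'_mulVec, LinearMap.toMatrix'_mulVec, hinv,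
      Matrix.one_mulVec]
  set g0 := toGL (LinearMap.toMatrix' S) with hg0
  have hact : ∀ x, g0.val *ᵥ x = S x := fun x => by
    rw [hg0, toGL_val hM, LinearMap.toMatrix'_mulVec]
  have hg0I : g0 ∈ isometryGroup F Q := mem_iso.mpr fun x => by rw [hact, hQS]
  obtain ⟨c, hc1, hc2, hΩ⟩ := X.exists_correct l hg0I
  have hSl : ∀ y ∈ D l, S y ∈ D j := fun y hy => by
    rw [hS, X.comp_self hy, X.comp_other hlj hy, sub_self, zero_sub, neg_zero, zero_add,
      show ej y = ((e.symm ⟨_, X.comp_mem j y⟩ : D l) : ι → F) from rfl,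
      show (⟨X.comp j y, X.comp_mem j y⟩ : D j) = 0 from Subtype.ext (X.comp_other hlj hy),
      map_zero, Submodule.coe_zero, add_zero]
    exact helm y
  have hSj : ∀ y ∈ D j, S y ∈ D l := fun y hy => by
    rw [hS, X.comp_self hy, X.comp_other (Ne.symm hlj) hy, sub_zero, sub_self, zero_add,
      show el y = ((e ⟨_, X.comp_mem l y⟩ : D j) : ι → F) from rfl,
      show (⟨X.comp l y, X.comp_mem l y⟩ : D l) = 0 from
        Subtype.ext (X.comp_other (Ne.symm hlj) hy),
      map_zero, Submodule.coe_zero, zero_add]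
    exact hejm y
  have hSo : ∀ m, m ≠ l → m ≠ j → ∀ y ∈ D m, S y = y := fun m h1 h2 y hy => by
    rw [hS, X.comp_other h1 hy, X.comp_other h2 hy,
      show el y = ((e ⟨_, X.comp_mem l y⟩ : D j) : ι → F) from rfl,
      show ej y = ((e.symm ⟨_, X.comp_mem j y⟩ : D l) : ι → F) from rfl,
      show (⟨X.comp l y, X.comp_mem l y⟩ : D l) = 0 from Subtype.ext (X.comp_other h1 hy),
      show (⟨X.comp j y, X.comp_mem j y⟩ : D j) = 0 from Subtype.ext (X.comp_other h2 hy)]
    simp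
  refine ⟨g0 * c, T.le ⟨X.mem_stab_of_perm (Equiv.swap l j) fun m y hy => ?_, hΩ⟩,
    fun i hil hij y hy => ?_, fun y hy => ?_,
    fun y hy => by rw [mul_act, hact]; exact hSl _ (hc1 l y hy)⟩
  · rw [mul_act, hact]
    have hy' := hc1 m y hy
    by_cases h1 : m = l
    · subst h1; rw [Equiv.swap_apply_left]; exact hSl _ hy'
    by_cases h2 : m = j
    · subst h2; rw [Equiv.swap_apply_right]; exact hSj _ hy'
    rw [Equiv.swap_apply_of_ne_of_ne h1 h2, hSo m h1 h2 _ hy']
    exact hy'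
  · rw [mul_act, hc2 i hil y hy, hact]
    exact hSo i hil hij y hy
  · have hz : (c⁻¹ : GL ι F).val *ᵥ S y ∈ D l :=
      stab_mem (Subgroup.inv_mem _ (mem_stab_of_mapsTo (hc1 l))) (hSj y hy)
    exact ⟨_, hz, by rw [mul_act, act_inv, hact, hinv]⟩

omit [Finite F] in
/-- An element of `H` fixing every vector of the blocks in which `x` has a component fixes `x`. -/
theorem Ctx.fix_of_blocks {g : GL ι F} {x : ι → F}
    (h : ∀ i, T.dec.comp i x ≠ 0 → g.val *ᵥ T.dec.comp i x = T.dec.comp i x) : g.val *ᵥ x = x := by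
  conv_lhs => rw [← T.dec.sum_comp x]
  rw [Matrix.mulVec_sum]
  conv_rhs => rw [← T.dec.sum_comp x]
  refine Finset.sum_congr rfl fun i _ => ?_
  by_cases hi : T.dec.comp i x = 0
  · rw [hi, Matrix.mulVec_zero]
  · exact h i hi

end Ctx

end Cfsg.Lib.Linear.ODec
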