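import Cfsg.Agent.Lib.Linear.OrthSplitMax

/-!
# Non-degenerate planes of a finite orthogonal space

The lines of a plane are counted through `Option F`; a binary form that is not zero vanishes on at
most two of them.
-/

set_option autoImplicit false

namespace Cfsg.Lib.Linear.ODec

open Module Cfsg.Lib.Linear.Orth
open scoped Matrix

variable {F : Type*} [Field F] {ι : Type}

/-- The vectors of the lines of the plane with basis `b0`, `b1`. -/
def line (b0 b1 : ι → F) : Option F → (ι → F)
  | some t => b0 + t • b1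
  | none => b1

open Classical in
/-- A binary form vanishing at three lines is zero. -/
theorem quad_zeros [Fintype F] (G0 G1 G2 : F) (hne : ¬ (G0 = 0 ∧ G1 = 0 ∧ G2 = 0))
    (p : Option F → F) (hs : ∀ t, p (some t) = G0 + G1 * t + G2 * t ^ 2) (hn : p none = G2) :
    (Finset.univ.filter fun o => p o = 0).card ≤ 2 := by
  by_contra hc
  push Not at hc
  obtain ⟨a, b, c, ha, hb, hc, hab, hac, hbc⟩ := Finset.two_lt_card_iff.mp hc
  simp only [Finset.mem_filter, Finset.mem_univ, true_and] at ha hb hc
  have two : ∀ r s, r ≠ s → p (some r) = 0 → p (some s) = 0 → G1 + G2 * (r + s) = 0 := by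
    intro r s hrs h1 h2
    rw [hs] at h1 h2
    have : (r - s) * (G1 + G2 * (r + s)) = 0 := by linear_combination h1 - h2
    exact (mul_eq_zero.mp this).resolve_left (sub_ne_zero.mpr hrs)
  have fin2 : ∀ r s, r ≠ s → p (some r) = 0 → p (some s) = 0 → G2 = 0 → False := by
    intro r s hrs h1 h2 hG
    have hG1 := two r s hrs h1 h2
    rw [hG, zero_mul, add_zero] at hG1
    rw [hs, hG, hG1] at h1
    exact hne ⟨by simpa using h1, hG1, hG⟩
  rcases a with _ | r <;> rcases b with _ | s <;> rcases c with _ | u
  · exact hab rfl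
  · exact hab rfl
  · exact hac rfl
  · exact fin2 s u (fun h => hbc (by rw [h])) hb hc (hn ▸ ha)
  · exact hbc rfl
  · exact fin2 r u (fun h => hac (by rw [h])) ha hc (hn ▸ hb)
  · exact fin2 r s (fun h => hab (by rw [h])) ha hb (hn ▸ hc)
  · have hrs : r ≠ s := fun h => hab (by rw [h])
    have hru : r ≠ u := fun h => hac (by rw [h])
    have hsu : s ≠ u := fun h => hbc (by rw [h])
    have h : (s - u) * G2 = 0 := by
      linear_combination two r s hrs ha hb - two r u hru ha hc
    exact fin2 r s hrs ha hb ((mul_eq_zero.mp h).resolve_left (sub_ne_zero.mpr hsu))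

variable [Fintype ι] [DecidableEq ι] {Q : (ι → F) → F} {B : LinearMap.BilinForm F (ι → F)}

/-- A non-degenerate plane with a basis. -/
structure Plane (Q : (ι → F) → F) (B : LinearMap.BilinForm F (ι → F))
    (U : Submodule F (ι → F)) (b0 b1 : ι → F) : Prop where
  space : Space Q B
  nd : NDeg B U
  mem0 : b0 ∈ U
  mem1 : b1 ∈ U
  indep : ∀ a b : F, a • b0 + b • b1 = 0 → a = 0 ∧ b = 0
  span : ∀ x ∈ U, ∃ a b : F, x = a • b0 + b • b1

theorem exists_plane (C : Space Q B) {U : Submodule F (ι → F)} (hU : NDeg B U)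
    (h2 : finrank F U = 2) : ∃ b0 b1, Plane Q B U b0 b1 := by
  let b := Module.finBasisOfFinrankEq F U h2
  refine ⟨(b 0 : ι → F), (b 1 : ι → F), C, hU, (b 0).2, (b 1).2, fun a c h => ?_, fun x hx => ?_⟩
  · have hli := Fintype.linearIndependent_iff.mp b.linearIndependent ![a, c] (by
      rw [Fin.sum_univ_two]
      apply Subtype.ext
      simpa using h)
    exact ⟨by simpa using hli 0, by simpa using hli 1⟩
  · refine ⟨b.repr ⟨x, hx⟩ 0, b.repr ⟨x, hx⟩ 1, ?_⟩
    have h := congrArg Subtype.val (b.sum_repr ⟨x, hx⟩)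
    rw [Fin.sum_univ_two] at h
    simpa using h.symm

section

variable {U : Submodule F (ι → F)} {b0 b1 : ι → F} (P : Plane Q B U b0 b1)

include P

theorem Plane.line_mem (o : Option F) : line b0 b1 o ∈ U := by
  rcases o with _ | t
  · exact P.mem1
  · exact U.add_mem P.mem0 (U.smul_mem t P.mem1)

theorem Plane.line_ne (o : Option F) : line b0 b1 o ≠ 0 := by
  rcases o with _ | t
  · exact fun h => one_ne_zero (P.indep 0 1 (by rw [one_smul, zero_smul, zero_add]; exact h)).2
  · exact fun h => one_ne_zero (P.indep 1 t (by rw [one_smul]; exact h)).1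

theorem Plane.line_inj {o o' : Option F} {c : F} (h : line b0 b1 o' = c • line b0 b1 o) : o' = o := by
  rcases o with _ | t <;> rcases o' with _ | s <;> simp only [line] at h
  · rfl
  · have := P.indep 1 (s - c) (by rw [one_smul, sub_smul, ← h]; abel)
    exact absurd this.1 one_ne_zero
  · have := P.indep c (c * t - 1) (by
      rw [smul_add, smul_smul] at h
      rw [sub_smul, one_smul, ← add_sub_assoc, ← h, sub_self])
    obtain ⟨hc, h1⟩ := this
    simp [hc] at h1
  · have := P.indep (1 - c) (s - c * t) (by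
      rw [smul_add, smul_smul] at h
      rw [sub_smul, one_smul, sub_smul,
        show b0 - c • b0 + (s • b1 - (c * t) • b1) = (b0 + s • b1) - (c • b0 + (c * t) • b1) by abel,
        h, sub_self])
    obtain ⟨hc, hs⟩ := this
    rw [← sub_eq_zero.mp hc, one_mul] at hs
    rw [sub_eq_zero.mp hs]

theorem Plane.exists_line {x : ι → F} (hx : x ∈ U) (hx0 : x ≠ 0) :
    ∃ o, ∃ c : F, c ≠ 0 ∧ x = c • line b0 b1 o := by
  obtain ⟨a, b, rfl⟩ := P.span x hx
  by_cases ha : a = 0
  · refine ⟨none, b, fun hb => hx0 (by simp [ha, hb]), by simp [line, ha]⟩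
  · exact ⟨some (b / a), a, ha, by
      simp only [line, smul_add, smul_smul, mul_div_cancel₀ _ ha]⟩

variable [Fintype F]

open Classical in
/-- A form on the plane vanishes on at most two lines, unless it is zero. -/
theorem Plane.zeros_le_two {G : (ι → F) → F} {β : F}
    (hG : ∀ a b : F, G (a • b0 + b • b1) = a ^ 2 * G b0 + a * b * β + b ^ 2 * G b1)
    (hne : ∃ x ∈ U, G x ≠ 0) :
    (Finset.univ.filter fun o => G (line b0 b1 o) = 0).card ≤ 2 := by
  refine quad_zeros (G b0) β (G b1) (fun h => ?_) _ (fun t => ?_) rfl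
  · obtain ⟨x, hx, hGx⟩ := hne
    obtain ⟨a, b, rfl⟩ := P.span x hx
    rw [hG, h.1, h.2.1, h.2.2] at hGx
    exact hGx (by ring)
  · have := hG 1 t
    simp only [one_smul] at this
    show G (b0 + t • b1) = _
    rw [this]; ring

open Classical in
/-- The non-singular lines. -/
noncomputable def lines (Q : (ι → F) → F) (b0 b1 : ι → F) : Finset (Option F) :=
  Finset.univ.filter fun o => Q (line b0 b1 o) ≠ 0

omit P [DecidableEq ι] [Fintype ι] in
theorem mem_lines {o : Option F} : o ∈ lines Q b0 b1 ↔ Q (line b0 b1 o) ≠ 0 := by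
  classical simp [lines]

theorem Plane.card_lines : Fintype.card F - 1 ≤ (lines Q b0 b1).card := by
  classical
  have C := P.space
  have hz := P.zeros_le_two (G := Q) (β := B b0 b1) (fun a b => by rw [C.smul_add]; ring)
    (exists_nonsing C P.nd fun h => P.line_ne none (by
      have := P.line_mem none
      rwa [h, Submodule.mem_bot] at this))
  have h := Finset.card_filter_add_card_filter_not
    (s := (Finset.univ : Finset (Option F))) (fun o => Q (line b0 b1 o) = 0)
  rw [Finset.card_univ, Fintype.card_option] at h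
  have e : lines Q b0 b1 = Finset.univ.filter fun o => ¬ Q (line b0 b1 o) = 0 := by
    ext o; simp [lines]
  rw [e]
  omega

theorem Plane.card_lines_aniso (ha : ∀ x ∈ U, Q x = 0 → x = 0) :
    (lines Q b0 b1).card = Fintype.card F + 1 := by
  classical
  have e : lines Q b0 b1 = Finset.univ := Finset.eq_univ_of_forall fun o =>
    mem_lines.mpr fun h => P.line_ne o (ha _ (P.line_mem o) h)
  rw [e, Finset.card_univ, Fintype.card_option]

/-- The only line perpendicular to a non-zero vector of the plane. -/
theorem Plane.perp_unique {x : ι → F} (hx : x ∈ U) (hx0 : x ≠ 0) {o o' : Option F}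
    (h : B x (line b0 b1 o) = 0) (h' : B x (line b0 b1 o') = 0) : o = o' := by
  by_contra hne
  refine hx0 (P.nd x hx fun y hy => ?_)
  set v := line b0 b1 o with hv
  set w := line b0 b1 o' with hw
  have hsp : ∀ z, B x z = 0 → ∀ c : F, B x (c • z) = 0 := fun z hz c => by rw [map_smul, hz, smul_zero]
  have hb : B x b0 = 0 ∧ B x b1 = 0 := by
    rcases o with _ | t <;> rcases o' with _ | s
    · exact absurd rfl hne
    · simp only [hv, hw, line] at h h'
      rw [map_add, map_smul, h, smul_zero, add_zero] at h'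
      exact ⟨h', h⟩
    · simp only [hv, hw, line] at h h'
      rw [map_add, map_smul, h', smul_zero, add_zero] at h
      exact ⟨h, h'⟩
    · simp only [hv, hw, line, map_add, map_smul, smul_eq_mul] at h h'
      have hts : (t - s) * B x b1 = 0 := by linear_combination h - h'
      have hb1 := (mul_eq_zero.mp hts).resolve_left (sub_ne_zero.mpr fun e => hne (by rw [e]))
      rw [hb1, mul_zero, add_zero] at h
      exact ⟨h, hb1⟩
  obtain ⟨a, b, rfl⟩ := P.span y hy
  rw [map_add, hsp _ hb.1, hsp _ hb.2, add_zero]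

end

/-- A non-degenerate plane represents every non-zero value. -/
theorem exists_norm [Finite F] (C : Space Q B) {U : Submodule F (ι → F)} (hU : NDeg B U)
    (h2 : 2 ≤ finrank F U) {c : F} (hc : c ≠ 0) : ∃ x ∈ U, Q x = c := by
  classical
  have := Fintype.ofFinite F
  by_cases hs : ∃ e ∈ U, e ≠ 0 ∧ Q e = 0
  · obtain ⟨e, he, he0, hQe⟩ := hs
    obtain ⟨f, hH⟩ := exists_hyp C hU he he0 hQe
    exact ⟨e + c • f, U.add_mem he (U.smul_mem c hH.memF), by
      rw [C.add, C.smul, hQe, hH.singF, map_smul, hH.pair]; simp⟩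
  push Not at hs
  obtain ⟨p, hp, hQp⟩ := exists_nonsing C hU fun h => by rw [h, finrank_bot] at h2; omega
  by_cases h20 : (2 : F) = 0
  · have : ringChar F = 2 := CharP.ringChar_of_prime_eq_zero Nat.prime_two (by exact_mod_cast h20)
    obtain ⟨a, ha⟩ := FiniteField.isSquare_of_char_two this (c / Q p)
    exact ⟨a • p, U.smul_mem a hp, by rw [C.smul, sq, ← ha, div_mul_cancel₀ _ hQp]⟩
  have hp0 : p ≠ 0 := fun h => hQp (h ▸ C.zero)
  obtain ⟨a, ha, ha0⟩ := Submodule.exists_mem_ne_zero_of_ne_bot
    (p := perpIn B U (Submodule.span F {p})) fun h => by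
      have := finrank_perpIn (B := B) U (Submodule.span F {p})
      rw [h, finrank_bot, finrank_span_singleton hp0] at this
      omega
  have hQa : Q a ≠ 0 := hs a ha.1 ha0
  have hpa : B p a = 0 := ha.2 p (Submodule.mem_span_singleton_self p)
  have hodd : Fintype.card F % 2 = 1 := FiniteField.odd_card_of_char_ne_two fun h => h20 (by
    haveI := ringChar.charP F
    have := CharP.cast_eq_zero F (ringChar F)
    rw [h] at this
    exact_mod_cast this)
  obtain ⟨r, s, hrs⟩ := FiniteField.exists_root_sum_quadratic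
    (f := Polynomial.C (Q p) * Polynomial.X ^ 2)
    (g := Polynomial.C (Q a) * Polynomial.X ^ 2 + Polynomial.C (-c))
    (Polynomial.degree_C_mul_X_pow 2 hQp)
    (by
      rw [Polynomial.degree_add_eq_left_of_degree_lt] <;> rw [Polynomial.degree_C_mul_X_pow 2 hQa]
      · rfl
      · exact lt_of_le_of_lt Polynomial.degree_C_le (by norm_num))
    hodd
  simp only [Polynomial.eval_add, Polynomial.eval_mul, Polynomial.eval_pow, Polynomial.eval_C,
    Polynomial.eval_X] at hrs
  refine ⟨r • p + s • a, U.add_mem (U.smul_mem r hp) (U.smul_mem s ha.1), ?_⟩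
  rw [C.smul_add, hpa]
  linear_combination hrs

end Cfsg.Lib.Linear.ODec
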