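import Cfsg.Agent.Lib.Linear.ODec.ExactValues

/-!
# Class vectors with more components
-/

set_option autoImplicit false

namespace Cfsg.Lib.Linear.ODec

open Module Cfsg.Lib.Linear.Orth
open scoped Matrix

variable {ι : Type} [Fintype ι] [DecidableEq ι] {F : Type*} [Field F]
  {Q : (ι → F) → F} {B : LinearMap.BilinForm F (ι → F)}
  {t : ℕ} {D : Fin t → Submodule F (ι → F)} {k : ℕ}

section Ctx

variable [Fintype F] {H : Subgroup (GL ι F)} (T : Ctx Q B D k H) (hS : Small Q D k) {ν : F}

include T

/-- Move one component into an empty block. -/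
theorem Ctx.one_swap (hν : ν ≠ 0) {x : ι → F} (hx : InC Q D H ν x) {i f j : Fin t} (hif : i ≠ f)
    (hji : j ≠ i) (hjf : j ≠ f) (hi : T.dec.comp i x ≠ 0) (hf : T.dec.comp f x = 0) :
    ∃ y, InC Q D H ν y ∧ T.dec.comp i y = 0 ∧ T.dec.comp f y ≠ 0 ∧
      ∀ m, m ≠ i → m ≠ f → T.dec.comp m y = T.dec.comp m x := by
  have X := T.dec
  obtain ⟨g, hg, hfix, -, hgl⟩ := T.exists_swap hif
  obtain ⟨p, hp, hQp⟩ := X.exists_norm j hν
  have hgp : g.val *ᵥ p ∈ D j := by rw [hfix j hji hjf p hp]; exact hp
  refine ⟨g.val *ᵥ x, hx.act T hν hg hp hQp hgp, ?_⟩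
  have hrest : g.val *ᵥ (x - X.comp i x) = x - X.comp i x := T.fix_of_blocks fun m hm => by
    rw [map_sub] at hm
    refine hfix m (fun e => hm (by rw [e, X.comp_self (X.comp_mem i x), sub_self]))
      (fun e => hm (by rw [e, hf, X.comp_other hif (X.comp_mem i x), sub_zero])) _ (X.comp_mem m _)
  have hgx : g.val *ᵥ x = (x - X.comp i x) + g.val *ᵥ X.comp i x := by
    rw [Matrix.mulVec_sub] at hrest
    linear_combination (norm := module) hrest
  have hm' := hgl _ (X.comp_mem i x)
  refine ⟨?_, ?_, fun m hmi hmf => ?_⟩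
  · rw [hgx, map_add, map_sub, X.comp_self (X.comp_mem i x), sub_self,
      X.comp_other (Ne.symm hif) hm', add_zero]
  · rw [hgx, map_add, map_sub, hf, X.comp_other hif (X.comp_mem i x), sub_zero, zero_add,
      X.comp_self hm']
    exact act_ne_zero hi
  · rw [hgx, map_add, map_sub, X.comp_other (Ne.symm hmi) (X.comp_mem i x), sub_zero,
      X.comp_other (Ne.symm hmf) hm', add_zero]

include hS

omit hS in
open Classical in
/-- Move one component by a reflection of its block. -/
theorem Ctx.exists_moved_comp (hν : ν ≠ 0) {x : ι → F} (hx : InC Q D H ν x) {j : Fin t}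
    {s : ι → F} (hsm : s ∈ D j) (ho : Q s ≠ 0) (hj0 : T.dec.comp j x ≠ 0)
    (hempty : ∃ m, T.dec.comp m x = 0) :
    ∃ x1, InC Q D H ν x1 ∧
      T.dec.comp j x1 = T.dec.comp j x - ((Q s)⁻¹ * B (T.dec.comp j x) s) • s ∧
      ∀ i, i ≠ j → T.dec.comp i x1 = T.dec.comp i x := by
  have X := T.dec
  have C := X.space
  have hsx : B s x = B (X.comp j x) s := by rw [X.comp_B j x hsm, C.symm]
  refine ⟨moved Q B x {j} (fun _ => s), ?_, ?_, fun i hi => ?_⟩
  · obtain ⟨hE, hO⟩ := hx.moved_mem T hν {j} (fun _ => s) (fun i hi => by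
      rw [Finset.mem_singleton.mp hi]; exact hsm) (fun _ _ => ho)
    by_cases hev : Even (({j} : Finset (Fin t)).filter fun _ => ¬ IsSquare (Q s / ν)).card
    · exact hE hev
    obtain ⟨m, hm⟩ := hempty
    rcases T.free_of_zero (ν := ν) hm with hall | -
    · exact absurd (by rw [Finset.filter_false_of_mem fun _ _ h' => h' (hall j s hsm ho)]; simp) hev
    have hns' : ¬ IsSquare (Q s / ν) := fun h => hev (by
      rw [Finset.filter_false_of_mem fun _ _ h' => h' h]; simp)
    obtain ⟨z, hz, hQz⟩ := X.exists_norm m ho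
    have hQz0 : Q z ≠ 0 := hQz ▸ ho
    have h3 := hO hev m z hz hQz0 (hQz ▸ hns')
    have hmj : m ≠ j := fun e => hj0 (by rw [← e]; exact hm)
    rwa [rGL_fix C hQz0 (by
      rw [moved, Finset.sum_singleton, map_sub, map_smul, X.orth m j hmj z hz s hsm, smul_zero,
        sub_zero, C.symm]
      exact T.perp_block hm hz)] at h3
  · rw [moved, Finset.sum_singleton, map_sub, map_smul, X.comp_self hsm, hsx]
  · rw [moved, Finset.sum_singleton, map_sub, map_smul, X.comp_other (Ne.symm hi) hsm, smul_zero,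
      sub_zero]

open Classical in
/-- Two or three non-singular components give more. -/
theorem Ctx.boost (hk : k = 2) (hν : ν ≠ 0) {x : ι → F} (hx : InC Q D H ν x)
    (hns : ∀ i, T.dec.comp i x ≠ 0 → Q (T.dec.comp i x) ≠ 0)
    (h2 : 2 ≤ (Finset.univ.filter fun i => T.dec.comp i x ≠ 0).card)
    (h3 : (Finset.univ.filter fun i => T.dec.comp i x ≠ 0).card ≤ 3) :
    ∃ z, InC Q D H ν z ∧ ((∃ m, T.dec.comp m z = 0) ∨
        3 ≤ (Finset.univ.filter fun i => T.dec.comp i x ≠ 0).card) ∧
      2 * (Finset.univ.filter fun i => T.dec.comp i x ≠ 0).card ≤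
        (Finset.univ.filter fun i => T.dec.comp i z ≠ 0).card + 1 := by
  have X := T.dec
  have C := X.space
  have ht := X.t6 hk
  set S := Finset.univ.filter fun i => X.comp i x ≠ 0 with hSdef
  have hmemS : ∀ {i}, i ∈ S ↔ X.comp i x ≠ 0 := fun {i} => by simp [hSdef]
  obtain ⟨j, hjS⟩ := Finset.card_pos.mp (show 0 < S.card by omega)
  have hj0 := hmemS.mp hjS
  set xj := X.comp j x with hxj
  have hc0 : Q xj ≠ 0 := hns j hj0
  obtain ⟨b0, b1, P⟩ := X.exists_plane hk j
  obtain ⟨-, hl2, hl5⟩ := X.lines_ok hS hk P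
  have hcard := P.card_fvals (by rw [X.dim, hk]) (X.comp_mem j x) hj0
  -- a value avoiding `2c` and `4c`
  obtain ⟨v, hv, hv2, hv4⟩ : ∃ v ∈ fvals Q B b0 b1 xj, v ≠ 2 * Q xj ∧ v ≠ 4 * Q xj := by
    by_contra hne
    push Not at hne
    have hsub : fvals Q B b0 b1 xj ⊆ {2 * Q xj, 4 * Q xj} := fun v hv => by
      rw [Finset.mem_insert, Finset.mem_singleton]
      by_cases h : v = 2 * Q xj
      · exact Or.inl h
      · exact Or.inr (hne v hv h)
    by_cases h20 : (2 : F) = 0
    · obtain ⟨v, hv⟩ := Finset.card_pos.mp (show 0 < (fvals Q B b0 b1 xj).card by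
        rw [← hxj] at hcard
        omega)
      have := hsub hv
      rw [show (4 : F) * Q xj = 0 by linear_combination (2 * Q xj) * h20,
        show (2 : F) * Q xj = 0 by rw [h20, zero_mul]] at this
      exact fvals_ne_zero hv (by simpa using this)
    · have := (Finset.card_le_card hsub).trans Finset.card_le_two
      have := hl5 h20
      rw [← hxj] at hcard
      omega
  obtain ⟨o, ho, hox, hov⟩ := mem_fvals.mp hv
  set s := line b0 b1 o with hs
  have hsm : s ∈ D j := P.line_mem o
  obtain ⟨x1, hx1, hx1j, hx1o⟩ := T.exists_moved_comp hν hx hsm ho hj0 (by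
    by_contra h
    push Not at h
    have : S = Finset.univ := Finset.eq_univ_of_forall fun i => hmemS.mpr (h i)
    rw [this, Finset.card_univ, Fintype.card_fin] at h3
    omega)
  set xj' := xj - ((Q s)⁻¹ * B xj s) • s with hxj'
  have hBB : B xj xj' = 2 * Q xj - v := by
    rw [hxj', map_sub, map_smul, C.self, smul_eq_mul, ← hov]
    field_simp
  have hQxj' : Q xj' = Q xj := by
    have e : xj' = (rGL Q s).val *ᵥ xj := by rw [hxj', rGL_act C ho, C.symm xj s]
    rw [e, mem_iso.mp (rGL_mem C ho)]
  -- empty the other components of `x`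
  have hreloc : ∀ R : Finset (Fin t), R ⊆ S.erase j → ∃ y, InC Q D H ν y ∧ X.comp j y = xj' ∧
      (∀ i ∈ R, X.comp i y = 0) ∧ (∀ i ∈ S.erase j, i ∉ R → X.comp i y = X.comp i x) ∧
      ((Finset.univ.filter fun i => X.comp i y ≠ 0) \ S).card = R.card := by
    intro R
    induction R using Finset.induction with
    | empty =>
      intro _
      refine ⟨x1, hx1, hx1j, by simp, fun i hi _ => hx1o i (Finset.ne_of_mem_erase hi), ?_⟩
      rw [Finset.card_empty, Finset.card_eq_zero, Finset.sdiff_eq_empty_iff_subset]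
      intro i hi
      by_cases hij : i = j
      · exact hij ▸ hjS
      · exact hmemS.mpr (hx1o i hij ▸ (Finset.mem_filter.mp hi).2)
    | insert a R ha ih =>
      intro hR
      obtain ⟨y, hyC, hyj, hyR, hyo, hyc⟩ := ih fun i hi => hR (Finset.mem_insert_of_mem hi)
      have haS := hR (Finset.mem_insert_self a R)
      have hRS : R.card + 1 ≤ (S.erase j).card := by
        rw [← Finset.card_insert_of_notMem ha]; exact Finset.card_le_card hR
      rw [Finset.card_erase_of_mem hjS] at hRS
      obtain ⟨f, hf⟩ := Finset.card_pos.mp (show 0 < (Finset.univ \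
          (S ∪ ((Finset.univ.filter fun i => X.comp i y ≠ 0) \ S))).card by
        rw [Finset.card_sdiff_of_subset (Finset.subset_univ _), Finset.card_univ, Fintype.card_fin]
        have := Finset.card_union_le S ((Finset.univ.filter fun i => X.comp i y ≠ 0) \ S)
        omega)
      simp only [Finset.mem_sdiff, Finset.mem_univ, Finset.mem_union, true_and, not_or,
        Finset.mem_filter, not_and, not_not] at hf
      obtain ⟨hfS, hfy⟩ := hf
      have hfy0 : X.comp f y = 0 := by
        by_contra h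
        exact hfS (hfy h)
      have haS' := Finset.mem_of_mem_erase haS
      have haf : a ≠ f := fun e => hfS (e ▸ haS')
      have hya : X.comp a y ≠ 0 := by rw [hyo a haS ha]; exact hmemS.mp haS'
      obtain ⟨y', hy'C, hy'a, hy'f, hy'o⟩ := T.one_swap hν hyC haf
        (Ne.symm (Finset.ne_of_mem_erase haS)) (fun e : j = f => hfS (e ▸ hjS)) hya hfy0
      refine ⟨y', hy'C, ?_, fun i hi => ?_, fun i hi hiR => ?_, ?_⟩
      · rw [hy'o j (Ne.symm (Finset.ne_of_mem_erase haS)) (fun e => hfS (e ▸ hjS)), hyj]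
      · rcases Finset.mem_insert.mp hi with rfl | hi
        · exact hy'a
        · have hiS := hR (Finset.mem_insert_of_mem hi)
          rw [hy'o i (fun e => ha (e ▸ hi)) (fun e => hfS (e ▸ Finset.mem_of_mem_erase hiS)), hyR i hi]
      · rw [Finset.mem_insert, not_or] at hiR
        rw [hy'o i hiR.1 (fun e => hfS (e ▸ Finset.mem_of_mem_erase hi)), hyo i hi hiR.2]
      · have e : (Finset.univ.filter fun i => X.comp i y' ≠ 0) \ S =
            insert f ((Finset.univ.filter fun i => X.comp i y ≠ 0) \ S) := by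
          ext i
          simp only [Finset.mem_sdiff, Finset.mem_filter, Finset.mem_univ, true_and, Finset.mem_insert]
          by_cases hif : i = f
          · simp [hif, hy'f, hfS]
          by_cases hia : i = a
          · simp [hia, haS', haf]
          · simp [hif, hy'o i hia hif]
        rw [e, Finset.card_insert_of_notMem (by simp [hfy0]), hyc,
          Finset.card_insert_of_notMem ha]
  obtain ⟨y, hyC, hyj, hyR, -, hyc⟩ := hreloc (S.erase j) le_rfl
  have hBxy : B x y = B xj xj' := by
    rw [X.B_sum x y, Finset.sum_eq_single j (fun i _ hij => ?_) (fun h => absurd (Finset.mem_univ j) h),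
      hyj]
    by_cases hi : i ∈ S
    · rw [hyR i (Finset.mem_erase.mpr ⟨hij, hi⟩), map_zero]
    · rw [not_not.mp (fun h => hi (hmemS.mpr h)), map_zero, LinearMap.zero_apply]
  have hQx : Q x ≠ 0 := hx.1 ▸ hν
  set β := ν⁻¹ * B x y with hβ
  have hβ0 : β ≠ 0 := by
    rw [hβ, hBxy, hBB]
    exact mul_ne_zero (inv_ne_zero hν) (sub_ne_zero.mpr (Ne.symm hv2))
  refine ⟨(rGL Q x).val *ᵥ y, hx.refl T hν hyC, ?_⟩
  have hz : (rGL Q x).val *ᵥ y = y - β • x := by rw [rGL_act C hQx, hx.1]
  rw [hz]
  have hsupp : (Finset.univ.filter fun i => X.comp i (y - β • x) ≠ 0) =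
      S ∪ ((Finset.univ.filter fun i => X.comp i y ≠ 0) \ S) := by
    ext i
    simp only [Finset.mem_filter, Finset.mem_univ, true_and, Finset.mem_union, Finset.mem_sdiff,
      map_sub, map_smul]
    by_cases hiS : i ∈ S
    · simp only [hiS, not_true_eq_false, and_false, or_false, iff_true]
      by_cases hij : i = j
      · rw [hij, hyj, ← hxj, sub_ne_zero]
        intro h
        have hsq : β ^ 2 = 1 := by
          have := congrArg Q h
          rw [hQxj', C.smul] at this
          exact mul_right_cancel₀ hc0 (by rw [one_mul]; exact this.symm)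
        rw [h, map_smul, C.self, smul_eq_mul] at hBB
        rcases sq_eq_one_iff.mp hsq with e | e <;> rw [e] at hBB
        · exact fvals_ne_zero hv (by linear_combination hBB)
        · exact hv4 (by linear_combination hBB)
      · rw [hyR i (Finset.mem_erase.mpr ⟨hij, hiS⟩), zero_sub, neg_ne_zero]
        exact smul_ne_zero hβ0 (hmemS.mp hiS)
    · have h0 : X.comp i x = 0 := not_not.mp fun h => hiS (hmemS.mpr h)
      simp [hiS, h0]
  have hc : (S ∪ ((Finset.univ.filter fun i => X.comp i y ≠ 0) \ S)).card = S.card + (S.card - 1) := by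
    rw [Finset.card_union_of_disjoint Finset.disjoint_sdiff, hyc, Finset.card_erase_of_mem hjS]
  refine ⟨?_, by rw [hsupp, hc]; omega⟩
  by_contra h
  push Not at h
  have : (Finset.univ.filter fun i => X.comp i (y - β • x) ≠ 0) = Finset.univ :=
    Finset.filter_true_of_mem fun i _ => h.1 i
  rw [hsupp] at this
  rw [this, Finset.card_univ, Fintype.card_fin] at hc
  have h' : S.card < 3 := h.2
  omega

open Classical in
/-- Odd characteristic: three non-singular components give four and an empty block. -/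
theorem Ctx.boost_three (hk : k = 2) (h20 : (2 : F) ≠ 0) (hν : ν ≠ 0) {x : ι → F}
    (hx : InC Q D H ν x) (hns : ∀ i, T.dec.comp i x ≠ 0 → Q (T.dec.comp i x) ≠ 0)
    (h3 : (Finset.univ.filter fun i => T.dec.comp i x ≠ 0).card = 3) :
    ∃ z, InC Q D H ν z ∧ (∃ m, T.dec.comp m z = 0) ∧
      4 ≤ (Finset.univ.filter fun i => T.dec.comp i z ≠ 0).card := by
  have X := T.dec
  have C := X.space
  have ht := X.t6 hk
  set c : Fin t → F := fun i => Q (X.comp i x) with hc
  choose b0 b1 P using fun i => X.exists_plane hk i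
  have hV : ∀ i, X.comp i x ≠ 0 → 3 ≤ (fvals Q B (b0 i) (b1 i) (X.comp i x)).card := fun i hi => by
    have := (P i).card_fvals (by rw [X.dim, hk]) (X.comp_mem i x) hi
    have := (X.lines_ok hS hk (P i)).2.2 h20
    omega
  let E : Fin t → Fin t → Finset F := fun i i' =>
    {4 * c i, 2 * (c i + c i'), 2 * (c i + c i') - ν}
  -- the choice of the blocks and of the value
  obtain ⟨j, a, b, hja, hjb, hab, hj0, ha0, hb0, v, hv, hvE⟩ : ∃ j a b, j ≠ a ∧ j ≠ b ∧ a ≠ b ∧
      X.comp j x ≠ 0 ∧ X.comp a x ≠ 0 ∧ X.comp b x ≠ 0 ∧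
      ∃ v ∈ fvals Q B (b0 j) (b1 j) (X.comp j x), v ∉ E j b := by
    obtain ⟨p, q, r, hpq, hpr, hqr, hS3⟩ := Finset.card_eq_three.mp h3
    have hin : ∀ i ∈ ({p, q, r} : Finset (Fin t)), X.comp i x ≠ 0 := fun i hi => by
      rw [← hS3] at hi
      exact (Finset.mem_filter.mp hi).2
    have hp := hin p (by simp)
    have hq := hin q (by simp)
    have hr := hin r (by simp)
    by_contra hne
    push Not at hne
    have eqE : ∀ i i', X.comp i x ≠ 0 → (∀ v ∈ fvals Q B (b0 i) (b1 i) (X.comp i x), v ∈ E i i') →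
        E i i' = fvals Q B (b0 i) (b1 i) (X.comp i x) ∧ c i' ≠ c i := fun i i' hi h => by
      have h' := hV i hi
      refine ⟨(Finset.eq_of_subset_of_card_le h (le_trans Finset.card_le_three h')).symm,
        fun hcc => ?_⟩
      have hle : E i i' ⊆ {4 * c i, 4 * c i - ν} := fun z hz => by
        simp only [E, hcc, Finset.mem_insert, Finset.mem_singleton] at hz ⊢
        rcases hz with h | h | h
        · exact Or.inl h
        · exact Or.inl (h.trans (by ring))
        · exact Or.inr (h.trans (by ring))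
      have := ((Finset.card_le_card h).trans (Finset.card_le_card hle)).trans Finset.card_le_two
      omega
    have same : ∀ i a b, X.comp i x ≠ 0 →
        (∀ v ∈ fvals Q B (b0 i) (b1 i) (X.comp i x), v ∈ E i a) →
        (∀ v ∈ fvals Q B (b0 i) (b1 i) (X.comp i x), v ∈ E i b) → c a = c b := fun i a b hi h h' => by
      obtain ⟨e1, n1⟩ := eqE i a hi h
      obtain ⟨e2, n2⟩ := eqE i b hi h'
      have he : E i a = E i b := e1.trans e2.symm
      have m1 : 2 * (c i + c a) ∈ E i b := he ▸ by simp [E]
      have m2 : 2 * (c i + c b) ∈ E i a := he.symm ▸ by simp [E]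
      simp only [E, Finset.mem_insert, Finset.mem_singleton] at m1 m2
      rcases m1 with m1 | m1 | m1
      · exact absurd (mul_left_cancel₀ h20 (by linear_combination m1)) n1
      · exact mul_left_cancel₀ h20 (by linear_combination m1)
      rcases m2 with m2 | m2 | m2
      · exact absurd (mul_left_cancel₀ h20 (by linear_combination m2)) n2
      · exact (mul_left_cancel₀ h20 (by linear_combination m2)).symm
      · exact absurd (show (2 : F) * ν = 0 by linear_combination m1 + m2) (mul_ne_zero h20 hν)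
    have e1 : c q = c r := same p q r hp (hne p r q hpr hpq hqr.symm hp hr hq)
      (hne p q r hpq hpr hqr hp hq hr)
    have e2 : c p = c r := same q p r hq (hne q r p hqr hpq.symm hpr.symm hq hr hp)
      (hne q p r hpq.symm hqr hpr hq hp hr)
    exact (eqE p q hp (hne p r q hpr hpq hqr.symm hp hr hq)).2 (e1.trans e2.symm)
  simp only [E, Finset.mem_insert, Finset.mem_singleton, not_or] at hvE
  obtain ⟨hv4, hv2, hv1⟩ := hvE
  obtain ⟨o, ho, hox, hov⟩ := mem_fvals.mp hv
  set s := line (b0 j) (b1 j) o with hs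
  obtain ⟨f, hf⟩ : ∃ f, X.comp f x = 0 := by
    by_contra h
    push Not at h
    rw [Finset.filter_true_of_mem fun i _ => h i, Finset.card_univ, Fintype.card_fin] at h3
    omega
  obtain ⟨x1, hx1, hx1j, hx1o⟩ := T.exists_moved_comp hν hx ((P j).line_mem o) ho hj0 ⟨f, hf⟩
  have hjf : j ≠ f := fun e => hj0 (e ▸ hf)
  have haf : a ≠ f := fun e => ha0 (e ▸ hf)
  have hbf : b ≠ f := fun e => hb0 (e ▸ hf)
  obtain ⟨y, hy, hya, hyf, hyo⟩ := T.one_swap hν hx1 haf hja hjf (by rwa [hx1o a hja.symm])
    (by rw [hx1o f hjf.symm, hf])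
  have hyj : X.comp j y = X.comp j x - ((Q s)⁻¹ * B (X.comp j x) s) • s := by
    rw [hyo j hja hjf, hx1j]
  have hyb : X.comp b y = X.comp b x := by rw [hyo b hab.symm hbf, hx1o b hjb.symm]
  have hzero : ∀ i, i ≠ j → i ≠ b → X.comp i x = 0 ∨ i = a := by
    intro i h1 h2
    by_contra h
    push Not at h
    have hsub : ({j, a, b, i} : Finset (Fin t)) ⊆ Finset.univ.filter fun i => X.comp i x ≠ 0 := by
      intro l hl
      simp only [Finset.mem_insert, Finset.mem_singleton] at hl
      rcases hl with rfl | rfl | rfl | rfl <;> simp [hj0, ha0, hb0, h.1]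
    have := Finset.card_le_card hsub
    rw [Finset.card_insert_of_notMem (by simp [hja, hjb, Ne.symm h1]),
      Finset.card_insert_of_notMem (by simp [hab, Ne.symm h.2]),
      Finset.card_pair (Ne.symm h2), h3] at this
    omega
  have hBB : B (X.comp j x) (X.comp j y) = 2 * c j - v := by
    rw [hyj, map_sub, map_smul, C.self, smul_eq_mul, ← hov]
    simp only [hc, ← hs]
    field_simp
  have hBxy : B x y = 2 * c j - v + 2 * c b := by
    rw [X.B_sum x y, ← Finset.sum_subset (Finset.subset_univ ({j, b} : Finset (Fin t)))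
      (fun i _ hi => ?_), Finset.sum_pair hjb, hBB, hyb, C.self]
    simp only [Finset.mem_insert, Finset.mem_singleton, not_or] at hi
    rcases hzero i hi.1 hi.2 with h | h
    · rw [h, map_zero, LinearMap.zero_apply]
    · rw [h, hya, map_zero]
  have hQx : Q x ≠ 0 := hx.1 ▸ hν
  set β := ν⁻¹ * B x y with hβ
  have hβ0 : β ≠ 0 := mul_ne_zero (inv_ne_zero hν) fun h => hv2 (by linear_combination hBxy - h)
  have hβ1 : β ≠ 1 := fun h => hv1 (by
    rw [hβ, inv_mul_eq_iff_eq_mul₀ hν, mul_one] at h
    linear_combination hBxy - h)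
  have hz : (rGL Q x).val *ᵥ y = y - β • x := by rw [rGL_act C hQx, hx.1]
  refine ⟨(rGL Q x).val *ᵥ y, hx.refl T hν hy, ?_⟩
  rw [hz]
  have hcz : ∀ i, X.comp i (y - β • x) = X.comp i y - β • X.comp i x := fun i => by
    rw [map_sub, map_smul]
  obtain ⟨m, hm⟩ := Finset.card_pos.mp (show 0 < (Finset.univ \ ({j, a, b, f} : Finset (Fin t))).card by
    rw [Finset.card_sdiff_of_subset (Finset.subset_univ _), Finset.card_univ, Fintype.card_fin]
    have := Finset.card_le_four (a := j) (b := a) (c := b) (d := f)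
    omega)
  simp only [Finset.mem_sdiff, Finset.mem_univ, Finset.mem_insert, Finset.mem_singleton, true_and,
    not_or] at hm
  obtain ⟨m1, m2, m3, m4⟩ := hm
  refine ⟨⟨m, ?_⟩, ?_⟩
  · have hmx := (hzero m m1 m3).resolve_right m2
    rw [hcz, hyo m m2 m4, hx1o m m1, hmx, smul_zero, sub_zero]
  · have hsub : ({j, a, b, f} : Finset (Fin t)) ⊆
        Finset.univ.filter fun i => X.comp i (y - β • x) ≠ 0 := by
      intro l hl
      simp only [Finset.mem_insert, Finset.mem_singleton] at hl
      refine Finset.mem_filter.mpr ⟨Finset.mem_univ _, ?_⟩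
      rw [hcz]
      rcases hl with rfl | rfl | rfl | rfl
      · rw [sub_ne_zero]
        intro h
        have hsq : β ^ 2 = 1 := by
          have e : X.comp l y = (rGL Q s).val *ᵥ X.comp l x := by
            rw [hyj, rGL_act C ho, C.symm (X.comp l x) s]
          have := congrArg Q h
          rw [e, mem_iso.mp (rGL_mem C ho), C.smul] at this
          exact mul_right_cancel₀ (hns l hj0) (by rw [one_mul]; exact this.symm)
        rw [h, map_smul, C.self, smul_eq_mul] at hBB
        simp only [hc] at hBB hv4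
        rcases sq_eq_one_iff.mp hsq with e | e <;> rw [e] at hBB
        · exact fvals_ne_zero hv (by linear_combination hBB)
        · exact hv4 (by linear_combination hBB)
      · rw [hya, zero_sub, neg_ne_zero]
        exact smul_ne_zero hβ0 ha0
      · rw [hyb, show X.comp l x - β • X.comp l x = (1 - β) • X.comp l x by module]
        exact smul_ne_zero (sub_ne_zero.mpr hβ1.symm) hb0
      · rwa [hf, smul_zero, sub_zero]
    have hc4 := Finset.card_le_card hsub
    rw [Finset.card_insert_of_notMem (by simp [hja, hjb, hjf]),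
      Finset.card_insert_of_notMem (by simp [hab, haf]), Finset.card_pair hbf] at hc4
    exact hc4

end Ctx

end Cfsg.Lib.Linear.ODec
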