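import Cfsg.Agent.Lib.Linear.ODec.Pure
import Cfsg.Agent.Lib.Linear.OrthBlocks

/-!
# A root element across blocks gives `Ω`
-/

set_option autoImplicit false

namespace Cfsg.Lib.Linear.ODec

open Module Cfsg.Lib.Linear.Orth
open scoped Matrix

variable {ι : Type} [Fintype ι] [DecidableEq ι] {F : Type*} [Field F]
  {Q : (ι → F) → F} {B : LinearMap.BilinForm F (ι → F)}
  {t : ℕ} {D : Fin t → Submodule F (ι → F)} {k : ℕ}

/-- An isotropic non-degenerate subspace is spanned by its singular vectors. -/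
theorem span_sing_of_isotropic [Finite F] (C : Space Q B) {U : Submodule F (ι → F)} (hU : NDeg B U)
    {w : ι → F} (hw : w ∈ U) (hw0 : w ≠ 0) (hQw : Q w = 0) :
    U ≤ Submodule.span F {x | x ∈ U ∧ Q x = 0} := by
  by_cases h3 : 3 ≤ finrank F U
  · exact span_sing C hU h3
  obtain ⟨f, hf⟩ := exists_hyp C hU hw hw0 hQw
  have hli : LinearIndependent F ![w, f] := (LinearIndependent.pair_iff' hw0).mpr fun c hc => by
    have := hf.pair
    rw [← hc, map_smul, C.self_zero hQw, smul_zero] at this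
    exact zero_ne_one this
  have hle : Submodule.span F (Set.range ![w, f]) ≤ U := Submodule.span_le.mpr (by
    rintro _ ⟨a, rfl⟩
    fin_cases a
    exacts [hf.memE, hf.memF])
  conv_lhs => rw [← Submodule.eq_of_le_of_finrank_le hle (by
    rw [finrank_span_eq_card hli, Fintype.card_fin]; omega)]
  exact Submodule.span_mono (by
    rintro _ ⟨a, rfl⟩
    fin_cases a
    exacts [⟨hf.memE, hQw⟩, ⟨hf.memF, hf.singF⟩])

/-- Two isometric non-degenerate planes carry two perpendicular singular sums. -/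
theorem exists_sum_pair (C : Space Q B) {U V : Submodule F (ι → F)}
    (hUd : finrank F U = 2) (e : U ≃ₗ[F] V) (he : ∀ x : U, Q ((e x : V) : ι → F) = Q (x : ι → F))
    (horth : ∀ x ∈ U, ∀ y ∈ V, B x y = 0) {p r : ι → F} (hp : p ∈ U) (hQp : Q p = 1) (hr : r ∈ V)
    (hQr : Q r = -1) :
    ∃ q ∈ U, ∃ y ∈ V, q ∉ Submodule.span F {p} ∧ Q (q + y) = 0 ∧ B (p + r) (q + y) = 0 := by
  obtain ⟨q, hq, hqp⟩ : ∃ q ∈ U, q ∉ Submodule.span F {p} :=
    SetLike.not_le_iff_exists.mp fun h => by
      have h' := Submodule.finrank_mono h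
      rw [finrank_span_singleton (fun h0 => one_ne_zero (α := F) (by rw [← hQp, h0, C.zero]))] at h'
      omega
  have hp0 : p ≠ 0 := fun h0 => one_ne_zero (α := F) (by rw [← hQp, h0, C.zero])
  have hUeq : Submodule.span F {p, q} = U := by
    have hli : LinearIndependent F ![p, q] := (LinearIndependent.pair_iff' hp0).mpr fun c hc =>
      hqp (Submodule.mem_span_singleton.mpr ⟨c, hc⟩)
    have h2 := finrank_span_eq_card hli
    rw [Fintype.card_fin, Matrix.range_cons_cons_empty] at h2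
    refine Submodule.eq_of_le_of_finrank_le
      (Submodule.span_le.mpr (by rintro _ (rfl | rfl) <;> assumption)) ?_
    omega
  set p' : ι → F := ((e ⟨p, hp⟩ : V) : ι → F) with hp'
  set q' : ι → F := ((e ⟨q, hq⟩ : V) : ι → F) with hq'
  have hB : B p' q' = B p q := by
    have h := he (⟨p, hp⟩ + ⟨q, hq⟩)
    rw [map_add, Submodule.coe_add, Submodule.coe_add, C.add, C.add, he, he] at h
    exact add_left_cancel h
  obtain ⟨α, β, hαβ⟩ : ∃ α β : F, r = α • p' + β • q' := by
    obtain ⟨z, hz⟩ := e.surjective ⟨r, hr⟩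
    obtain ⟨α, β, h⟩ := Submodule.mem_span_pair.mp
      (show (z : ι → F) ∈ Submodule.span F {p, q} by rw [hUeq]; exact z.2)
    refine ⟨α, β, ?_⟩
    have hz' : z = α • ⟨p, hp⟩ + β • ⟨q, hq⟩ := Subtype.ext h.symm
    rw [hz', map_add, map_smul, map_smul] at hz
    exact (congrArg Subtype.val hz).symm
  have hQp' : Q p' = 1 := by rw [hp', he]; exact hQp
  have hQq' : Q q' = Q q := he ⟨q, hq⟩
  rw [hαβ, C.smul_add, hQp', hQq', hB] at hQr
  refine ⟨q, hq, (-(Q q * β)) • p' + (α + B p q * β) • q',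
    V.add_mem (V.smul_mem _ (e _).2) (V.smul_mem _ (e _).2), hqp, ?_, ?_⟩
  · rw [C.add, map_add, map_smul, map_smul, horth q hq p' (e _).2, horth q hq q' (e _).2,
      C.smul_add, hQp', hQq', hB]
    simp only [smul_eq_mul, mul_zero, add_zero]
    linear_combination (Q q) * hQr
  · simp only [hαβ, map_add, map_smul, LinearMap.add_apply, LinearMap.smul_apply, smul_eq_mul,
      horth p hp p' (e _).2, horth p hp q' (e _).2, C.symm p' q, C.symm q' q, C.symm q' p',
      horth q hq p' (e _).2, horth q hq q' (e _).2, C.self, hQp', hQq', hB]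
    linear_combination (B p q) * hQr

section Ctx

variable [Fintype F] {H : Subgroup (GL ι F)} (T : Ctx Q B D k H) (hS : Small Q D k)

include T

omit [Fintype F] in
/-- A block without component of `u` is perpendicular to it. -/
theorem Ctx.perp_block {u : ι → F} {j : Fin t} (h : T.dec.comp j u = 0) {y : ι → F} (hy : y ∈ D j) :
    B u y = 0 := by
  rw [← T.dec.comp_B j u hy, h, map_zero, LinearMap.zero_apply]

/-- Blocks off `u` are exchangeable. -/
theorem Ctx.block_swap {u : ι → F} (hu : Q u = 0) {l j : Fin t} (hul : T.dec.comp l u = 0)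
    (huj : T.dec.comp j u = 0) (hl : D l ≤ rootsAt Q B T.dec.space H u hu) :
    D j ≤ rootsAt Q B T.dec.space H u hu := by
  by_cases hlj : l = j
  · exact hlj ▸ hl
  obtain ⟨g, hg, hfix, hgj, -⟩ := T.exists_swap hlj
  have hgu : g.val *ᵥ u = u := T.fix_of_blocks fun i hi =>
    hfix i (fun h => hi (h ▸ hul)) (fun h => hi (h ▸ huj)) _ (T.dec.comp_mem i u)
  intro y hy
  obtain ⟨z, hz, rfl⟩ := hgj y hy
  exact rootsAt_act T.dec.space T.le_iso hg hgu (hl hz)

include hS

/-- A root element with centre in a block, reaching another block, gives all with that centre. -/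
theorem Ctx.centre_of_block {i : Fin t} {u a : ι → F} (hui : u ∈ D i) (hu : Q u = 0)
    (hua : B u a = 0) (hH : sGL Q B u a ∈ H) {l : Fin t} (hli : l ≠ i)
    (hal : T.dec.comp l a ≠ 0) : Centre Q B H u := by
  classical
  have X := T.dec
  have C := X.space
  have hz : ∀ j, j ≠ i → X.comp j u = 0 := fun j hj => X.comp_other (Ne.symm hj) hui
  have hl : D l ≤ rootsAt Q B C H u hu := T.block_le hS hu hua hH (hz l hli) hal fun hk => by
    have ht := X.t6 hk
    obtain ⟨m, hm⟩ := Finset.card_pos.mp (show 0 < ((Finset.univ.erase i).erase l).card by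
      rw [Finset.card_erase_of_mem (Finset.mem_erase.mpr ⟨hli, Finset.mem_univ l⟩),
        Finset.card_erase_of_mem (Finset.mem_univ i), Finset.card_univ, Fintype.card_fin]
      omega)
    simp only [Finset.mem_erase, Finset.mem_univ, and_true] at hm
    exact ⟨m, hm.1, hz m hm.2⟩
  intro b hb
  have hbM : b ∈ rootsAt Q B C H u hu := by
    rw [← X.sum_comp b]
    refine Submodule.sum_mem _ fun j _ => ?_
    by_cases hji : j = i
    · subst hji
      have hub : B u (X.comp j b) = 0 := by rw [X.comp_B' j b hui, hb]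
      exact ⟨hub, fun c => T.sGL_mem_block hui ((D j).smul_mem c (X.comp_mem j b)) hu
        (by rw [map_smul, hub, smul_zero])⟩
    · exact T.block_swap hu (hz l hli) (hz j hji) hl (X.comp_mem j b)
  simpa using hbM.2 1

/-- A root element with centre in a block, reaching another block, gives `Ω`. -/
theorem Ctx.omega_of_block {i : Fin t} {u a : ι → F} (hui : u ∈ D i) (hu0 : u ≠ 0) (hu : Q u = 0)
    (hua : B u a = 0) (hH : sGL Q B u a ∈ H) {l : Fin t} (hli : l ≠ i)
    (hal : T.dec.comp l a ≠ 0) : Cfsg.Geo.omegaGL Q ≤ H := by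
  have X := T.dec
  have C := X.space
  have hC := T.centre_of_block hS hui hu hua hH hli hal
  have key : ∀ w ∈ D l, Q w = 0 → Centre Q B H w := by
    intro w hw hQw
    have huw : B u w = 0 := X.orth i l (Ne.symm hli) u hui w hw
    have hs := hC w huw
    rw [sGL_swap C hu hQw huw] at hs
    refine T.centre_of_block hS hw hQw (by rw [map_neg, C.symm, huw, neg_zero]) hs
      (Ne.symm hli) ?_
    rw [map_neg, X.comp_self hui]
    exact neg_ne_zero.mpr hu0
  obtain ⟨e, he⟩ := X.isom i l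
  have heQ : Q ((e ⟨u, hui⟩ : D l) : ι → F) = 0 := by rw [he ⟨u, hui⟩, hu]
  have he0 : ((e ⟨u, hui⟩ : D l) : ι → F) ≠ 0 := fun h => hu0 (by
    have : e ⟨u, hui⟩ = 0 := Subtype.ext h
    exact congrArg Subtype.val ((LinearEquiv.map_eq_zero_iff e).mp this))
  obtain ⟨f, hf⟩ := exists_hyp C (X.nd l) (e ⟨u, hui⟩).2 he0 heQ
  exact omega_le_of_two C X.five T.le_iso heQ hf.singF (by rw [hf.pair]; exact one_ne_zero)
    (key _ hf.memE heQ) (key f hf.memF hf.singF)

/-- Planes: a root element whose centre misses two blocks, the axis meeting one of them. -/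
theorem Ctx.omega_of_element (hk : k = 2) {u a : ι → F} (hu0 : u ≠ 0) (hu : Q u = 0)
    (hua : B u a = 0) (hH : sGL Q B u a ∈ H) {l m : Fin t} (hml : m ≠ l)
    (hum : T.dec.comp m u = 0) (hul : T.dec.comp l u = 0) (hal : T.dec.comp l a ≠ 0)
    (hA : (∀ v ∈ D l, Q v = 0 → v = 0) → ∃ A : Finset (Fin t), A.card ≤ 3 ∧ l ∉ A ∧
      ∀ i, i ∉ A → T.dec.comp i u = 0) :
    Cfsg.Geo.omegaGL Q ≤ H := by
  classical
  have X := T.dec
  have C := X.space
  have hl := T.block_le hS hu hua hH hul hal fun _ => ⟨m, hml, hum⟩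
  obtain ⟨i, hi⟩ : ∃ i, X.comp i u ≠ 0 := by
    by_contra h
    push Not at h
    exact hu0 (X.eq_zero h)
  have hil : i ≠ l := fun h => hi (h ▸ hul)
  by_cases han : ∀ v ∈ D l, Q v = 0 → v = 0
  swap
  · push Not at han
    obtain ⟨w, hw, hQw, hw0⟩ := han
    have hs := (hl hw).2 1
    rw [one_smul, sGL_swap C hu hQw (hl hw).1] at hs
    refine T.omega_of_block hS hw hw0 hQw (by rw [map_neg, C.symm, (hl hw).1, neg_zero]) hs hil ?_
    rwa [map_neg, neg_ne_zero]
  obtain ⟨A, hA3, hlA, hAz⟩ := hA han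
  have hout : ∀ j, j ∉ A → D j ≤ rootsAt Q B C H u hu := fun j hj =>
    T.block_swap hu hul (hAz j hj) hl
  -- the space off `A`
  let US : Submodule F (ι → F) :=
    { carrier := {x | ∀ j ∈ A, X.comp j x = 0}
      add_mem' := fun ha hb j hj => by rw [map_add, ha j hj, hb j hj, add_zero]
      zero_mem' := fun j _ => map_zero _
      smul_mem' := fun c x hx j hj => by rw [map_smul, hx j hj, smul_zero] }
  have hUS : ∀ {j}, j ∉ A → D j ≤ US := fun {j} hj y hy j' hj' =>
    X.comp_other (fun h : j = j' => hj (h ▸ hj')) hy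
  have hUM : ∀ x ∈ US, x ∈ rootsAt Q B C H u hu := by
    intro x hx
    rw [← X.sum_comp x]
    refine Submodule.sum_mem _ fun j _ => ?_
    by_cases hj : j ∈ A
    · rw [hx j hj]; exact Submodule.zero_mem _
    · exact hout j hj (X.comp_mem j x)
  have hUn : NDeg B US := fun x hx h => X.eq_zero fun j => by
    by_cases hj : j ∈ A
    · exact hx j hj
    · exact X.nd j _ (X.comp_mem j x) fun y hy => by rw [X.comp_B j x hy]; exact h y (hUS hj hy)
  have hU7 : 4 ≤ finrank F US := by
    let Φ : (ι → F) →ₗ[F] ((j : A) → D j.1) := LinearMap.pi fun j =>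
      LinearMap.codRestrict (D j.1) (X.comp j.1) (X.comp_mem j.1)
    have hker : LinearMap.ker Φ ≤ US := fun x hx j hj =>
      congrArg Subtype.val (congrFun (LinearMap.mem_ker.mp hx) ⟨j, hj⟩)
    have h1 := LinearMap.finrank_range_add_finrank_ker Φ
    have h2 := Submodule.finrank_le (LinearMap.range Φ)
    have h3 := Submodule.finrank_mono hker
    rw [Module.finrank_pi_fintype] at h2
    simp only [X.dim, Finset.sum_const, Finset.card_univ, Fintype.card_coe, smul_eq_mul] at h2
    rw [finrank_fintype_fun_eq_card] at h1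
    have := X.big
    subst hk
    omega
  -- a second centre not perpendicular to `u`
  obtain ⟨s, hs, hQs, hsu⟩ : ∃ s ∈ D i, Q s ≠ 0 ∧ B s u ≠ 0 := by
    obtain ⟨b0, b1, P⟩ := X.exists_plane hk i
    obtain ⟨-, hl2, -⟩ := X.lines_ok hS hk P
    obtain ⟨o, ho, o', ho', hne⟩ := Finset.one_lt_card.mp hl2
    rw [mem_lines] at ho ho'
    by_cases h : B (line b0 b1 o) u = 0
    · refine ⟨_, P.line_mem o', ho', fun h' => hne (P.perp_unique (X.comp_mem i u) hi ?_ ?_)⟩
      · rw [X.comp_B i u (P.line_mem o), C.symm, h]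
      · rw [X.comp_B i u (P.line_mem o'), C.symm, h']
    · exact ⟨_, P.line_mem o, ho, h⟩
  obtain ⟨s', hs', hQs'⟩ := X.exists_norm l hQs
  have hQs'0 : Q s' ≠ 0 := hQs' ▸ hQs
  set h := rGL Q s * rGL Q s' with hh
  have hhH : h ∈ H := T.rr_mem' hs hs' hQs hQs'.symm
  have hhu : h.val *ᵥ u = (rGL Q s).val *ᵥ u := by
    rw [hh, mul_act, rGL_fix C hQs'0 (by rw [C.symm]; exact T.perp_block hul hs')]
  have hiA : i ∈ A := by by_contra hc; exact hi (hAz i hc)
  have hperpU : ∀ {x y : ι → F}, (∀ j, j ∉ A → X.comp j x = 0) → y ∈ US → B x y = 0 := by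
    intro x y hx hy
    rw [X.B_sum x y]
    refine Finset.sum_eq_zero fun j _ => ?_
    by_cases hj : j ∈ A
    · rw [hy j hj, map_zero]
    · rw [hx j hj, map_zero, LinearMap.zero_apply]
  have hu'z : ∀ j, j ∉ A → X.comp j (h.val *ᵥ u) = 0 := fun j hj => by
    rw [hhu, X.comp_refl hs hQs, if_neg (fun e : j = i => hj (e ▸ hiA))]
    exact hAz j hj
  have hQu' : Q (h.val *ᵥ u) = 0 := by rw [mem_iso.mp (T.le_iso hhH), hu]
  have huu' : B u (h.val *ᵥ u) ≠ 0 := by
    rw [hhu, rGL_act C hQs, map_sub, map_smul, C.self_zero hu, C.symm u s, smul_eq_mul, zero_sub,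
      neg_ne_zero]
    exact mul_ne_zero (mul_ne_zero (inv_ne_zero hQs) hsu) hsu
  have hfixU : ∀ x ∈ US, h.val *ᵥ x = x - ((Q s')⁻¹ * B s' x) • s' := fun x hx => by
    have h1 : B s x = 0 := by rw [← X.comp_B' i x hs, hx i hiA, map_zero]
    have h2 : B s s' = 0 := X.orth i l hil s hs s' hs'
    rw [hh, mul_act, rGL_act C hQs'0, rGL_fix C hQs (by rw [map_sub, map_smul, h1, h2]; simp)]
  have hM' : ∀ x ∈ US, x ∈ rootsAt Q B C H (h.val *ᵥ u) hQu' := by
    intro x hx
    have hx' : x - ((Q s')⁻¹ * B s' x) • s' ∈ US :=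
      US.sub_mem hx (US.smul_mem _ (hUS hlA hs'))
    have e : h.val *ᵥ (x - ((Q s')⁻¹ * B s' x) • s') = x := by
      rw [hfixU _ hx', map_sub, map_smul, C.self, smul_eq_mul]
      match_scalars <;> field_simp <;> ring
    rw [← e]
    exact rootsAt_act C T.le_iso hhH rfl (hUM _ hx')
  set c := (B u (h.val *ᵥ u))⁻¹ with hc
  have pairs : ∀ b ∈ US, ∀ b' ∈ US, Q b = 0 → Q b' = 0 → B b b' = 0 → RPair Q B H b b' := by
    intro b hb b' hb' hQb hQb' hbb
    have h1 : RPair Q B H u b := ⟨hu, hQb, (hUM b hb).1, (hUM b hb).2⟩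
    have h2 : RPair Q B H (h.val *ᵥ u) b' := ⟨hQu', hQb', (hM' b' hb').1, (hM' b' hb').2⟩
    have h3 := h2.plane C c 0 0 1
    simp only [zero_smul, add_zero, zero_add, one_smul] at h3
    refine h1.rule C T.le_iso h3 ?_ hbb (hUM b' hb').1 ?_
    · rw [map_smul, C.symm b, hperpU hu'z hb, smul_zero]
    · rw [map_smul, smul_eq_mul, hc, inv_mul_cancel₀ huu']
  -- a hyperbolic pair on two blocks off `A`
  obtain ⟨a', ha'A, b', hb'A, hab⟩ : ∃ a', a' ∉ A ∧ ∃ b', b' ∉ A ∧ a' ≠ b' := by
    have h1 := X.t6 hk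
    have : 1 < (Finset.univ \ A).card := by
      rw [Finset.card_sdiff_of_subset (Finset.subset_univ A), Finset.card_univ, Fintype.card_fin]
      omega
    obtain ⟨x, hx, y, hy, hxy⟩ := Finset.one_lt_card.mp this
    exact ⟨x, (Finset.mem_sdiff.mp hx).2, y, (Finset.mem_sdiff.mp hy).2, hxy⟩
  set W := D a' ⊔ D b' with hW
  have hWn : NDeg B W := by
    intro x hx h
    obtain ⟨xa, hxa, xb, hxb, rfl⟩ := Submodule.mem_sup.mp hx
    have h1 : xa = 0 := X.nd a' xa hxa fun y hy => by
      have := h y (Submodule.mem_sup_left hy)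
      rwa [map_add, LinearMap.add_apply, X.orth b' a' (Ne.symm hab) xb hxb y hy, add_zero] at this
    have h2 : xb = 0 := X.nd b' xb hxb fun y hy => by
      have := h y (Submodule.mem_sup_right hy)
      rwa [map_add, LinearMap.add_apply, X.orth a' b' hab xa hxa y hy, zero_add] at this
    rw [h1, h2, add_zero]
  obtain ⟨pa, hpa, hQpa⟩ := X.exists_norm a' (one_ne_zero (α := F))
  obtain ⟨pb, hpb, hQpb⟩ := X.exists_norm b' (neg_ne_zero.mpr (one_ne_zero (α := F)))
  have he0 : pa + pb ≠ 0 := fun h => one_ne_zero (α := F) (by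
    have hp : pa ∈ D b' := by
      rw [eq_neg_of_add_eq_zero_left h]; exact (D b').neg_mem hpb
    rw [← hQpa, X.disj hab hpa hp, C.zero])
  obtain ⟨f, hf⟩ := exists_hyp C hWn (Submodule.add_mem_sup hpa hpb) he0 (by
    rw [C.add, hQpa, hQpb, X.orth a' b' hab pa hpa pb hpb]; simp)
  have hWU : W ≤ US := sup_le (hUS ha'A) (hUS hb'A)
  have hHU : Hyp Q B US (pa + pb) f := ⟨hWU hf.memE, hWU hf.memF, hf.singE, hf.singF, hf.pair⟩
  have hWz : ∀ x ∈ W, ∀ j, j ≠ a' → j ≠ b' → X.comp j x = 0 := by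
    intro x hx j h1 h2
    obtain ⟨xa, hxa, xb, hxb, rfl⟩ := Submodule.mem_sup.mp hx
    rw [map_add, X.comp_other (Ne.symm h1) hxa, X.comp_other (Ne.symm h2) hxb, add_zero]
  obtain ⟨w0, hw0U, hw0n, hQw0⟩ : ∃ w0 ∈ perp2 B US (pa + pb) f, w0 ≠ 0 ∧ Q w0 = 0 := by
    obtain ⟨φ, hφ⟩ := X.isom a' b'
    obtain ⟨qa, hqa, y, hy, hqp, hQe, hBe⟩ := exists_sum_pair C (by rw [X.dim, hk]) φ hφ
      (X.orth a' b' hab) hpa hQpa hpb hQpb
    refine ⟨(qa + y) - B f (qa + y) • (pa + pb), mem_perp2.mpr ⟨US.sub_mem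
      (hWU (Submodule.add_mem_sup hqa hy)) (US.smul_mem _ (hWU hf.memE)), ?_, ?_⟩, fun h => ?_, ?_⟩
    · rw [map_sub (B (pa + pb)), map_smul (B (pa + pb)), hBe, C.self_zero hf.singE, smul_zero,
        sub_zero]
    · rw [map_sub (B f), map_smul (B f), hf.pair' C, smul_eq_mul, mul_one, sub_self]
    · have h' := congrArg (X.comp a') h
      simp only [map_sub, map_smul, map_zero, map_add (X.comp a'), X.comp_self hqa, X.comp_self hpa,
        X.comp_other (Ne.symm hab) hy, X.comp_other (Ne.symm hab) hpb, add_zero,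
        sub_eq_zero] at h'
      exact hqp (Submodule.mem_span_singleton.mpr ⟨_, h'.symm⟩)
    · rw [sub_eq_add_neg, ← neg_smul, C.add, C.smul, hQe, hf.singE, map_smul,
        C.symm (qa + y) (pa + pb), hBe]
      simp
  have centre : ∀ {e g : ι → F}, Hyp Q B US e g → e ∈ W →
      (∃ w ∈ perp2 B US e g, w ≠ 0 ∧ Q w = 0) → Centre Q B H e := by
    intro e g hg heW hiso
    set M := rootsAt Q B C H e hg.singE
    obtain ⟨w, hw, hwn, hQw⟩ := hiso
    have hP : perp2 B US e g ≤ M := (span_sing_of_isotropic C (hg.ndeg C hUn) hw hwn hQw).trans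
      (Submodule.span_le.mpr fun w hw => by
        obtain ⟨hwU, hew, -⟩ := mem_perp2.mp hw.1
        have := pairs e hg.memE w hwU hg.singE hw.2 hew
        exact ⟨this.2.2.1, this.2.2.2⟩)
    have heM : e ∈ M := by
      refine ⟨C.self_zero hg.singE, fun d => ?_⟩
      have h := (hP (Submodule.zero_mem _) : (0 : ι → F) ∈ M).2 0
      rw [smul_zero] at h
      rw [show d • e = 0 + d • e by rw [zero_add], sGL_add_self C hg.singE (map_zero _)]
      exact h
    have hUe : ∀ x ∈ US, B e x = 0 → x ∈ M := by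
      intro x hx hex
      have := hg.proj C hx
      rw [hex, zero_smul, sub_zero] at this
      rw [show x = (x - B g x • e) + B g x • e by abel]
      exact M.add_mem (hP this) (M.smul_mem _ heM)
    have hia : i ≠ a' := fun e' => ha'A (e' ▸ hiA)
    have hib : i ≠ b' := fun e' => hb'A (e' ▸ hiA)
    have hr : RPair Q B H e u :=
      RPair.symm C ⟨hu, hg.singE, (hUM e hg.memE).1, (hUM e hg.memE).2⟩
    have hsH : sGL Q B e u ∈ H := by simpa using hr.2.2.2 1
    have hjM : D i ≤ M := T.block_le hS hg.singE hr.2.2.1 hsH (hWz e heW i hia hib) hi fun _ => by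
      have h1 := X.t6 hk
      obtain ⟨m, hm⟩ := Finset.card_pos.mp
        (show 0 < ((Finset.univ : Finset (Fin t)) \ {i, a', b'}).card by
        rw [Finset.card_sdiff_of_subset (Finset.subset_univ _), Finset.card_univ, Fintype.card_fin]
        have := Finset.card_le_three (a := i) (b := a') (c := b')
        omega)
      simp only [Finset.mem_sdiff, Finset.mem_univ, Finset.mem_insert, Finset.mem_singleton,
        true_and, not_or] at hm
      exact ⟨m, hm.1, hWz e heW m hm.2.1 hm.2.2⟩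
    intro b hb
    have hbM : b ∈ M := by
      set bA := ∑ j' ∈ A, X.comp j' b with hbA
      have hbAM : bA ∈ M := Submodule.sum_mem _ fun j' hj' =>
        T.block_swap hg.singE (hWz e heW i hia hib)
          (hWz e heW j' (fun e' => ha'A (e' ▸ hj')) (fun e' => hb'A (e' ▸ hj'))) hjM
          (X.comp_mem j' b)
      have hrest : b - bA ∈ US := fun j' hj' => by
        rw [map_sub, hbA, map_sum, Finset.sum_eq_single j'
          (fun m _ hm => X.comp_other hm (X.comp_mem m b)) (fun h => absurd hj' h),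
          X.comp_self (X.comp_mem j' b), sub_self]
      rw [show b = (b - bA) + bA by abel]
      exact M.add_mem (hUe _ hrest (by rw [map_sub, hb, hbAM.1, sub_zero])) hbAM
    simpa using hbM.2 1
  refine omega_le_of_two C X.five T.le_iso hf.singE hf.singF (by rw [hf.pair]; exact one_ne_zero)
    (centre hHU hf.memE ⟨w0, hw0U, hw0n, hQw0⟩) (centre (e := f) (g := pa + pb) ?_ hf.memF
      ⟨w0, by
        obtain ⟨h1, h2, h3⟩ := mem_perp2.mp hw0U
        exact mem_perp2.mpr ⟨h1, h3, h2⟩, hw0n, hQw0⟩)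
  exact ⟨hHU.memF, hHU.memE, hf.singF, hf.singE, hf.pair' C⟩

end Ctx

end Cfsg.Lib.Linear.ODec
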