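import Cfsg.Agent.Lib.Linear.ODec.Moves

/-!
# The class of the block vectors, blocks of dimension at least four
-/

set_option autoImplicit false

namespace Cfsg.Lib.Linear.ODec

open Module Cfsg.Lib.Linear.Orth
open scoped Matrix

variable {ι : Type} [Fintype ι] [DecidableEq ι] {F : Type*} [Field F]
  {Q : (ι → F) → F} {B : LinearMap.BilinForm F (ι → F)}
  {t : ℕ} {D : Fin t → Submodule F (ι → F)} {k : ℕ}

/-- A class vector outside the blocks gives `Ω`. -/
theorem Ctx.exact_large [Fintype F] {H : Subgroup (GL ι F)} (T : Ctx Q B D k H) (hS : Small Q D k)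
    (hk : 4 ≤ k) {ν : F} (hν : ν ≠ 0) {x : ι → F} (hx : InC Q D H ν x) (hxD : ∀ i, x ∉ D i) :
    Cfsg.Geo.omegaGL Q ≤ H := by
  classical
  have X := T.dec
  have C := X.space
  obtain ⟨j, hj⟩ : ∃ j, Q (X.comp j x) ≠ 0 := by
    by_contra h
    push Not at h
    exact hν (by rw [← hx.1, X.Q_sum]; exact Finset.sum_eq_zero fun i _ => h i)
  obtain ⟨l, hlj, hl⟩ : ∃ l, l ≠ j ∧ X.comp l x ≠ 0 := by
    by_contra h
    push Not at h
    exact hxD j (X.mem_of_comp h)
  set xj := X.comp j x with hxj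
  have hxj0 : xj ≠ 0 := fun h => hj (by rw [h, C.zero])
  obtain ⟨w, hw, hw0, hQw⟩ := Sing.exists_singular C.smul C.polar
    (perpIn B (D j) (Submodule.span F {xj})) (by
      have h := finrank_perpIn (B := B) (D j) (Submodule.span F {xj})
      rw [finrank_span_singleton hxj0, X.dim] at h
      omega)
  obtain ⟨hwj, hwp⟩ := hw
  have hxw : B xj w = 0 := hwp xj (Submodule.mem_span_singleton_self _)
  obtain ⟨b, hb, hxb⟩ := exists_perpIn C (X.splitAt j) (A := Submodule.span F {w})
    ((Submodule.span_singleton_le_iff_mem _ _).mpr hwj) (X.comp_mem j x) fun h => hj (by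
      obtain ⟨c, hc⟩ := Submodule.mem_span_singleton.mp h
      rw [hxj, ← hc, C.smul, hQw, mul_zero])
  have hwb : B w b = 0 := hb.2 w (Submodule.mem_span_singleton_self w)
  have hgx : (sGL Q B w b).val *ᵥ x = x - w := by
    have h1 : B w x = 0 := by rw [← X.comp_B' j x hwj, ← hxj, C.symm, hxw]
    have h2 : B b x = 1 := by rw [← X.comp_B' j x hb.1, C.symm]; exact hxb
    rw [sGL_act C hQw hwb, h1, h2]
    module
  obtain ⟨p, hp, hQp⟩ := X.exists_norm j hν
  have hy := hx.act T hν (T.sGL_mem_block hwj hb.1 hQw hwb) hp hQp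
    (X.sGL_pres hwj hb.1 hQw hwb j hp)
  rw [hgx] at hy
  have hu : x - w - x = -w := by abel
  obtain ⟨h1, h2⟩ := hx.root T hν hy (by rw [hu, C.neg, hQw])
  rw [hu] at h1 h2
  exact T.omega_of_block hS ((D j).neg_mem hwj) (neg_ne_zero.mpr hw0) (by rw [C.neg, hQw]) h1 h2
    hlj (by rw [map_smul]; exact smul_ne_zero (inv_ne_zero hν) hl)

end Cfsg.Lib.Linear.ODec
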