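import Cfsg.Agent.Lib.Linear.ODec.PlaneTools
import Cfsg.Agent.Lib.Linear.OrthBlocksOf

/-!
# Root elements from moves of class vectors, planes
-/

set_option autoImplicit false

namespace Cfsg.Lib.Linear.ODec

open Module Cfsg.Lib.Linear.Orth
open scoped Matrix

variable {ι : Type} [Fintype ι] [DecidableEq ι] {F : Type*} [Field F]
  {Q : (ι → F) → F} {B : LinearMap.BilinForm F (ι → F)}
  {t : ℕ} {D : Fin t → Submodule F (ι → F)} {k : ℕ}

/-- All block norms are in the class of `ν`, or a block reflection outside it fixes `x`. -/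
def Free (Q : (ι → F) → F) (B : LinearMap.BilinForm F (ι → F)) (D : Fin t → Submodule F (ι → F))
    (ν : F) (x : ι → F) : Prop :=
  (∀ (j : Fin t) (s : ι → F), s ∈ D j → Q s ≠ 0 → IsSquare (Q s / ν)) ∨
    ∃ (m : Fin t) (z : ι → F), z ∈ D m ∧ Q z ≠ 0 ∧ ¬ IsSquare (Q z / ν) ∧ B z x = 0

/-- Squares `u`, `u + 1` with `u ^ 2 + u + 1 ≠ 0` in characteristic three or five, beyond nine. -/
theorem exists_square_shift [Fintype F] (h20 : (2 : F) ≠ 0) (h : 13 < Fintype.card F) :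
    ∃ r s : F, r ≠ 0 ∧ s ≠ 0 ∧ s ^ 2 = r ^ 2 + 1 ∧ (r ^ 2) ^ 2 + r ^ 2 + 1 ≠ 0 := by
  classical
  let P : Polynomial F := Polynomial.X * (Polynomial.X ^ 4 - 1) *
    ((Polynomial.X ^ 2 - 1) ^ 4 + 4 * Polynomial.X ^ 2 * (Polynomial.X ^ 2 - 1) ^ 2 +
      16 * Polynomial.X ^ 4)
  have hdeg : P.natDegree = 13 := by
    simp only [P]
    compute_degree!
  obtain ⟨t, ht⟩ : ∃ t : F, P.eval t ≠ 0 := by
    by_contra hne
    push Not at hne
    have := Polynomial.eq_zero_of_natDegree_lt_card_of_eval_eq_zero P (f := id)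
      Function.injective_id hne (by omega)
    rw [this, Polynomial.natDegree_zero] at hdeg
    omega
  simp only [P, Polynomial.eval_mul, Polynomial.eval_add, Polynomial.eval_sub, Polynomial.eval_pow,
    Polynomial.eval_X, Polynomial.eval_one, Polynomial.eval_ofNat, mul_ne_zero_iff] at ht
  obtain ⟨⟨ht0, ht4⟩, htG⟩ := ht
  have h2t : 2 * t ≠ 0 := mul_ne_zero h20 ht0
  refine ⟨(t ^ 2 - 1) / (2 * t), (t ^ 2 + 1) / (2 * t),
    div_ne_zero (fun e => ht4 (by linear_combination (t ^ 2 + 1) * e)) h2t,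
    div_ne_zero (fun e => ht4 (by linear_combination (t ^ 2 - 1) * e)) h2t,
    by field_simp; ring, fun e => htG ?_⟩
  field_simp at e
  linear_combination e

section Ctx

variable [Fintype F] {H : Subgroup (GL ι F)} (T : Ctx Q B D k H) (hS : Small Q D k) {ν : F}

include T

theorem Ctx.free_of_zero {x : ι → F} {m : Fin t} (h : T.dec.comp m x = 0) : Free Q B D ν x := by
  by_cases hall : ∀ (j : Fin t) (s : ι → F), s ∈ D j → Q s ≠ 0 → IsSquare (Q s / ν)
  · exact Or.inl hall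
  push Not at hall
  obtain ⟨j, s, -, hQs, hns⟩ := hall
  obtain ⟨z, hz, hQz⟩ := T.dec.exists_norm m hQs
  exact Or.inr ⟨m, z, hz, hQz ▸ hQs, hQz ▸ hns, by
    rw [T.dec.space.symm]; exact T.perp_block h hz⟩

include hS

/-- Planes with singular vectors: the roots at the centre meet a singular vector of the block. -/
theorem Ctx.omega_of_plus_element (hk : k = 2) (h20 : (2 : F) ≠ 0) (h9 : Fintype.card F ≠ 9)
    {u a : ι → F} (hu0 : u ≠ 0) (hu : Q u = 0) (hua : B u a = 0) (hH : sGL Q B u a ∈ H) {l : Fin t}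
    (hul : T.dec.comp l u = 0) (hal : T.dec.comp l a ≠ 0) {v : ι → F} (hv : v ∈ D l) (hv0 : v ≠ 0)
    (hQv : Q v = 0) : Cfsg.Geo.omegaGL Q ≤ H := by
  classical
  have X := T.dec
  have C := X.space
  have hq := hS.plus hk l v hv hv0 hQv
  obtain ⟨b0, b1, P⟩ := X.exists_plane hk l
  obtain ⟨f, hf⟩ := exists_hyp C (X.nd l) hv hv0 hQv
  have hfv : B f v = 1 := hf.pair' C
  have hvv : B v v = 0 := C.self_zero hQv
  have hff : B f f = 0 := C.self_zero hf.singF
  have hperp : ∀ y ∈ D l, B u y = 0 := fun y hy => T.perp_block hul hy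
  let A : AddSubgroup (ι → F) :=
    { carrier := {w | B u w = 0 ∧ sGL Q B u w ∈ H}
      add_mem' := fun {a b} ha hb => ⟨by rw [map_add, ha.1, hb.1, add_zero], by
        rw [← sGL_mul C hu ha.1 hb.1]; exact mul_mem ha.2 hb.2⟩
      zero_mem' := ⟨map_zero _, by
        have h : sGL Q B u (0 : ι → F) = 1 := gl_ext fun x => by
          rw [sGL_act C hu (map_zero _), C.zero]; simp
        rw [h]; exact one_mem H⟩
      neg_mem' := fun {a} ha => ⟨by rw [map_neg, ha.1, neg_zero], by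
        have hn : B u (-a) = 0 := by rw [map_neg, ha.1, neg_zero]
        have h : sGL Q B u (-a) = (sGL Q B u a)⁻¹ := eq_inv_of_mul_eq_one_left (by
          rw [sGL_mul C hu hn ha.1, neg_add_cancel]
          exact gl_ext fun x => by rw [sGL_act C hu (map_zero _), C.zero]; simp)
        rw [h]; exact inv_mem ha.2⟩ }
  have conjA : ∀ {g : GL ι F}, g ∈ H → g.val *ᵥ u = u → ∀ {w}, w ∈ A → g.val *ᵥ w ∈ A := by
    intro g hg hgu w hw
    refine ⟨?_, ?_⟩
    · conv_lhs => rw [← hgu]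
      rw [C.B_act (T.le_iso hg)]; exact hw.1
    · have := mul_mem (mul_mem hg hw.2) (inv_mem hg)
      rwa [sGL_conj C hu hw.1 (T.le_iso hg), hgu] at this
  -- the rotations of the block
  have rot : ∀ r : F, r ≠ 0 → ∃ g ∈ H, g.val *ᵥ u = u ∧ g.val *ᵥ v = r ^ 2 • v ∧
      g.val *ᵥ f = (r⁻¹) ^ 2 • f ∧ (∀ z, (∀ y ∈ D l, B y z = 0) → g.val *ᵥ z = z) := by
    intro r hr
    have hp : r • v + r⁻¹ • f ∈ D l := (D l).add_mem ((D l).smul_mem _ hv) ((D l).smul_mem _ hf.memF)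
    have hp' : v + f ∈ D l := (D l).add_mem hv hf.memF
    have hQp : Q (r • v + r⁻¹ • f) = 1 := by
      rw [C.smul_add, hQv, hf.singF, hf.pair]; field_simp; ring
    have hQp' : Q (v + f) = 1 := by rw [C.add, hQv, hf.singF, hf.pair]; ring
    have n : Q (r • v + r⁻¹ • f) ≠ 0 := hQp ▸ one_ne_zero
    have n' : Q (v + f) ≠ 0 := hQp' ▸ one_ne_zero
    have act : ∀ z, (rGL Q (r • v + r⁻¹ • f) * rGL Q (v + f)).val *ᵥ z =
        (z - (B v z + B f z) • (v + f)) -
          (r * B v (z - (B v z + B f z) • (v + f)) + r⁻¹ * B f (z - (B v z + B f z) • (v + f))) •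
            (r • v + r⁻¹ • f) := fun z => by
      rw [mul_act, rGL_act C n', rGL_act C n, hQp, hQp']
      simp only [inv_one, one_mul, map_add, map_smul, LinearMap.add_apply, LinearMap.smul_apply,
        smul_eq_mul]
    refine ⟨_, T.rr_mem' hp hp' n (hQp.trans hQp'.symm), ?_, ?_, ?_, fun z hz => ?_⟩
    · rw [mul_act, rGL_fix C n' (by rw [C.symm]; exact hperp _ hp'),
        rGL_fix C n (by rw [C.symm]; exact hperp _ hp)]
    · rw [act, hvv, hfv]
      simp only [map_sub, map_add, map_smul, hvv, hfv, hff, hf.pair, smul_eq_mul]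
      match_scalars <;> field_simp <;> ring
    · rw [act, hf.pair, hff]
      simp only [map_sub, map_add, map_smul, hvv, hfv, hff, hf.pair, smul_eq_mul]
      match_scalars <;> field_simp <;> ring
    · rw [mul_act, rGL_fix C n' (hz _ hp'), rGL_fix C n (hz _ hp)]
  have hsplit : X.comp l a = B f a • v + B v a • f := by
    refine sub_eq_zero.mp (P.eq_zero_of_perp hv hf.memF ((D l).sub_mem (X.comp_mem l a)
      ((D l).add_mem ((D l).smul_mem _ hv) ((D l).smul_mem _ hf.memF))) hv0 (fun hm => ?_) ?_ ?_)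
    · obtain ⟨c, rfl⟩ := Submodule.mem_span_singleton.mp hm
      have := hf.pair
      rw [map_smul, hvv, smul_zero] at this
      exact zero_ne_one this
    · rw [map_sub, X.comp_B' l a hv, map_add, map_smul, map_smul, hvv, hf.pair]; simp
    · rw [map_sub, X.comp_B' l a hf.memF, map_add, map_smul, map_smul, hfv, hff]; simp
  have hpure : ∀ r : F, r ≠ 0 → ((r ^ 2 - 1) * B f a) • v + (((r⁻¹) ^ 2 - 1) * B v a) • f ∈ A := by
    intro r hr
    obtain ⟨g, hg, hgu, hgv, hgf, hgz⟩ := rot r hr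
    have h1 := A.sub_mem (conjA hg hgu (⟨hua, hH⟩ : a ∈ A)) (⟨hua, hH⟩ : a ∈ A)
    have hr' := hgz (a - X.comp l a) fun y hy => by rw [map_sub, X.comp_B' l a hy, sub_self]
    rw [hsplit, Matrix.mulVec_sub, Matrix.mulVec_add, Matrix.mulVec_smul, Matrix.mulVec_smul, hgv,
      hgf] at hr'
    convert h1 using 1
    linear_combination (norm := module) -hr'
  obtain ⟨μ, hμ, hμ2⟩ := Orth.exists_mu (F := F) (by omega)
  set α := (μ ^ 2 - 1) * B f a
  set β := ((μ⁻¹) ^ 2 - 1) * B v a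
  have h0 : α • v + β • f ∈ A := hpure μ hμ
  have orbit : ∀ r : F, r ≠ 0 → (r ^ 2 * α) • v + ((r⁻¹) ^ 2 * β) • f ∈ A := by
    intro r hr
    obtain ⟨g, hg, hgu, hgv, hgf, -⟩ := rot r hr
    have := conjA hg hgu h0
    rw [Matrix.mulVec_add, Matrix.mulVec_smul, Matrix.mulVec_smul, hgv, hgf, smul_smul, smul_smul,
      mul_comm α, mul_comm β] at this
    exact this
  obtain ⟨i, hi⟩ : ∃ i, X.comp i u ≠ 0 := by
    by_contra h
    push Not at h
    exact hu0 (X.eq_zero h)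
  have hil : i ≠ l := fun h => hi (h ▸ hul)
  -- a singular vector of the block gives the rest
  have fin : ∀ w ∈ D l, w ≠ 0 → Q w = 0 → w ∈ A → Cfsg.Geo.omegaGL Q ≤ H := by
    intro w hw hw0 hQw hwA
    have hs := hwA.2
    rw [sGL_swap C hu hQw hwA.1] at hs
    refine T.omega_of_block hS hw hw0 hQw (by rw [map_neg, C.symm, hwA.1, neg_zero]) hs hil ?_
    rwa [map_neg, neg_ne_zero]
  by_cases hβ : β = 0
  · have hα : α ≠ 0 := fun hα => hal (by
      have hμ1 : (μ⁻¹) ^ 2 - 1 ≠ 0 := fun h => hμ2 (by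
        rw [inv_pow, sub_eq_zero, inv_eq_one] at h; exact h)
      rw [hsplit, (mul_eq_zero.mp hβ).resolve_left hμ1,
        (mul_eq_zero.mp hα).resolve_left (sub_ne_zero.mpr hμ2), zero_smul, zero_smul, add_zero])
    rw [hβ, zero_smul, add_zero] at h0
    exact fin _ ((D l).smul_mem _ hv) (smul_ne_zero hα hv0) (by rw [C.smul, hQv, mul_zero]) h0
  by_cases hα : α = 0
  · rw [hα, zero_smul, zero_add] at h0
    have hf0 : f ≠ 0 := fun h => by
      have := hf.pair
      rw [h, map_zero] at this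
      exact zero_ne_one this
    exact fin _ ((D l).smul_mem _ hf.memF) (smul_ne_zero hβ hf0) (by rw [C.smul, hf.singF, mul_zero]) h0
  obtain ⟨γ, hγ, hγA⟩ : ∃ γ : F, γ ≠ 0 ∧ γ • v ∈ A := by
    by_cases h15 : (15 : F) = 0
    · have h13 : 13 < Fintype.card F := by
        obtain ⟨p, hp⟩ := CharP.exists F
        obtain ⟨n, hpp, hn⟩ := FiniteField.card F p
        have hd : p ∣ 15 := (CharP.cast_eq_zero_iff F p 15).mp (by exact_mod_cast h15)
        have hple := Nat.le_of_dvd (by norm_num) hd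
        by_contra hle
        have hn0 := n.pos
        have hp35 : p = 3 ∨ p = 5 := by
          interval_cases p <;> simp_all (config := { decide := true })
        rcases hp35 with rfl | rfl
        · rcases Nat.lt_or_ge (n : ℕ) 3 with h | h
          · interval_cases (n : ℕ) <;> simp_all
          · have := Nat.pow_le_pow_right (show 0 < 3 by norm_num) h
            omega
        · rcases Nat.lt_or_ge (n : ℕ) 2 with h | h
          · interval_cases (n : ℕ) <;> simp_all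
          · have := Nat.pow_le_pow_right (show 0 < 5 by norm_num) h
            omega
      obtain ⟨r, s, hr, hs, hsr, hne⟩ := exists_square_shift h20 h13
      have := A.sub_mem (A.add_mem (orbit 1 one_ne_zero) (orbit r⁻¹ (inv_ne_zero hr)))
        (orbit s⁻¹ (inv_ne_zero hs))
      refine ⟨α * (1 + (r⁻¹) ^ 2 - (s⁻¹) ^ 2), mul_ne_zero hα fun h => hne ?_, ?_⟩
      · field_simp at h
        linear_combination h - (r ^ 2 + 1) * hsr
      · convert this using 1
        simp only [inv_inv, one_pow, inv_one, one_mul]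
        match_scalars
        · ring
        · linear_combination β * hsr
    · refine ⟨α * ((2⁻¹) ^ 2 - 4), mul_ne_zero hα fun h => h15 ?_, ?_⟩
      · field_simp at h
        linear_combination -h
      · have := A.sub_mem (orbit 2⁻¹ (inv_ne_zero h20)) (A.nsmul_mem h0 4)
        convert this using 1
        simp only [inv_inv]
        module
  exact fin _ ((D l).smul_mem _ hv) (smul_ne_zero hγ hv0) (by rw [C.smul, hQv, mul_zero]) hγA

open Classical in
/-- Reflections in a few blocks with singular displacement give `Ω`. -/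
theorem Ctx.omega_of_values (hk : k = 2) (hν : ν ≠ 0) {x : ι → F} (hx : InC Q D H ν x)
    (A : Finset (Fin t)) (s : Fin t → ι → F) (hA : A.card ≤ 5) (hs : ∀ j ∈ A, s j ∈ D j)
    (hQs : ∀ j ∈ A, Q (s j) ≠ 0) (hne : ∃ j ∈ A, B (s j) x ≠ 0)
    (hsum : ∑ j ∈ A, B (s j) x ^ 2 / Q (s j) = 0)
    (hpar : Even (A.filter fun j => ¬ IsSquare (Q (s j) / ν)).card ∨ ∃ (m : Fin t) (z : ι → F),
      m ∉ A ∧ z ∈ D m ∧ Q z ≠ 0 ∧ ¬ IsSquare (Q z / ν) ∧ B z x = 0)
    {l : Fin t} (hlA : l ∉ A) (hl : T.dec.comp l x ≠ 0)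
    (han : (∀ v ∈ D l, Q v = 0 → v = 0) → A.card ≤ 3)
    (hfive : A.card ≤ 3 ∨ (2 : F) ≠ 0 ∧ Fintype.card F ≠ 9) :
    Cfsg.Geo.omegaGL Q ≤ H := by
  have X := T.dec
  have C := X.space
  set y := moved Q B x A s with hy
  have hyC : InC Q D H ν y := by
    obtain ⟨h1, h2⟩ := hx.moved_mem T hν A s hs hQs
    rcases Decidable.em (Even (A.filter fun j => ¬ IsSquare (Q (s j) / ν)).card) with h | h
    · exact h1 h
    obtain ⟨m, z, hmA, hz, hQz, hns, hzx⟩ := hpar.resolve_left h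
    have h3 := h2 h m z hz hQz hns
    have hzy : B z y = 0 := by
      rw [hy, moved, map_sub, hzx, map_sum, zero_sub, neg_eq_zero]
      exact Finset.sum_eq_zero fun j hj => by
        rw [map_smul, X.orth m j (fun e => hmA (e ▸ hj)) z hz _ (hs j hj), smul_zero]
    rwa [rGL_fix C hQz hzy] at h3
  set c : Fin t → F := fun j => (Q (s j))⁻¹ * B (s j) x with hc
  have hyx : y - x = -∑ j ∈ A, c j • s j := by rw [hy, moved]; abel
  have hcomp : ∀ i, X.comp i (y - x) = if i ∈ A then -(c i • s i) else 0 := by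
    intro i
    rw [hyx, map_neg, map_sum]
    split_ifs with hi
    · rw [Finset.sum_eq_single i (fun j hj hji => by
        rw [map_smul, X.comp_other hji (hs j hj), smul_zero]) (fun h => absurd hi h),
        map_smul, X.comp_self (hs i hi)]
    · rw [Finset.sum_eq_zero fun j hj => by
        rw [map_smul, X.comp_other (fun e : j = i => hi (e ▸ hj)) (hs j hj), smul_zero], neg_zero]
  have hQu : Q (y - x) = 0 := by
    rw [X.Q_sum, ← Finset.sum_subset (Finset.subset_univ A)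
      (fun i _ hi => by rw [hcomp, if_neg hi, C.zero])]
    rw [← hsum]
    refine Finset.sum_congr rfl fun j hj => ?_
    rw [hcomp, if_pos hj, C.neg, C.smul, hc]
    have := hQs j hj
    field_simp
  obtain ⟨hua, hH⟩ := hx.root T hν hyC hQu
  obtain ⟨j₀, hj₀, hj₀x⟩ := hne
  have hu0 : y - x ≠ 0 := fun h => by
    have := hcomp j₀
    rw [h, map_zero, if_pos hj₀] at this
    rcases smul_eq_zero.mp (neg_eq_zero.mp this.symm) with e | e
    · exact mul_ne_zero (inv_ne_zero (hQs j₀ hj₀)) hj₀x e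
    · exact hj₀x (by rw [e, map_zero, LinearMap.zero_apply])
  by_cases h3 : 3 < A.card
  · obtain ⟨h20, h9⟩ := hfive.resolve_left (by omega)
    by_contra hno
    refine absurd (han fun v hv hQv => by_contra fun hv0 => hno ?_) (by omega)
    exact T.omega_of_plus_element hS hk h20 h9 hu0 hQu hua hH (by rw [hcomp, if_neg hlA])
      (by rw [map_smul]; exact smul_ne_zero (inv_ne_zero hν) hl) hv hv0 hQv
  obtain ⟨m, hm⟩ := Finset.card_pos.mp (show 0 < (Finset.univ \ insert l A).card by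
    have := X.t6 hk
    rw [Finset.card_sdiff_of_subset (Finset.subset_univ _), Finset.card_univ, Fintype.card_fin,
      Finset.card_insert_of_notMem hlA]
    omega)
  simp only [Finset.mem_sdiff, Finset.mem_univ, Finset.mem_insert, true_and, not_or] at hm
  refine T.omega_of_element hS hk hu0 hQu hua hH hm.1 (by rw [hcomp, if_neg hm.2])
    (by rw [hcomp, if_neg hlA]) (by rw [map_smul]; exact smul_ne_zero (inv_ne_zero hν) hl)
    fun h => ⟨A, han h, hlA, fun i hi => by rw [hcomp, if_neg hi]⟩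

/-- A non-zero singular component. -/
theorem Ctx.omega_of_sing (hk : k = 2) (hν : ν ≠ 0) {x : ι → F} (hx : InC Q D H ν x)
    (hxD : ∀ i, x ∉ D i) {j : Fin t} (hj0 : T.dec.comp j x ≠ 0) (hj : Q (T.dec.comp j x) = 0) :
    Cfsg.Geo.omegaGL Q ≤ H := by
  have X := T.dec
  have C := X.space
  obtain ⟨l, hlj, hl⟩ : ∃ l, l ≠ j ∧ X.comp l x ≠ 0 := by
    by_contra h
    push Not at h
    exact hxD j (X.mem_of_comp h)
  obtain ⟨b0, b1, P⟩ := X.exists_plane hk j
  obtain ⟨-, hl2, hl5⟩ := X.lines_ok hS hk P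
  obtain ⟨p, hp, hQp⟩ := X.exists_norm j hν
  have hQp0 : Q p ≠ 0 := hQp ▸ hν
  obtain ⟨p', hp', hQ', hpi, -⟩ := P.exists_friend (by rw [X.dim, hk]) hl2 (fun h => by have := hl5 h; omega) hp hQp0
  have hQp' : Q p' ≠ 0 := hQ' ▸ hQp0
  set xj := X.comp j x with hxj
  obtain ⟨c, hc⟩ := P.rot_singular hp hp' (X.comp_mem j x) hQp0 hQp' hj0 hj
  have hne := P.rot_ne hp hp' (X.comp_mem j x) hQp0 hQp' hpi hj0
  have hy := hx.act T hν (T.rr_mem' hp hp' hQp0 hQ'.symm) hp hQp (by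
    rw [mul_act]; exact X.refl_pres hp hQp0 j (X.refl_pres hp' hQp' j hp))
  have hgx : (rGL Q p * rGL Q p').val *ᵥ x = x + (c - 1) • xj := by
    have h2 : ∀ q, q ∈ D j → B q (x - xj) = 0 := fun q hq => by
      rw [map_sub, X.comp_B' j x hq, sub_self]
    conv_lhs => rw [show x = (x - xj) + xj by abel]
    rw [Matrix.mulVec_add, mul_act, mul_act, rGL_fix C hQp' (h2 p' hp'), rGL_fix C hQp0 (h2 p hp), hc]
    module
  rw [hgx] at hy
  have hu : x + (c - 1) • xj - x = (c - 1) • xj := by abel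
  obtain ⟨h1, h2⟩ := hx.root T hν hy (by rw [hu, C.smul, hj, mul_zero])
  rw [hu] at h1 h2
  refine T.omega_of_block hS ((D j).smul_mem _ (X.comp_mem j x)) (smul_ne_zero (fun h => hne ?_) hj0)
    (by rw [C.smul, hj, mul_zero]) h1 h2 hlj
    (by rw [map_smul]; exact smul_ne_zero (inv_ne_zero hν) hl)
  rw [hc, sub_eq_zero.mp h, one_smul]

open Classical in
/-- Four components and a free reflection. -/
theorem Ctx.omega_of_free (hk : k = 2) (hν : ν ≠ 0) {x : ι → F} (hx : InC Q D H ν x)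
    (h4 : 4 ≤ (Finset.univ.filter fun i => T.dec.comp i x ≠ 0).card) (hf : Free Q B D ν x) :
    Cfsg.Geo.omegaGL Q ≤ H := by
  have X := T.dec
  have C := X.space
  set S := Finset.univ.filter fun i => X.comp i x ≠ 0 with hSdef
  have hmemS : ∀ {i}, i ∈ S ↔ X.comp i x ≠ 0 := fun {i} => by simp [hSdef]
  obtain ⟨l, hlS, hml⟩ : ∃ l ∈ S, (∀ (j : Fin t) (s : ι → F), s ∈ D j → Q s ≠ 0 →
      IsSquare (Q s / ν)) ∨ ∃ (m : Fin t) (z : ι → F), (m ∉ S.erase l) ∧ z ∈ D m ∧ Q z ≠ 0 ∧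
        ¬ IsSquare (Q z / ν) ∧ B z x = 0 := by
    obtain ⟨l₀, hl₀⟩ := Finset.card_pos.mp (show 0 < S.card by omega)
    rcases hf with h | ⟨m, z, hz⟩
    · exact ⟨l₀, hl₀, Or.inl h⟩
    by_cases hm : m ∈ S
    · exact ⟨m, hm, Or.inr ⟨m, z, Finset.notMem_erase m S, hz⟩⟩
    · exact ⟨l₀, hl₀, Or.inr ⟨m, z, fun h => hm (Finset.mem_of_mem_erase h), hz⟩⟩
  obtain ⟨A₀, hA₀, hA₀c⟩ := Finset.exists_subset_card_eq (s := S.erase l) (n := 3) (by
    rw [Finset.card_erase_of_mem hlS]; omega)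
  obtain ⟨i1, i2, i3, h12, h13, h23, rfl⟩ := Finset.card_eq_three.mp hA₀c
  have hin : ∀ i ∈ ({i1, i2, i3} : Finset (Fin t)), X.comp i x ≠ 0 := fun i hi =>
    hmemS.mp (Finset.mem_of_mem_erase (hA₀ hi))
  -- the values in the three blocks
  have vals : ∀ i ∈ ({i1, i2, i3} : Finset (Fin t)), ∃ V : Finset F, Fintype.card F ≤ 2 * V.card + 2 ∧
      (5 ≤ Fintype.card F ∨ Fintype.card F ≤ 2 * V.card) ∧ (∀ v ∈ V, v ≠ 0) ∧
      ∀ v ∈ V, ∃ s ∈ D i, Q s ≠ 0 ∧ B s x ≠ 0 ∧ B s x ^ 2 / Q s = v := by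
    intro i hi
    obtain ⟨b0, b1, P⟩ := X.exists_plane hk i
    obtain ⟨hq, -, -⟩ := X.lines_ok hS hk P
    have h1 := P.card_fvals (by rw [X.dim, hk]) (X.comp_mem i x) (hin i hi)
    have h2 := P.card_lines
    refine ⟨fvals Q B b0 b1 (X.comp i x), by omega, ?_, fun v hv => fvals_ne_zero hv,
      fun v hv => ?_⟩
    · rcases hq with h | h
      · exact Or.inl h
      · exact Or.inr (by omega)
    · obtain ⟨o, ho, hox, rfl⟩ := mem_fvals.mp hv
      have e : B (line b0 b1 o) x = B (X.comp i x) (line b0 b1 o) := by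
        rw [X.comp_B i x (P.line_mem o), C.symm]
      exact ⟨_, P.line_mem o, ho, e ▸ hox, by rw [e]⟩
  obtain ⟨V1, c1, d1, z1, w1⟩ := vals i1 (by simp)
  obtain ⟨V2, c2, d2, z2, w2⟩ := vals i2 (by simp)
  obtain ⟨V3, c3, -, z3, w3⟩ := vals i3 (by simp)
  have finish : ∀ (A : Finset (Fin t)) (s : Fin t → ι → F), A ⊆ {i1, i2, i3} →
      (∀ j ∈ A, s j ∈ D j ∧ Q (s j) ≠ 0 ∧ B (s j) x ≠ 0) → A.Nonempty →
      ∑ j ∈ A, B (s j) x ^ 2 / Q (s j) = 0 → Cfsg.Geo.omegaGL Q ≤ H := by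
    intro A s hA hAs hAne hsum
    have hc3 : A.card ≤ 3 := (Finset.card_le_card hA).trans hA₀c.le
    obtain ⟨j₀, hj₀⟩ := hAne
    refine T.omega_of_values hS hk hν hx A s (by omega) (fun j hj => (hAs j hj).1)
      (fun j hj => (hAs j hj).2.1) ⟨j₀, hj₀, (hAs j₀ hj₀).2.2⟩ hsum ?_ (l := l)
      (fun h => Finset.notMem_erase l S (hA₀ (hA h))) (hmemS.mp hlS) (fun _ => hc3) (Or.inl hc3)
    rcases hml with h | ⟨m, z, hm, hz⟩
    · left
      rw [Finset.filter_false_of_mem fun j hj h' => h' (h j _ (hAs j hj).1 (hAs j hj).2.1)]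
      simp
    · exact Or.inr ⟨m, z, fun h => hm (hA₀ (hA h)), hz⟩
  have two : ∀ (i i' : Fin t), i ≠ i' → i ∈ ({i1, i2, i3} : Finset (Fin t)) →
      i' ∈ ({i1, i2, i3} : Finset (Fin t)) → ∀ a : F,
      (∃ s ∈ D i, Q s ≠ 0 ∧ B s x ≠ 0 ∧ B s x ^ 2 / Q s = a) →
      (∃ s ∈ D i', Q s ≠ 0 ∧ B s x ≠ 0 ∧ B s x ^ 2 / Q s = -a) → Cfsg.Geo.omegaGL Q ≤ H := by
    rintro i i' hii hi hi' a ⟨s, hs1, hs2, hs3, hs4⟩ ⟨s', hs1', hs2', hs3', hs4'⟩
    refine finish {i, i'} (fun j => if j = i then s else s') (fun j hj => ?_) (fun j hj => ?_)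
      ⟨i, by simp⟩ ?_
    · simp only [Finset.mem_insert, Finset.mem_singleton] at hj
      rcases hj with rfl | rfl <;> assumption
    · simp only [Finset.mem_insert, Finset.mem_singleton] at hj
      rcases hj with rfl | rfl
      · simp [hs1, hs2, hs3]
      · simp [Ne.symm hii, hs1', hs2', hs3']
    · rw [Finset.sum_pair hii]
      simp [Ne.symm hii, hs4, hs4']
  have hq : (2 : F) ≠ 0 ∨ 5 ≤ Fintype.card F ∨ Fintype.card F ≤ V1.card + V2.card := by
    rcases d1 with h | h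
    · exact Or.inr (Or.inl h)
    rcases d2 with h' | h'
    · exact Or.inr (Or.inl h')
    exact Or.inr (Or.inr (by omega))
  rcases short_zero_sum z1 z2 z3 c1 c2 c3 hq with ⟨a, ha, ha'⟩ | ⟨a, ha, ha'⟩ | ⟨a, ha, ha'⟩ |
    ⟨a, ha, b, hb, hab⟩
  · exact two i1 i2 h12 (by simp) (by simp) a (w1 a ha) (w2 _ ha')
  · exact two i1 i3 h13 (by simp) (by simp) a (w1 a ha) (w3 _ ha')
  · exact two i2 i3 h23 (by simp) (by simp) a (w2 a ha) (w3 _ ha')
  obtain ⟨s, hs1, hs2, hs3, hs4⟩ := w1 a ha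
  obtain ⟨s', hs1', hs2', hs3', hs4'⟩ := w2 b hb
  obtain ⟨s'', hs1'', hs2'', hs3'', hs4''⟩ := w3 _ hab
  refine finish {i1, i2, i3} (fun j => if j = i1 then s else if j = i2 then s' else s'')
    (fun _ h => h) (fun j hj => ?_) ⟨i1, by simp⟩ ?_
  · simp only [Finset.mem_insert, Finset.mem_singleton] at hj
    rcases hj with rfl | rfl | rfl
    · simp [hs1, hs2, hs3]
    · simp [Ne.symm h12, hs1', hs2', hs3']
    · simp [Ne.symm h13, Ne.symm h23, hs1'', hs2'', hs3'']
  · rw [Finset.sum_insert (by simp [h12, h13]), Finset.sum_pair h23]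
    simp [Ne.symm h12, Ne.symm h13, Ne.symm h23, hs4, hs4', hs4'']

end Ctx

end Cfsg.Lib.Linear.ODec
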