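import Cfsg.Agent.Lib.Linear.ODec.Resid

/-!
# An element moving one block vector into a block stabilises the decomposition
-/

set_option autoImplicit false

namespace Cfsg.Lib.Linear.ODec

open Module Cfsg.Lib.Linear.Orth
open scoped Matrix

variable {ι : Type} [Fintype ι] [DecidableEq ι] {F : Type*} [Field F] [Fintype F]
  {Q : (ι → F) → F} {B : LinearMap.BilinForm F (ι → F)}
  {t : ℕ} {D : Fin t → Submodule F (ι → F)} {k : ℕ} {H : Subgroup (GL ι F)}

variable (T : Ctx Q B D k H) (hS : Small Q D k) (hno : ¬ Cfsg.Geo.omegaGL Q ≤ H)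

include T hS hno

/-- The class of the block vectors of one norm consists of block vectors. -/
theorem Ctx.exact {ν : F} (hν : ν ≠ 0) {x : ι → F} (hx : InC Q D H ν x) : ∃ i, x ∈ D i := by
  by_contra h
  push Not at h
  have := T.dec.k2
  by_cases hk : k = 2
  · exact hno (T.exact_plane hS hk hν hx h)
  · exact hno (T.exact_large hS (by have := hS.odd3; omega) hν hx h)

omit hno in
/-- A block is mapped into one block. -/
theorem Ctx.maps_block {g : GL ι F} (hg : g ∈ H) {i : Fin t} {ν : F} (hν : ν ≠ 0)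
    (hall : ∀ s ∈ D i, Q s = ν → ∃ l, g.val *ᵥ s ∈ D l) :
    ∃ l, ∀ y ∈ D i, g.val *ᵥ y ∈ D l := by
  classical
  have X := T.dec
  have C := X.space
  have hI := T.le_iso hg
  obtain ⟨p, hp, p', hp', hQp, hQp', hind, hpp⟩ := X.exists_pair hS i hν
  have hp0 : p ≠ 0 := fun h => hν (by rw [← hQp, h, C.zero])
  obtain ⟨l, hl⟩ := hall p hp hQp
  obtain ⟨l', hl'⟩ := hall p' hp' hQp'
  have hll : l = l' := by
    by_contra h
    exact hpp (by rw [← C.B_act hI]; exact X.orth l l' h _ hl _ hl')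
  subst hll
  refine ⟨l, ?_⟩
  by_cases hk : k = 2
  · intro y hy
    have hli : LinearIndependent F ![p, p'] := (LinearIndependent.pair_iff' hp0).mpr fun c hc =>
      hind (Submodule.mem_span_singleton.mpr ⟨c, hc⟩)
    have hle : Submodule.span F (Set.range ![p, p']) ≤ D i :=
      Submodule.span_le.mpr (by rintro _ ⟨a, rfl⟩; fin_cases a <;> assumption)
    have heq := Submodule.eq_of_le_of_finrank_eq hle (by
      rw [finrank_span_eq_card hli, Fintype.card_fin, X.dim, hk])
    rw [← heq] at hy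
    refine (Submodule.span_le (p := (D l).comap (Matrix.mulVecLin g.val))).mpr ?_ hy
    rintro _ ⟨a, rfl⟩
    fin_cases a
    · exact hl
    · exact hl'
  have hk4 : 4 ≤ k := by
    have := X.k2
    have := hS.odd3
    omega
  -- the vectors of norm `ν` span the block
  set S := Submodule.span F {s | s ∈ D i ∧ Q s = ν} with hS'
  have hspan : D i ≤ S := by
    refine (span_sing C (X.nd i) (by rw [X.dim]; omega)).trans (Submodule.span_le.mpr ?_)
    rintro w ⟨hw, hQw⟩
    by_cases hw0 : w = 0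
    · rw [hw0]; exact S.zero_mem
    obtain ⟨f, hf⟩ := exists_hyp C (X.nd i) hw hw0 hQw
    have hd := hf.le_finrank C
    rw [X.dim] at hd
    set N := perp2 B (D i) w f with hN
    obtain ⟨n, hn, hn0⟩ := Submodule.exists_mem_ne_zero_of_ne_bot
      (p := N) fun h => by rw [h, finrank_bot] at hd; omega
    obtain ⟨n', hn', hnn⟩ : ∃ n' ∈ N, B n n' ≠ 0 := by
      by_contra h
      push Not at h
      exact hn0 (hf.ndeg C (X.nd i) n hn h)
    have hv : ∀ m ∈ N, (ν - Q m) • w + f + m ∈ S := fun m hm => by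
      obtain ⟨hmm, hwm, hfm⟩ := mem_perp2.mp hm
      refine Submodule.subset_span ⟨(D i).add_mem ((D i).add_mem ((D i).smul_mem _ hw) hf.memF) hmm, ?_⟩
      rw [C.add, C.add, C.smul, hQw, hf.singF]
      simp [hf.pair, hwm, hfm]
    have hm : B n n' • w ∈ S := by
      have h := S.sub_mem (S.add_mem (hv n hn) (hv n' hn'))
        (S.add_mem (hv (n + n') (N.add_mem hn hn')) (hv 0 N.zero_mem))
      rw [C.add, C.zero] at h
      convert h using 1
      module
    have h := S.smul_mem (B n n')⁻¹ hm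
    rwa [smul_smul, inv_mul_cancel₀ hnn, one_smul] at h
  by_contra hne
  push Not at hne
  -- the part mapped into the block `l` and the part mapped off it
  let U : Submodule F (ι → F) := D i ⊓ (D l).comap (Matrix.mulVecLin g.val)
  let U' : Submodule F (ι → F) := D i ⊓ LinearMap.ker ((X.comp l) ∘ₗ Matrix.mulVecLin g.val)
  have hmU : ∀ {y}, y ∈ U ↔ y ∈ D i ∧ g.val *ᵥ y ∈ D l := fun {y} => by simp [U]
  have hmU' : ∀ {y}, y ∈ U' ↔ y ∈ D i ∧ X.comp l (g.val *ᵥ y) = 0 := fun {y} => by simp [U']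
  have hsplit : ∀ s ∈ D i, Q s = ν → s ∈ U ∨ s ∈ U' := fun s hs hQs => by
    obtain ⟨j, hj⟩ := hall s hs hQs
    by_cases h : j = l
    · exact Or.inl (hmU.mpr ⟨hs, h ▸ hj⟩)
    · exact Or.inr (hmU'.mpr ⟨hs, X.comp_other h hj⟩)
  have hsup : D i ≤ U ⊔ U' := hspan.trans (Submodule.span_le.mpr fun s hs => by
    rcases hsplit s hs.1 hs.2 with h | h
    exacts [Submodule.mem_sup_left h, Submodule.mem_sup_right h])
  have horth : ∀ a ∈ U, ∀ b ∈ U', B a b = 0 := fun a ha b hb => by
    rw [← C.B_act hI, ← X.comp_B' l _ (hmU.mp ha).2, (hmU'.mp hb).2, map_zero]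
  have hdisj : ∀ a, a ∈ U → a ∈ U' → a = 0 := fun a ha hb => by
    have h := (hmU'.mp hb).2
    rw [X.comp_self (hmU.mp ha).2] at h
    by_contra h0
    exact act_ne_zero h0 h
  have hno2 : ∀ a ∈ U, ∀ b ∈ U', a ≠ 0 → b ≠ 0 → Q a + Q b ≠ ν := by
    intro a ha b hb ha0 hb0 h
    rcases hsplit (a + b) ((D i).add_mem ha.1 hb.1)
      (by rw [C.add, horth a ha b hb, add_zero]; exact h) with h' | h'
    · exact hb0 (hdisj b (by simpa using U.sub_mem h' ha) hb)
    · exact ha0 (hdisj a ha (by simpa using U'.sub_mem h' hb))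
  have hUnd : NDeg B U := fun a ha h => X.nd i a ha.1 fun y hy => by
    obtain ⟨u, hu, v, hv, rfl⟩ := Submodule.mem_sup.mp (hsup hy)
    rw [map_add, h u hu, horth a ha v hv, add_zero]
  have hU'nd : NDeg B U' := fun a ha h => X.nd i a ha.1 fun y hy => by
    obtain ⟨u, hu, v, hv, rfl⟩ := Submodule.mem_sup.mp (hsup hy)
    rw [map_add, h v hv, C.symm, horth u hu a ha, zero_add]
  have hpU : p ∈ U := hmU.mpr ⟨hp, hl⟩
  obtain ⟨s, hs, hQs, hsU⟩ : ∃ s ∈ D i, Q s = ν ∧ s ∈ U' := by
    by_contra h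
    push Not at h
    obtain ⟨y, hy, hyl⟩ := hne
    refine hyl ((hmU.mp ((hspan.trans (Submodule.span_le.mpr fun s hs => ?_)) hy)).2)
    exact (hsplit s hs.1 hs.2).resolve_right (h s hs.1 hs.2)
  have hs0 : s ≠ 0 := fun h => hν (by rw [← hQs, h, C.zero])
  have hanU : ∀ a ∈ U, Q a = 0 → a = 0 := fun a ha hQa => by
    by_contra h0
    exact hno2 a ha s hsU h0 hs0 (by rw [hQa, hQs, zero_add])
  have hanU' : ∀ b ∈ U', Q b = 0 → b = 0 := fun b hb hQb => by
    by_contra h0
    exact hno2 p hpU b hb hp0 h0 (by rw [hQb, hQp, add_zero])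
  have small : ∀ V : Submodule F (ι → F), (∀ a ∈ V, Q a = 0 → a = 0) → finrank F V ≤ 2 := fun V hV => by
    by_contra h
    obtain ⟨x, hx, hx0, hQx⟩ := Sing.exists_singular C.smul C.polar V (by omega)
    exact hx0 (hV x hx hQx)
  have hU2 := small U hanU
  have hU'2 := small U' hanU'
  have hdim : k ≤ finrank F U + finrank F U' := by
    have h := Submodule.finrank_mono hsup
    have h' := Submodule.finrank_sup_add_finrank_inf_eq U U'
    rw [X.dim] at h
    omega
  by_cases hq : Fintype.card F = 2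
  · -- two elliptic planes over two elements
    have hval : ∀ c : F, c ≠ 0 → c = 1 := by
      intro c hc
      by_contra h1
      have : ({0, 1, c} : Finset F).card = 3 := by
        rw [Finset.card_insert_of_notMem (by simp [Ne.symm hc]),
          Finset.card_insert_of_notMem (by simp [Ne.symm h1]), Finset.card_singleton]
      have := Finset.card_le_univ ({0, 1, c} : Finset F)
      omega
    have h11 : (1 : F) + 1 = 0 := by
      by_contra h
      have := hval _ h
      exact one_ne_zero (α := F) (add_eq_left.mp this)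
    have two : ∀ V : Submodule F (ι → F), 2 ≤ finrank F V → ∃ a ∈ V, ∃ b ∈ V,
        a ≠ 0 ∧ b ≠ 0 ∧ a + b ≠ 0 := fun V hV => by
      obtain ⟨a, ha, ha0⟩ := Submodule.exists_mem_ne_zero_of_ne_bot (p := V) fun h => by
        rw [h, finrank_bot] at hV; omega
      obtain ⟨b, hb, hbs⟩ := SetLike.not_le_iff_exists.mp (show ¬ V ≤ Submodule.span F {a} from fun h => by
        have := Submodule.finrank_mono h
        rw [finrank_span_singleton ha0] at this
        omega)
      refine ⟨a, ha, b, hb, ha0, fun h => hbs (h ▸ Submodule.zero_mem _), fun h => hbs ?_⟩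
      rw [eq_neg_of_add_eq_zero_right h]
      exact Submodule.neg_mem _ (Submodule.mem_span_singleton_self a)
    obtain ⟨a, ha, a', ha', ha0, ha'0, haa⟩ := two U (by omega)
    obtain ⟨b, hb, b', hb', hb0, hb'0, hbb⟩ := two U' (by omega)
    have hQ1 : ∀ u ∈ U, ∀ v ∈ U', u ≠ 0 → v ≠ 0 → Q (u + v) = 0 := fun u hu v hv h1 h2 => by
      rw [C.add, horth u hu v hv, add_zero, hval _ (fun h => h1 (hanU u hu h)),
        hval _ (fun h => h2 (hanU' v hv h)), h11]
    have hsum0 : ∀ u ∈ U, ∀ v ∈ U', u + v = 0 → u = 0 := fun u hu v hv h =>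
      hdisj u hu (by rw [eq_neg_of_add_eq_zero_left h]; exact U'.neg_mem hv)
    rcases hS.four (by omega) hq i _ ((D i).add_mem ha.1 hb.1) _ ((D i).add_mem ha'.1 hb'.1)
      (hQ1 a ha b hb ha0 hb0) (hQ1 a' ha' b' hb' ha'0 hb'0) (by
        rw [show a + b + (a' + b') = (a + a') + (b + b') by abel]
        exact hQ1 _ (U.add_mem ha ha') _ (U'.add_mem hb hb') haa hbb) with h | h | h
    · exact ha0 (hsum0 a ha b hb h)
    · exact ha'0 (hsum0 a' ha' b' hb' h)
    · have := hsum0 (a - a') (U.sub_mem ha ha') (b - b') (U'.sub_mem hb hb') (by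
        rw [← sub_eq_zero.mpr h]; abel)
      rw [sub_eq_zero] at this
      subst this
      refine haa ?_
      rw [show a + a = ((1 : F) + 1) • a by module, h11, zero_smul]
  · obtain ⟨c, hc0, hcν⟩ : ∃ c : F, c ≠ 0 ∧ c ≠ ν := by
      by_contra h
      push Not at h
      have hsub : (Finset.univ : Finset F) ⊆ {0, ν} := fun c _ => by
        by_cases hc : c = 0
        · simp [hc]
        · simp [h c hc]
      have := (Finset.card_le_card hsub).trans Finset.card_le_two
      rw [Finset.card_univ] at this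
      have := Fintype.one_lt_card (α := F)
      omega
    obtain ⟨b, hb, hQb⟩ := ODec.exists_norm C hU'nd (by omega) hc0
    obtain ⟨a, ha, hQa⟩ := ODec.exists_norm C hUnd (by omega) (sub_ne_zero.mpr (Ne.symm hcν))
    exact hno2 a ha b hb (fun h => sub_ne_zero.mpr (Ne.symm hcν) (by rw [← hQa, h, C.zero]))
      (fun h => hc0 (by rw [← hQb, h, C.zero])) (by rw [hQa, hQb]; ring)

/-- One non-singular block vector mapped into a block. -/
theorem Ctx.maps {g : GL ι F} (hg : g ∈ H) {i₀ j₀ : Fin t} {p : ι → F} (hp : p ∈ D i₀)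
    (hQp : Q p ≠ 0) (hgp : g.val *ᵥ p ∈ D j₀) : g ∈ Cfsg.Geo.decompositionStabilizer D := by
  have X := T.dec
  have hall : ∀ i, ∀ s ∈ D i, Q s = Q p → ∃ l, g.val *ᵥ s ∈ D l := fun i s hs hQs =>
    T.exact hS hno hQp ((T.inC_block hQp hs hQs).act T hQp hg hp rfl hgp)
  choose σ hσ using fun i => T.maps_block hS hg hQp (hall i)
  have himg : ∀ i, (D i).map (Matrix.mulVecLin g.val) = D (σ i) := fun i =>
    Submodule.eq_of_le_of_finrank_eq (fun _ ⟨y, hy, e⟩ => e ▸ hσ i y hy) (by
      rw [← (Submodule.equivMapOfInjective _ (act_injective g) (D i)).finrank_eq, X.dim, X.dim])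
  have hinj : Function.Injective σ := fun i i' h => by
    by_contra hne
    obtain ⟨y, hy, hy0⟩ := Submodule.exists_mem_ne_zero_of_ne_bot (X.ne_bot i)
    obtain ⟨z, hz, hzy⟩ : g.val *ᵥ y ∈ (D i').map (Matrix.mulVecLin g.val) := by
      rw [himg i', ← h]; exact hσ i y hy
    exact hy0 (X.disj hne hy (act_injective g hzy ▸ hz))
  exact X.mem_stab_of_perm (Equiv.ofBijective σ (Finite.injective_iff_bijective.mp hinj)) hσ

end Cfsg.Lib.Linear.ODec
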