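import Cfsg.Agent.Lib.Linear.ODec.Outside
import Cfsg.Agent.Lib.Linear.OrthBlocksOf

/-!
# The stabiliser of an orthogonal decomposition is maximal in `Ω`
-/

set_option autoImplicit false

namespace Cfsg.Lib.Linear.ODec

open Module Cfsg.Lib.Linear.Orth
open scoped Matrix

variable {ι : Type} [Fintype ι] [DecidableEq ι] {F : Type*} [Field F]
  {Q : (ι → F) → F} {B : LinearMap.BilinForm F (ι → F)}
  {t : ℕ} {D : Fin t → Submodule F (ι → F)} {k : ℕ}

/-- The stabiliser of an orthogonal decomposition is maximal in `Ω`. -/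
theorem Dec.maximal [Fintype F] (X : Dec Q B D k) (hS : Small Q D k) :
    Cfsg.Geo.IsMaximalIn (Cfsg.Geo.omegaGL Q)
      (Cfsg.Geo.decompositionStabilizer D ⊓ Cfsg.Geo.omegaGL Q) := by
  have C := X.space
  have hO := omegaGL_eq C X.five
  refine ⟨lt_of_le_of_ne inf_le_right fun heq => ?_, fun H hLH hHΩ => ?_⟩
  · set i : Fin t := ⟨0, by have := X.two_le; omega⟩
    obtain ⟨p, hp, hQp⟩ := X.exists_norm i (one_ne_zero (α := F))
    have hdim := (X.splitAt i).finrank_add C
    obtain ⟨e, he, he0, hQe⟩ := Sing.exists_singular C.smul C.polar (perpIn B ⊤ (D i)) (by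
      rw [X.dim] at hdim
      have hc := X.card
      have := X.big
      have : k * 2 ≤ k * t := Nat.mul_le_mul_left k X.two_le
      rw [Nat.mul_comm] at hc
      omega)
    have hpe : B p e = 0 := he.2 p hp
    have hp0 : p ≠ 0 := fun h => one_ne_zero (α := F) (by rw [← hQp, h, C.zero])
    have hQ : Q p = Q (p + e) := by rw [C.add, hQe, hpe, add_zero, add_zero]
    obtain ⟨g, hg, hge⟩ := trans_top C X.five hp0
      (fun h => one_ne_zero (α := F) (by rw [← hQp, hQ, h, C.zero])) hQ
    rw [← hO, ← heq] at hg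
    obtain ⟨σ, hσ⟩ := exists_perm hg.1
    have hm : p + e ∈ D (σ i) := hge ▸ hσ i p hp
    have hcomp : X.comp i e = 0 := X.uniq (X.comp_mem i e) (D i).zero_mem fun y hy => by
      rw [X.comp_B i e hy, C.symm, he.2 y hy, map_zero, LinearMap.zero_apply]
    by_cases h : σ i = i
    · rw [h] at hm
      have : e ∈ D i := by simpa using (D i).sub_mem hm hp
      exact he0 (by rw [← X.comp_self this, hcomp])
    · have h1 := X.comp_other h hm
      rw [map_add, X.comp_self hp, hcomp, add_zero] at h1
      exact hp0 h1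
  have hHI : H ≤ isometryGroup F Q := hHΩ.trans (hO ▸ root_le_iso C _)
  have T : Ctx Q B D k H := ⟨X, hHI, hLH⟩
  by_cases hno : Cfsg.Geo.omegaGL Q ≤ H
  · exact Or.inr (le_antisymm hHΩ hno)
  · exact Or.inl (le_antisymm (fun g hg => ⟨T.mem_stab hS hno hg, hHΩ hg⟩) hLH)

/-- The data of a decomposition. -/
theorem dec_of_geo_twelve (C : Space Q B) (hn : 10 ≤ Fintype.card ι) (hk : 2 ≤ k)
    (hD : Cfsg.Geo.IsOrthogonalMDecomposition Q k D) : Dec Q B D k where
  space := C
  k2 := hk
  nd i := ndeg_of_geo C (hD.decomp.nondegenerate i)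
  orth i j h u hu w hw := by rw [← C.polar]; exact hD.decomp.orthogonal i j h u hu w hw
  top := hD.decomp.decomp.iSup_eq_top
  dim := hD.decomp.decomp.finrank_eq
  two_le := hD.decomp.decomp.two_le
  big := hn
  card := decomp_card hD.decomp.decomp
  isom := hD.isometric

/-- The data of a decomposition in dimension at least thirteen. -/
theorem dec_of_geo (C : Space Q B) (hn : 13 ≤ Fintype.card ι) (hk : 2 ≤ k)
    (hD : Cfsg.Geo.IsOrthogonalMDecomposition Q k D) : Dec Q B D k :=
  dec_of_geo_twelve C (by omega) hk hD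

/-- All blocks are of plus type as soon as one is. -/
theorem Dec.plus_all (X : Dec Q B D k) {i : Fin t} (h : Cfsg.Geo.IsPlusTypeOn Q (D i)) (l : Fin t) :
    Cfsg.Geo.IsPlusTypeOn Q (D l) := by
  obtain ⟨U, hU, hts, hdim⟩ := h
  obtain ⟨e, he⟩ := X.isom i l
  let f : D i →ₗ[F] (ι → F) := (D l).subtype ∘ₗ e.toLinearMap
  refine ⟨(U.comap (D i).subtype).map f, ?_, ?_, ?_⟩
  · rintro _ ⟨u, -, rfl⟩
    exact (e u).2
  · rintro _ ⟨u, hu, rfl⟩
    exact (he u).trans (hts _ hu)
  · rw [← (Submodule.equivMapOfInjective f ((Submodule.injective_subtype _).comp e.injective) _).finrank_eq,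
      (Submodule.comapSubtypeEquivOfLe hU).finrank_eq, hdim, X.dim, X.dim]

/-- The exclusions of small cases. -/
theorem Dec.small_of [Fintype F] (X : Dec Q B D k) (hev : Even k)
    (h3 : k = 2 → Fintype.card F ≠ 3)
    (hp : k = 2 → (∀ i, Cfsg.Geo.IsPlusTypeOn Q (D i)) →
      Fintype.card F ≠ 2 ∧ Fintype.card F ≠ 4 ∧ Fintype.card F ≠ 5)
    (h4 : k = 4 → Fintype.card F = 2 → ¬ ∀ i, Cfsg.Geo.IsPlusTypeOn Q (D i)) : Small Q D k where
  three := h3
  odd3 := fun h => by rw [h] at hev; exact absurd hev (by decide)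
  plus := fun hk i v hv hv0 hQv => by
    have hi : Cfsg.Geo.IsPlusTypeOn Q (D i) := ⟨Submodule.span F {v},
      (Submodule.span_singleton_le_iff_mem _ _).mpr hv, fun w hw => by
        obtain ⟨c, rfl⟩ := Submodule.mem_span_singleton.mp hw
        rw [X.space.smul, hQv, mul_zero],
      by rw [finrank_span_singleton hv0, X.dim, hk]⟩
    obtain ⟨h2, h4', h5⟩ := hp hk (X.plus_all hi)
    have h3' := h3 hk
    have h1 := Fintype.one_lt_card (α := F)
    have h6 : Fintype.card F ≠ 6 := fun h => by
      have := FiniteField.isPrimePow_card F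
      rw [h] at this
      obtain ⟨p, -, hu⟩ := isPrimePow_iff_unique_prime_dvd.mp this
      have e2 := hu 2 ⟨Nat.prime_two, by norm_num⟩
      have e3 := hu 3 ⟨Nat.prime_three, by norm_num⟩
      omega
    omega
  four := fun hk hq i e he e' he' hQe hQe' hQs => by
    by_contra hne
    push Not at hne
    obtain ⟨he0, he'0, hee⟩ := hne
    refine h4 hk hq (X.plus_all ⟨Submodule.span F (Set.range ![e, e']),
      Submodule.span_le.mpr (by rintro _ ⟨a, rfl⟩; fin_cases a <;> assumption), ?_, ?_⟩)
    · intro w hw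
      have hB : B e e' = 0 := by
        rw [X.space.add, hQe, hQe', zero_add, zero_add] at hQs
        exact hQs
      obtain ⟨c, rfl⟩ := (Submodule.mem_span_range_iff_exists_fun F).mp hw
      simp only [Fin.sum_univ_two, Matrix.cons_val_zero, Matrix.cons_val_one]
      rw [X.space.smul_add, hQe, hQe', hB]
      ring
    · have hli : LinearIndependent F ![e, e'] := (LinearIndependent.pair_iff' he0).mpr fun c hc => by
        have : c = 0 ∨ c = 1 := by
          by_contra h
          push Not at h
          classical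
          have h3 : ({0, 1, c} : Finset F).card = 3 := by
            rw [Finset.card_insert_of_notMem (by simp [Ne.symm h.1]),
              Finset.card_insert_of_notMem (by simp [Ne.symm h.2]), Finset.card_singleton]
          have := Finset.card_le_univ ({0, 1, c} : Finset F)
          omega
        rcases this with rfl | rfl
        · exact he'0 (by rw [← hc, zero_smul])
        · exact hee (by rw [← hc, one_smul])
      rw [finrank_span_eq_card hli, Fintype.card_fin, X.dim, hk]

end Cfsg.Lib.Linear.ODec
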