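import Cfsg.Agent.Lib.Linear.ODec.Endgame

/-!
# The class of the block vectors of one norm

`InC T ν x`: `Q x = ν` and the reflection of `x` times that of every block vector of norm `ν` is in
`H`.
-/

set_option autoImplicit false

namespace Cfsg.Lib.Linear.ODec

open Module Cfsg.Lib.Linear.Orth
open scoped Matrix

variable {ι : Type} [Fintype ι] [DecidableEq ι] {F : Type*} [Field F]
  {Q : (ι → F) → F} {B : LinearMap.BilinForm F (ι → F)}
  {t : ℕ} {D : Fin t → Submodule F (ι → F)} {k : ℕ}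

/-- The quotient of two non-squares is a square. -/
theorem isSquare_div [Fintype F] {a b : F} (ha : ¬ IsSquare a) (hb : ¬ IsSquare b) :
    IsSquare (a / b) := by
  classical
  have h2 : ringChar F ≠ 2 := fun h => ha (FiniteField.isSquare_of_char_two h a)
  have ha0 : a ≠ 0 := fun h => ha (h ▸ IsSquare.zero)
  have hb0 : b ≠ 0 := fun h => hb (h ▸ IsSquare.zero)
  rw [← quadraticChar_one_iff_isSquare (div_ne_zero ha0 hb0), div_eq_mul_inv, map_mul]
  have e1 := quadraticChar_neg_one_iff_not_isSquare.mpr ha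
  have hb' : ¬ IsSquare b⁻¹ := fun h => hb (by simpa using h.inv)
  have e2 := quadraticChar_neg_one_iff_not_isSquare.mpr hb'
  rw [e1, e2]; norm_num

/-- The class of the block vectors of norm `ν`. -/
def InC (Q : (ι → F) → F) (D : Fin t → Submodule F (ι → F)) (H : Subgroup (GL ι F)) (ν : F)
    (x : ι → F) : Prop :=
  Q x = ν ∧ ∀ (j : Fin t) (p : ι → F), p ∈ D j → Q p = ν → rGL Q x * rGL Q p ∈ H

section Ctx

variable [Fintype F] {H : Subgroup (GL ι F)} (T : Ctx Q B D k H) {ν : F}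

include T

theorem Ctx.inC_of_one (hν : ν ≠ 0) {x : ι → F} {j : Fin t} {p : ι → F} (hx : Q x = ν)
    (hp : p ∈ D j) (hQp : Q p = ν) (h : rGL Q x * rGL Q p ∈ H) : InC Q D H ν x :=
  ⟨hx, fun j' q hq hQq => by
    have h2 := T.rr_mem' hp hq (hQp ▸ hν) (hQp.trans hQq.symm)
    have := mul_mem h h2
    rwa [← mul_assoc, mul_assoc (rGL Q x), rGL_sq T.dec.space (hQp ▸ hν), mul_one] at this⟩

theorem Ctx.inC_block (hν : ν ≠ 0) {x : ι → F} {j : Fin t} (hx : x ∈ D j) (hQ : Q x = ν) :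
    InC Q D H ν x :=
  ⟨hQ, fun _ _ hp hQp => T.rr_mem' hx hp (hQ ▸ hν) (hQ.trans hQp.symm)⟩

/-- Moved by an element mapping a block vector to a block vector. -/
theorem InC.act (hν : ν ≠ 0) {x : ι → F} (hx : InC Q D H ν x) {g : GL ι F} (hg : g ∈ H)
    {j j' : Fin t} {p : ι → F} (hp : p ∈ D j) (hQp : Q p = ν) (hgp : g.val *ᵥ p ∈ D j') :
    InC Q D H ν (g.val *ᵥ x) := by
  have C := T.dec.space
  have hI := T.le_iso hg
  refine T.inC_of_one hν (by rw [mem_iso.mp hI, hx.1]) hgp (by rw [mem_iso.mp hI, hQp]) ?_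
  rw [← rGL_conj C (hx.1 ▸ hν) hI, ← rGL_conj C (hQp ▸ hν) hI,
    show g * rGL Q x * g⁻¹ * (g * rGL Q p * g⁻¹) = g * (rGL Q x * rGL Q p) * g⁻¹ by group]
  exact mul_mem (mul_mem hg (hx.2 j p hp hQp)) (inv_mem hg)

/-- Reflected in a block vector of the class of `ν`. -/
theorem InC.good (hν : ν ≠ 0) {x : ι → F} (hx : InC Q D H ν x) {j : Fin t} {s : ι → F}
    (hs : s ∈ D j) (hQs : Q s ≠ 0) (hsq : IsSquare (Q s / ν)) :
    InC Q D H ν ((rGL Q s).val *ᵥ x) := by
  have C := T.dec.space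
  obtain ⟨a, ha⟩ := hsq
  have ha0 : a ≠ 0 := fun h => div_ne_zero hQs hν (by rw [ha, h, mul_zero])
  set q := a⁻¹ • s with hq
  have hqm : q ∈ D j := (D j).smul_mem _ hs
  have hQq : Q q = ν := by
    rw [hq, C.smul, inv_pow, sq, ← ha]
    field_simp
  have hI := rGL_mem C hQs
  refine T.inC_of_one hν (by rw [mem_iso.mp hI, hx.1]) hqm hQq ?_
  rw [← rGL_conj C (hx.1 ▸ hν) hI, rGL_inv C hQs]
  have e : rGL Q q = rGL Q s := rGL_smul C (inv_ne_zero ha0) hQs
  have h1 := inv_mem (hx.2 j q hqm hQq)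
  rw [mul_inv_rev, e, rGL_inv C hQs, rGL_inv C (hx.1 ▸ hν)] at h1
  rw [e, mul_assoc, rGL_sq C hQs, mul_one]
  exact h1

/-- Reflected in a vector of the class. -/
theorem InC.refl (hν : ν ≠ 0) {x x' : ι → F} (hx : InC Q D H ν x) (hx' : InC Q D H ν x') :
    InC Q D H ν ((rGL Q x).val *ᵥ x') := by
  have C := T.dec.space
  have hQx : Q x ≠ 0 := hx.1 ▸ hν
  obtain ⟨p, hp, hQp⟩ := T.dec.exists_norm ⟨0, by have := T.dec.two_le; omega⟩ hν
  refine T.inC_of_one hν (by rw [mem_iso.mp (rGL_mem C hQx), hx'.1]) hp hQp ?_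
  rw [← rGL_conj C (hx'.1 ▸ hν) (rGL_mem C hQx), rGL_inv C hQx]
  have h := mul_mem (mul_mem (hx.2 _ p hp hQp) (inv_mem (hx'.2 _ p hp hQp))) (hx.2 _ p hp hQp)
  rw [mul_inv_rev, rGL_inv C (hQp ▸ hν), rGL_inv C (hx'.1 ▸ hν)] at h
  convert h using 1
  calc rGL Q x * rGL Q x' * rGL Q x * rGL Q p
      = rGL Q x * (rGL Q p * rGL Q p) * rGL Q x' * rGL Q x * rGL Q p := by
        rw [rGL_sq C (hQp ▸ hν), mul_one]
    _ = _ := by group

/-- Two class vectors with singular difference give a root element. -/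
theorem InC.root (hν : ν ≠ 0) {x y : ι → F} (hx : InC Q D H ν x) (hy : InC Q D H ν y)
    (hu : Q (y - x) = 0) :
    B (y - x) (ν⁻¹ • x) = 0 ∧ sGL Q B (y - x) (ν⁻¹ • x) ∈ H := by
  have C := T.dec.space
  have hQx : Q x ≠ 0 := hx.1 ▸ hν
  have hB : B (y - x) x = 0 := by
    have h := C.add (y - x) x
    rw [sub_add_cancel, hu, hx.1, hy.1, zero_add] at h
    exact add_eq_left.mp h.symm
  have hB' : B (y - x) (ν⁻¹ • x) = 0 := by rw [map_smul, hB, smul_zero]
  refine ⟨hB', ?_⟩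
  set u := ν⁻¹ • (y - x) with hu'
  have hQu : Q u = 0 := by rw [hu', C.smul, hu, mul_zero]
  have hux : B u x = 0 := by rw [hu', map_smul, LinearMap.smul_apply, hB, smul_zero]
  obtain ⟨-, hr⟩ := rGL_mul_rGL C hQx hQu hux
  rw [show x + Q x • u = y by rw [hu', hx.1, smul_smul, mul_inv_cancel₀ hν, one_smul]; abel] at hr
  obtain ⟨p, hp, hQp⟩ := T.dec.exists_norm ⟨0, by have := T.dec.two_le; omega⟩ hν
  have hmem : rGL Q x * rGL Q y ∈ H := by
    have h := mul_mem (hx.2 _ p hp hQp) (inv_mem (hy.2 _ p hp hQp))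
    rwa [mul_inv_rev, rGL_inv C (hQp ▸ hν : Q p ≠ 0), rGL_inv C (hy.1 ▸ hν : Q y ≠ 0), ← mul_assoc,
      mul_assoc (rGL Q x), rGL_sq C (hQp ▸ hν), mul_one] at h
  rwa [hr, hu', sGL_smul C hu hB] at hmem

/-- The image of `x` under reflections in one vector of each block in a set. -/
def moved (Q : (ι → F) → F) (B : LinearMap.BilinForm F (ι → F)) (x : ι → F)
    (A : Finset (Fin t)) (s : Fin t → ι → F) : ι → F :=
  x - ∑ j ∈ A, ((Q (s j))⁻¹ * B (s j) x) • s j

open Classical in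
/-- With an even number of reflections outside the class of `ν`, or a spare one fixing the image. -/
theorem InC.moved_mem (hν : ν ≠ 0) {x : ι → F} (hx : InC Q D H ν x) (A : Finset (Fin t))
    (s : Fin t → ι → F) (hs : ∀ j ∈ A, s j ∈ D j) (hQs : ∀ j ∈ A, Q (s j) ≠ 0) :
    (Even (A.filter fun j => ¬ IsSquare (Q (s j) / ν)).card → InC Q D H ν (moved Q B x A s)) ∧
      (¬ Even (A.filter fun j => ¬ IsSquare (Q (s j) / ν)).card → ∀ (m : Fin t) (z : ι → F),
        z ∈ D m → Q z ≠ 0 → ¬ IsSquare (Q z / ν) →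
          InC Q D H ν ((rGL Q z).val *ᵥ moved Q B x A s)) := by
  have X := T.dec
  have C := X.space
  induction A using Finset.induction with
  | empty =>
    exact ⟨fun _ => by simpa [moved] using hx, fun h => absurd (by simp) h⟩
  | insert a A ha ih =>
    obtain ⟨ihE, ihO⟩ := ih (fun j hj => hs j (Finset.mem_insert_of_mem hj))
      (fun j hj => hQs j (Finset.mem_insert_of_mem hj))
    have hsa := hs a (Finset.mem_insert_self a A)
    have hQa := hQs a (Finset.mem_insert_self a A)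
    have hmv : moved Q B x (insert a A) s = (rGL Q (s a)).val *ᵥ moved Q B x A s := by
      have h0 : ∑ j ∈ A, ((Q (s j))⁻¹ * B (s j) x) • B (s a) (s j) = 0 :=
        Finset.sum_eq_zero fun j hj => by
          rw [X.orth a j (fun e => ha (e ▸ hj)) _ hsa _ (hs j (Finset.mem_insert_of_mem hj)),
            smul_zero]
      rw [rGL_act C hQa, moved, moved, Finset.sum_insert ha, map_sub, map_sum]
      simp only [map_smul, h0, sub_zero]
      abel
    rw [hmv, Finset.filter_insert]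
    by_cases hsq : IsSquare (Q (s a) / ν)
    · rw [if_neg (not_not.mpr hsq)]
      refine ⟨fun h => (ihE h).good T hν hsa hQa hsq, fun h m z hz hQz hzn => ?_⟩
      have hI := rGL_mem C hQa
      have hz' : (rGL Q (s a)).val *ᵥ z ∈ D m := X.refl_pres hsa hQa m hz
      have hQz' : Q ((rGL Q (s a)).val *ᵥ z) = Q z := mem_iso.mp hI z
      have h1 := (ihO h m _ hz' (hQz'.symm ▸ hQz) (hQz'.symm ▸ hzn)).good T hν hsa hQa hsq
      rwa [← rGL_conj C hQz hI, rGL_inv C hQa, ← mul_act, ← mul_assoc, ← mul_assoc,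
        rGL_sq C hQa, one_mul, mul_act] at h1
    · rw [if_pos hsq, Finset.card_insert_of_notMem (fun h => ha (Finset.mem_filter.mp h).1),
        Nat.even_add_one]
      refine ⟨fun h => ihO h a _ hsa hQa hsq, fun h m z hz hQz hzn => ?_⟩
      obtain ⟨p, hp, hQp⟩ := X.exists_norm a hν
      have hr : IsSquare (Q z / Q (s a)) := by
        have := isSquare_div hzn hsq
        rwa [div_div_div_cancel_right₀ hν] at this
      have hg := T.rr_mem hz hsa hQz hQa hr
      have h1 := (ihE (not_not.mp h)).act T hν hg hp hQp (by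
        rw [mul_act]
        exact X.refl_pres hz hQz a (X.refl_pres hsa hQa a hp))
      rwa [mul_act] at h1

end Ctx

end Cfsg.Lib.Linear.ODec
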