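import Cfsg.Agent.Lib.Linear.ODec.Maps

/-!
# An overgroup either permutes the blocks or contains `Ω`
-/

set_option autoImplicit false

namespace Cfsg.Lib.Linear.ODec

open Module Cfsg.Lib.Linear.Orth
open scoped Matrix

variable {ι : Type} [Fintype ι] [DecidableEq ι] {F : Type*} [Field F] [Fintype F]
  {Q : (ι → F) → F} {B : LinearMap.BilinForm F (ι → F)}
  {t : ℕ} {D : Fin t → Submodule F (ι → F)} {k : ℕ} {H : Subgroup (GL ι F)}

variable (T : Ctx Q B D k H) (hS : Small Q D k) (hno : ¬ Cfsg.Geo.omegaGL Q ≤ H)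

include T hS hno

/-- No non-singular block vector is perpendicular to both images. -/
theorem Ctx.no_fixed {x x' : ι → F} (hQx : Q x ≠ 0) (hQ : Q x' = Q x) (hB : B x x' ≠ 0)
    (hind : x' ∉ Submodule.span F {x}) (hout : ∀ i, x ∉ D i) (hτ : rGL Q x * rGL Q x' ∈ H)
    {m : Fin t} {q : ι → F} (hq : q ∈ D m) (hQq : Q q ≠ 0) (h1 : B x q = 0) (h2 : B x' q = 0) :
    False := by
  classical
  have X := T.dec
  have C := X.space
  have hQx' : Q x' ≠ 0 := hQ ▸ hQx
  have hfix : (rGL Q x * rGL Q x').val *ᵥ q = q := by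
    rw [mul_act, rGL_fix C hQx' h2, rGL_fix C hQx h1]
  obtain ⟨σ, hσ⟩ := exists_perm (T.maps hS hno hτ hq hQq (j₀ := m) (by rw [hfix]; exact hq))
  set W := Submodule.span F (({x, x'} : Finset (ι → F)) : Set (ι → F)) with hW
  have hxW : x ∈ W ∧ x' ∈ W := ⟨Submodule.subset_span (by simp), Submodule.subset_span (by simp)⟩
  have hW2 : finrank F W ≤ 2 := (finrank_span_finset_le_card _).trans Finset.card_le_two
  have hres : ∀ z, (rGL Q x * rGL Q x').val *ᵥ z - z ∈ W := fun z => by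
    rw [mul_act, rGL_act C hQx, rGL_act C hQx']
    rw [show z - ((Q x')⁻¹ * B x' z) • x' - ((Q x)⁻¹ * B x (z - ((Q x')⁻¹ * B x' z) • x')) • x - z =
      (-((Q x')⁻¹ * B x' z)) • x' + (-((Q x)⁻¹ * B x (z - ((Q x')⁻¹ * B x' z) • x'))) • x by module]
    exact W.add_mem (W.smul_mem _ hxW.2) (W.smul_mem _ hxW.1)
  have h := X.resid_invol hW2 hres hσ (T.le_iso hτ) (fun i hi => hout i (hi hxW.1)) x
  set c := (Q x')⁻¹ * B x' x with hc
  have hc0 : c ≠ 0 := mul_ne_zero (inv_ne_zero hQx') (by rwa [C.symm])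
  -- compare the two orders of the product
  have e : (rGL Q x').val *ᵥ ((rGL Q x).val *ᵥ x) = (rGL Q x).val *ᵥ ((rGL Q x').val *ᵥ x) := by
    have h' := congrArg (fun z => (rGL Q x).val *ᵥ z) h
    simp only [mul_act] at h'
    rw [← mul_act, rGL_sq C hQx, Units.val_one, Matrix.one_mulVec] at h'
    have h'' := congrArg (fun z => (rGL Q x').val *ᵥ z) h'
    simp only [← mul_act, rGL_sq C hQx', Units.val_one, Matrix.one_mulVec] at h''
    simp only [← mul_act, ← mul_assoc, rGL_sq C hQx', one_mul] at h'' ⊢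
    exact h''.symm
  rw [rGL_act C hQx, rGL_act C hQx', rGL_act C hQx', rGL_act C hQx] at e
  simp only [C.self, map_sub, map_smul, smul_eq_mul, ← hc, C.symm x x'] at e
  have hlin : (c * B x' x * (Q x)⁻¹) • x + (-2 * c) • x' = 0 := by
    convert sub_eq_zero.mpr e.symm using 1
    have h2x : (Q x)⁻¹ * (2 * Q x) = 2 := by field_simp
    rw [h2x]
    match_scalars
    · linear_combination (1 : F) * h2x
    · rw [hc]; ring
  have hli : LinearIndependent F ![x, x'] :=
    (LinearIndependent.pair_iff' (show x ≠ 0 from fun h => hQx (by rw [h, C.zero]))).mpr fun a ha =>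
      hind (Submodule.mem_span_singleton.mpr ⟨a, ha⟩)
  obtain ⟨h0, -⟩ := LinearIndependent.pair_iff.mp hli _ _ hlin
  exact mul_ne_zero (mul_ne_zero hc0 (by rwa [C.symm])) (inv_ne_zero hQx) h0

/-- Planes: a block meeting both images in one singular line. -/
theorem Ctx.omega_of_singular_proj (hk : k = 2) {x x' : ι → F} (hQx : Q x ≠ 0) (hQ : Q x' = Q x)
    (hB : B x x' ≠ 0) (hind : x' ∉ Submodule.span F {x}) (hτ : rGL Q x * rGL Q x' ∈ H)
    {m : Fin t} {e : ι → F} (he : e ∈ D m) (he0 : e ≠ 0) (hQe : Q e = 0) {a1 a2 : F}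
    (h1 : T.dec.comp m x = a1 • e) (h2 : T.dec.comp m x' = a2 • e) (hne : a1 ≠ 0 ∨ a2 ≠ 0) :
    False := by
  have X := T.dec
  have C := X.space
  have hQx' : Q x' ≠ 0 := hQ ▸ hQx
  obtain ⟨b0, b1, P⟩ := X.exists_plane hk m
  obtain ⟨p, hp, p', hp', hQp, hQp', hi, -⟩ := X.exists_pair hS m (one_ne_zero (α := F))
  have hp0 : Q p ≠ 0 := hQp ▸ one_ne_zero
  have hp0' : Q p' ≠ 0 := hQp' ▸ one_ne_zero
  obtain ⟨lam, hlam⟩ := P.rot_singular hp hp' he hp0 hp0' he0 hQe
  have hlam1 : lam - 1 ≠ 0 := fun h => P.rot_ne hp hp' he hp0 hp0' hi he0 (by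
    rw [hlam, sub_eq_zero.mp h, one_smul])
  set h := rGL Q p * rGL Q p' with hh
  have hhH : h ∈ H := T.rr_mem' hp hp' hp0 (hQp.trans hQp'.symm)
  have hhI := T.le_iso hhH
  have hmv : ∀ {z : ι → F} {a : F}, X.comp m z = a • e → h.val *ᵥ z = z + ((lam - 1) * a) • e := by
    intro z a hz
    have hr : h.val *ᵥ (z - a • e) = z - a • e := by
      have h' : ∀ y ∈ D m, B y (z - a • e) = 0 := fun y hy => by
        rw [← hz, map_sub, X.comp_B' m z hy, sub_self]
      rw [hh, mul_act, rGL_fix C hp0' (h' p' hp'), rGL_fix C hp0 (h' p hp)]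
    have he' : h.val *ᵥ e = lam • e := by rw [hh, mul_act]; exact hlam
    rw [Matrix.mulVec_sub, Matrix.mulVec_smul, he'] at hr
    linear_combination (norm := module) hr
  have hex : ∀ {z : ι → F} {a : F}, X.comp m z = a • e → B e z = 0 := fun {z a} hz => by
    rw [← X.comp_B' m z he, hz, map_smul, C.self, hQe, mul_zero, smul_zero]
  have hBex := hex h1
  have hBex' := hex h2
  -- the reflection of a shifted vector
  have shift : ∀ {z : ι → F} {a : F}, Q z ≠ 0 → B e z = 0 → rGL Q (z + a • e) =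
      rGL Q z * sGL Q B e ((a / Q z) • z) := fun {z a} hQz hez => by
    have hu : Q ((a / Q z) • e) = 0 := by rw [C.smul, hQe, mul_zero]
    have hu' : B ((a / Q z) • e) z = 0 := by rw [map_smul, LinearMap.smul_apply, hez, smul_zero]
    have h := (rGL_mul_rGL C hQz hu hu').2
    rw [smul_smul, mul_div_cancel₀ _ hQz, sGL_smul C hQe hez] at h
    rw [← h, ← mul_assoc, rGL_sq C hQz, one_mul]
  set c := B x' x / Q x with hc
  set μ := (lam - 1) / Q x with hμ
  set b := (μ * a1) • x + (μ * (a2 - c * a1)) • x' with hb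
  have hBeb : B e b = 0 := by rw [hb]; simp [hBex, hBex']
  have hs : sGL Q B e b ∈ H := by
    have hconj := mul_mem (inv_mem hτ) (mul_mem (mul_mem hhH hτ) (inv_mem hhH))
    have e1 : h * (rGL Q x * rGL Q x') * h⁻¹ = (h * rGL Q x * h⁻¹) * (h * rGL Q x' * h⁻¹) := by
      group
    rw [e1, rGL_conj C hQx hhI, rGL_conj C hQx' hhI, hmv h1, hmv h2, shift hQx hBex,
      shift hQx' hBex'] at hconj
    set a := ((lam - 1) * a1 / Q x) • x with ha
    set a' := ((lam - 1) * a2 / Q x') • x' with ha'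
    have hea : B e a = 0 := by rw [ha, map_smul, hBex, smul_zero]
    have hea' : B e a' = 0 := by rw [ha', map_smul, hBex', smul_zero]
    have hR := rGL_mem C hQx'
    have e2 : (rGL Q x * rGL Q x')⁻¹ * (rGL Q x * sGL Q B e a * (rGL Q x' * sGL Q B e a')) =
        (rGL Q x' * sGL Q B e a * (rGL Q x')⁻¹) * sGL Q B e a' := by
      rw [mul_inv_rev, rGL_inv C hQx, rGL_inv C hQx']
      calc rGL Q x' * rGL Q x * (rGL Q x * sGL Q B e a * (rGL Q x' * sGL Q B e a'))
          = rGL Q x' * (rGL Q x * rGL Q x) * sGL Q B e a * rGL Q x' * sGL Q B e a' := by group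
        _ = _ := by rw [rGL_sq C hQx, mul_one]
    rw [e2, sGL_conj C hQe hea hR, rGL_fix C hQx' (by rw [C.symm]; exact hBex')] at hconj
    have hea2 : B e ((rGL Q x').val *ᵥ a) = 0 := by
      rw [rGL_act C hQx', map_sub, hea, map_smul, hBex', smul_zero, sub_zero]
    rw [sGL_mul C hQe hea2 hea'] at hconj
    convert hconj using 2
    rw [hb, rGL_act C hQx', ha, ha', map_smul, smul_eq_mul, hQ, hμ, hc]
    match_scalars <;> field_simp
    ring
  have hcb : X.comp m b = (μ * (a1 ^ 2 + a2 ^ 2 - c * a1 * a2)) • e := by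
    rw [hb, map_add, map_smul, map_smul, h1, h2]
    module
  have hc0 : c ≠ 0 := div_ne_zero (by rwa [C.symm]) hQx
  have hμ0 : μ ≠ 0 := div_ne_zero hlam1 hQx
  by_cases hout : ∀ l, l ≠ m → X.comp l b = 0
  swap
  · push Not at hout
    obtain ⟨l, hl, hbl⟩ := hout
    exact hno (T.omega_of_block hS he he0 hQe hBeb hs hl hbl)
  have hbm : b = (μ * (a1 ^ 2 + a2 ^ 2 - c * a1 * a2)) • e := by
    rw [← hcb, X.comp_self (X.mem_of_comp hout)]
  have hbx : B b x = 0 := by rw [hbm, map_smul, LinearMap.smul_apply, hBex, smul_zero]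
  have hbx' : B b x' = 0 := by rw [hbm, map_smul, LinearMap.smul_apply, hBex', smul_zero]
  have hcx : B x' x = c * Q x := by rw [hc, div_mul_cancel₀ _ hQx]
  simp only [hb, map_add, map_smul, LinearMap.add_apply, LinearMap.smul_apply, C.self, smul_eq_mul,
    C.symm x x', hcx, hQ] at hbx hbx'
  have e1 : 2 * a1 + c * a2 - c ^ 2 * a1 = 0 := by
    have : μ * Q x * (2 * a1 + c * a2 - c ^ 2 * a1) = 0 := by linear_combination hbx
    exact (mul_eq_zero.mp this).resolve_left (mul_ne_zero hμ0 hQx)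
  have e2 : 2 * a2 - c * a1 = 0 := by
    have : μ * Q x * (2 * a2 - c * a1) = 0 := by linear_combination hbx'
    exact (mul_eq_zero.mp this).resolve_left (mul_ne_zero hμ0 hQx)
  have ha1 : a1 ≠ 0 := fun h => by
    rw [h] at e1
    have : a2 = 0 := (mul_eq_zero.mp (show c * a2 = 0 by linear_combination e1)).resolve_left hc0
    tauto
  have h4 : (4 : F) - c ^ 2 = 0 := (mul_eq_zero.mp (show a1 * (4 - c ^ 2) = 0 by
    linear_combination 2 * e1 - c * e2)).resolve_left ha1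
  have h40 : (4 : F) ≠ 0 := fun h => hc0 (by
    have : c ^ 2 = 0 := by linear_combination h - h4
    simpa using this)
  have hγ : a1 ^ 2 + a2 ^ 2 - c * a1 * a2 = 0 := (mul_eq_zero.mp
    (show (4 : F) * (a1 ^ 2 + a2 ^ 2 - c * a1 * a2) = 0 by
      linear_combination (2 * a2 - c * a1) * e2 + a1 ^ 2 * h4)).resolve_left h40
  rw [hγ, mul_zero, zero_smul, hb] at hbm
  have hli : LinearIndependent F ![x, x'] :=
    (LinearIndependent.pair_iff' (show x ≠ 0 from fun h => hQx (by rw [h, C.zero]))).mpr fun a ha =>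
      hind (Submodule.mem_span_singleton.mpr ⟨a, ha⟩)
  exact mul_ne_zero hμ0 ha1 (LinearIndependent.pair_iff.mp hli _ _ hbm).1

open Classical in
/-- An element of `H` permutes the blocks. -/
theorem Ctx.mem_stab {g : GL ι F} (hg : g ∈ H) : g ∈ Cfsg.Geo.decompositionStabilizer D := by
  have X := T.dec
  have C := X.space
  have hI := T.le_iso hg
  by_contra hgs
  have hout : ∀ i, ∀ p ∈ D i, Q p ≠ 0 → ∀ j, g.val *ᵥ p ∉ D j :=
    fun i p hp hQp j hj => hgs (T.maps hS hno hg hp hQp hj)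
  have hτ : ∀ {i j : Fin t} {p r : ι → F}, p ∈ D i → r ∈ D j → Q p ≠ 0 → Q r ≠ 0 →
      IsSquare (Q p / Q r) → rGL Q (g.val *ᵥ p) * rGL Q (g.val *ᵥ r) ∈ H := by
    intro i j p r hp hr hQp hQr hsq
    rw [← rGL_conj C hQp hI, ← rGL_conj C hQr hI,
      show g * rGL Q p * g⁻¹ * (g * rGL Q r * g⁻¹) = g * (rGL Q p * rGL Q r) * g⁻¹ by group]
    exact mul_mem (mul_mem hg (T.rr_mem hp hr hQp hQr hsq)) (inv_mem hg)
  have good : ∀ i, ∃ p ∈ D i, ∃ p' ∈ D i, Q p ≠ 0 ∧ Q (g.val *ᵥ p') = Q (g.val *ᵥ p) ∧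
      B (g.val *ᵥ p) (g.val *ᵥ p') ≠ 0 ∧ g.val *ᵥ p' ∉ Submodule.span F {g.val *ᵥ p} ∧
      rGL Q (g.val *ᵥ p) * rGL Q (g.val *ᵥ p') ∈ H := by
    intro i
    obtain ⟨p, hp, p', hp', hQp, hQp', hi, hB⟩ := X.exists_pair hS i (one_ne_zero (α := F))
    refine ⟨p, hp, p', hp', hQp ▸ one_ne_zero, by rw [mem_iso.mp hI, mem_iso.mp hI, hQp, hQp'],
      by rwa [C.B_act hI], fun h => ?_, hτ hp hp' (hQp ▸ one_ne_zero) (hQp' ▸ one_ne_zero)
        ⟨1, by rw [hQp, hQp']; norm_num⟩⟩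
    obtain ⟨c, hc⟩ := Submodule.mem_span_singleton.mp h
    rw [← Matrix.mulVec_smul] at hc
    exact hi (Submodule.mem_span_singleton.mpr ⟨c, act_injective g hc⟩)
  have i₀ : Fin t := ⟨0, by have := X.two_le; omega⟩
  by_cases hk : k = 2
  swap
  · have hk4 : 4 ≤ k := by
      have := X.k2
      have := hS.odd3
      omega
    obtain ⟨p, hp, p', -, hQp, hQ, hB, hi, hH⟩ := good i₀
    obtain ⟨j, hj⟩ : ∃ j, Q (X.comp j (g.val *ᵥ p)) ≠ 0 := by
      by_contra h
      push Not at h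
      exact hQp (by rw [← mem_iso.mp hI, X.Q_sum]; exact Finset.sum_eq_zero fun l _ => h l)
    obtain ⟨q, hq, hQq, h1, h2⟩ := X.exists_perp_nonsing hk4 (X.comp_mem j _) (X.comp_mem j
      (g.val *ᵥ p')) hj
    exact T.no_fixed hS hno (by rwa [mem_iso.mp hI]) hQ hB hi (hout i₀ p hp hQp) hH hq hQq
      (by rwa [X.comp_B j _ hq] at h1) (by rwa [X.comp_B j _ hq] at h2)
  have ht := X.t6 hk
  by_cases hinj : ∀ i m, ∀ y ∈ D i, X.comp m (g.val *ᵥ y) = 0 → y = 0
  swap
  · push Not at hinj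
    obtain ⟨i, m, y, hy, hy0, hyne⟩ := hinj
    obtain ⟨p, hp, p', hp', hQp, hQ, hB, hi, hH⟩ := good i
    let f : D i →ₗ[F] (ι → F) := (X.comp m) ∘ₗ (Matrix.mulVecLin g.val) ∘ₗ (D i).subtype
    have hf : ∀ z : D i, f z = X.comp m (g.val *ᵥ (z : ι → F)) := fun z => by simp [f]
    have hr : finrank F (LinearMap.range f) ≤ 1 := by
      have h := LinearMap.finrank_range_add_finrank_ker f
      have hpos : LinearMap.ker f ≠ ⊥ := fun hb => hyne (congrArg Subtype.val
        (LinearMap.ker_eq_bot'.mp hb ⟨y, hy⟩ (by rw [hf]; exact hy0)))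
      have := Submodule.one_le_finrank_iff.mpr hpos
      rw [X.dim] at h
      omega
    have hmem : ∀ z ∈ D i, X.comp m (g.val *ᵥ z) ∈ LinearMap.range f := fun z hz => ⟨⟨z, hz⟩, hf _⟩
    obtain ⟨v, hv⟩ := finrank_le_one_iff.mp hr
    have hvm : (v : ι → F) ∈ D m := by
      obtain ⟨z, hz⟩ := v.2
      rw [← hz, hf]; exact X.comp_mem m _
    obtain ⟨a1, ha1⟩ := hv ⟨_, hmem p hp⟩
    obtain ⟨a2, ha2⟩ := hv ⟨_, hmem p' hp'⟩
    have e1 : X.comp m (g.val *ᵥ p) = a1 • (v : ι → F) := (congrArg Subtype.val ha1).symm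
    have e2 : X.comp m (g.val *ᵥ p') = a2 • (v : ι → F) := (congrArg Subtype.val ha2).symm
    have hQgp : Q (g.val *ᵥ p) ≠ 0 := by rwa [mem_iso.mp hI]
    have fin : ∀ q ∈ D m, Q q ≠ 0 → a1 * B (v : ι → F) q = 0 → a2 * B (v : ι → F) q = 0 → False :=
      fun q hq hQq hq1 hq2 => T.no_fixed hS hno hQgp hQ hB hi (hout i p hp hQp) hH hq hQq
        (by rw [← X.comp_B m _ hq, e1, map_smul, LinearMap.smul_apply, smul_eq_mul, hq1])
        (by rw [← X.comp_B m _ hq, e2, map_smul, LinearMap.smul_apply, smul_eq_mul, hq2])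
    obtain ⟨s, hs, hQs⟩ := exists_nonsing C (X.nd m) (X.ne_bot m)
    by_cases hz : a1 = 0 ∧ a2 = 0
    · exact fin s hs hQs (by simp [hz.1]) (by simp [hz.2])
    have hne : a1 ≠ 0 ∨ a2 ≠ 0 := by tauto
    by_cases hv0 : (v : ι → F) = 0
    · exact fin s hs hQs (by simp [hv0]) (by simp [hv0])
    by_cases hQv : Q (v : ι → F) = 0
    · exact T.omega_of_singular_proj hS hno hk hQgp hQ hB hi hH hvm hv0 hQv e1 e2 hne
    obtain ⟨b0, b1, P⟩ := X.exists_plane hk m
    obtain ⟨a, ha, ha0, hva⟩ := P.exists_perp_ne (by rw [X.dim, hk]) (x := (v : ι → F))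
    refine fin a ha (fun hQa => ha0 (P.eq_zero_of_perp hvm ha ha hv0 (fun h => ?_) hva
      (C.self_zero hQa))) (by rw [hva, mul_zero]) (by rw [hva, mul_zero])
    obtain ⟨d, rfl⟩ := Submodule.mem_span_singleton.mp h
    rw [C.smul, mul_eq_zero] at hQa
    exact ha0 (by rw [pow_eq_zero_iff two_ne_zero] at hQa; rw [hQa.resolve_right hQv, zero_smul])
  -- full projections: two orthogonal images fixing a common block vector
  have hP : ∀ i, ∃ b0 b1, Plane Q B (D i) b0 b1 := X.exists_plane hk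
  choose b0 b1 P using hP
  set L := lines Q (b0 i₀) (b1 i₀) with hL
  have hL3 : 3 ≤ L.card := by
    obtain ⟨hq, -, -⟩ := X.lines_ok hS hk (P i₀)
    have := (P i₀).card_lines
    have := Fintype.one_lt_card (α := F)
    rw [hL]
    omega
  set pl : Option F → (ι → F) := fun o => line (b0 i₀) (b1 i₀) o with hpl
  let Bad : Option F → Fin t → Prop := fun o i =>
    ∃ y ∈ D i, y ≠ 0 ∧ Q y = 0 ∧ B (pl o) (g.val *ᵥ y) = 0
  have hbad : ∀ i, (L.filter fun o => Bad o i).card ≤ 2 := by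
    intro i
    choose! yv hyD hy0 hyQ hyB using fun o (h : Bad o i) => h
    choose! ol cl hcl hline using fun o (h : Bad o i) => (P i).exists_line (hyD o h) (hy0 o h)
    refine le_trans ?_ ((P i).zeros_le_two (G := Q) (β := B (b0 i) (b1 i))
      (fun a b => by rw [C.smul_add]; ring) (exists_nonsing C (X.nd i) (X.ne_bot i)))
    refine Finset.card_le_card_of_injOn ol (fun o ho => ?_) (fun o ho o' ho' e => ?_)
    · obtain ⟨-, hb⟩ := Finset.mem_filter.mp ho
      refine Finset.mem_filter.mpr ⟨Finset.mem_univ _, ?_⟩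
      have := hyQ o hb
      rw [hline o hb, C.smul] at this
      exact (mul_eq_zero.mp this).resolve_left (pow_ne_zero _ (hcl o hb))
    · obtain ⟨-, hb⟩ := Finset.mem_filter.mp ho
      obtain ⟨-, hb'⟩ := Finset.mem_filter.mp ho'
      set ℓ := line (b0 i) (b1 i) (ol o) with hℓ
      have hℓm : ℓ ∈ D i := (P i).line_mem _
      have hz : ∀ o'', Bad o'' i → ol o'' = ol o → B (X.comp i₀ (g.val *ᵥ ℓ)) (pl o'') = 0 := by
        intro o'' hb'' he
        have h := hyB o'' hb''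
        rw [hline o'' hb'', he, ← hℓ, Matrix.mulVec_smul, map_smul, smul_eq_zero] at h
        rw [X.comp_B i₀ _ ((P i₀).line_mem o''), C.symm]
        exact h.resolve_left (hcl o'' hb'')
      exact (P i₀).perp_unique (X.comp_mem i₀ _)
        (fun h => (P i).line_ne _ (hinj i i₀ ℓ hℓm h)) (hz o hb rfl) (hz o' hb' e.symm)
  obtain ⟨o, ho, hgood⟩ : ∃ o ∈ L, 3 ≤ (Finset.univ.filter fun i => ¬ Bad o i).card := by
    by_contra h
    push Not at h
    have hL4 : 4 ≤ L.card := by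
      by_cases hex : ∃ o i, Bad o i
      · obtain ⟨-, i, y, hy, hy0, hQy, -⟩ := hex
        have := hS.plus hk i y hy hy0 hQy
        have := (P i₀).card_lines
        rw [hL]
        omega
      · push Not at hex
        obtain ⟨o, ho⟩ := Finset.card_pos.mp (show 0 < L.card by omega)
        have := h o ho
        rw [Finset.filter_true_of_mem (fun i _ => hex o i), Finset.card_univ, Fintype.card_fin] at this
        omega
    have h1 := Finset.card_mul_le_card_mul Bad (s := L) (t := (Finset.univ : Finset (Fin t)))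
      (m := t - 2) (n := 2) (fun o ho => ?_) (fun i _ => hbad i)
    · rw [Finset.card_univ, Fintype.card_fin] at h1
      obtain ⟨w, rfl⟩ : ∃ w, t = w + 2 := ⟨t - 2, by omega⟩
      rw [Nat.add_sub_cancel] at h1
      nlinarith
    · have := h o ho
      have e := Finset.card_filter_add_card_filter_not (s := (Finset.univ : Finset (Fin t)))
        (fun i => Bad o i)
      rw [Finset.card_univ, Fintype.card_fin] at e
      simp only [Finset.bipartiteAbove]
      omega
  obtain ⟨ia, ib, ic, hia, hib, hic, hab, hac, hbc⟩ := Finset.two_lt_card_iff.mp hgood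
  simp only [Finset.mem_filter, Finset.mem_univ, true_and] at hia hib hic
  have hp : pl o ∈ D i₀ := (P i₀).line_mem o
  have hQpo : Q (pl o) ≠ 0 := mem_lines.mp ho
  have pick : ∀ i, ¬ Bad o i → ∃ z ∈ D i, Q z ≠ 0 ∧ B (pl o) (g.val *ᵥ z) = 0 := by
    intro i hb
    obtain ⟨z, hz, hz0, hzp⟩ := (P i).exists_perp_ne (by rw [X.dim, hk])
      (x := X.comp i ((g⁻¹ : GL ι F).val *ᵥ pl o))
    rw [X.comp_B i _ hz] at hzp
    have hzp' : B (pl o) (g.val *ᵥ z) = 0 := by
      rw [C.symm, C.B_act_left hI, C.symm]; exact hzp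
    exact ⟨z, hz, fun hQz => hb ⟨z, hz, hz0, hQz, hzp'⟩, hzp'⟩
  obtain ⟨za, hza, hQa, hpa⟩ := pick ia hia
  obtain ⟨zb, hzb, hQb, hpb⟩ := pick ib hib
  obtain ⟨zc, hzc, hQc, hpc⟩ := pick ic hic
  obtain ⟨i, j, hij, z, hz, z', hz', hQz, hQz', hpz, hpz', hsq⟩ : ∃ i j, i ≠ j ∧ ∃ z ∈ D i, ∃ z' ∈ D j,
      Q z ≠ 0 ∧ Q z' ≠ 0 ∧ B (pl o) (g.val *ᵥ z) = 0 ∧ B (pl o) (g.val *ᵥ z') = 0 ∧
      IsSquare (Q z / Q z') := by
    by_cases h1 : IsSquare (Q za / Q zb)
    · exact ⟨ia, ib, hab, za, hza, zb, hzb, hQa, hQb, hpa, hpb, h1⟩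
    by_cases h2 : IsSquare (Q zc / Q zb)
    · exact ⟨ic, ib, Ne.symm hbc, zc, hzc, zb, hzb, hQc, hQb, hpc, hpb, h2⟩
    refine ⟨ia, ic, hac, za, hza, zc, hzc, hQa, hQc, hpa, hpc, ?_⟩
    have h := isSquare_div h1 h2
    rwa [div_div_div_cancel_right₀ hQb] at h
  set ya := g.val *ᵥ z with hya
  set yb := g.val *ᵥ z' with hyb
  have hQya : Q ya ≠ 0 := by rwa [hya, mem_iso.mp hI]
  have hQyb : Q yb ≠ 0 := by rwa [hyb, mem_iso.mp hI]
  have hH := hτ hz hz' hQz hQz' hsq
  rw [← hya, ← hyb] at hH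
  have hfix : (rGL Q ya * rGL Q yb).val *ᵥ pl o = pl o := by
    rw [mul_act, rGL_fix C hQyb (by rw [C.symm]; exact hpz'),
      rGL_fix C hQya (by rw [C.symm]; exact hpz)]
  obtain ⟨σ, hσ⟩ := exists_perm (T.maps hS hno hH hp hQpo (j₀ := i₀) (by rw [hfix]; exact hp))
  have hBab : B ya yb = 0 := by rw [hya, hyb, C.B_act hI]; exact X.orth i j hij z hz z' hz'
  have hind : LinearIndependent F ![ya, yb] :=
    (LinearIndependent.pair_iff' (show ya ≠ 0 from fun h => hQya (by rw [h, C.zero]))).mpr fun c hc => by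
      have h0 : z' = c • z := act_injective g (show g.val *ᵥ z' = g.val *ᵥ (c • z) by rw [Matrix.mulVec_smul]; exact hc.symm)
      exact hQz' (by rw [X.disj hij (h0 ▸ (D i).smul_mem c hz) hz', C.zero])
  set W := Submodule.span F (({ya, yb} : Finset (ι → F)) : Set (ι → F)) with hW
  have hyW : ya ∈ W ∧ yb ∈ W := ⟨Submodule.subset_span (by simp), Submodule.subset_span (by simp)⟩
  have hW2 : finrank F W ≤ 2 := (finrank_span_finset_le_card _).trans Finset.card_le_two
  have hact : ∀ w, (rGL Q ya * rGL Q yb).val *ᵥ w - w =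
      (-((Q ya)⁻¹ * B ya w)) • ya + (-((Q yb)⁻¹ * B yb w)) • yb := fun w => by
    rw [mul_act, rGL_act C hQya, rGL_act C hQyb, map_sub, map_smul, hBab]
    module
  have hres : ∀ w, (rGL Q ya * rGL Q yb).val *ᵥ w - w ∈ W := fun w => by
    rw [hact]; exact W.add_mem (W.smul_mem _ hyW.1) (W.smul_mem _ hyW.2)
  have hfull : ∀ m, X.comp m ya ≠ 0 := fun m h =>
    hQz (by rw [hinj i m z hz h, C.zero])
  obtain ⟨m, m', hle⟩ := X.resid_two hW2 hres hσ fun m => by
    obtain ⟨w, hw, hne⟩ : ∃ w ∈ D m, B (X.comp m ya) w ≠ 0 := by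
      by_contra h
      push Not at h
      exact hfull m (X.nd m _ (X.comp_mem m ya) h)
    refine ⟨w, hw, fun h => ?_⟩
    rw [← sub_eq_zero, hact] at h
    have := (LinearIndependent.pair_iff.mp hind _ _ h).1
    rw [neg_eq_zero, mul_eq_zero, ← X.comp_B m ya hw] at this
    exact hne (this.resolve_left (inv_ne_zero hQya))
  obtain ⟨l, hl⟩ := Finset.card_pos.mp (show 0 < (Finset.univ \ ({m, m'} : Finset (Fin t))).card by
    rw [Finset.card_sdiff_of_subset (Finset.subset_univ _), Finset.card_univ, Fintype.card_fin]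
    have := Finset.card_le_two (a := m) (b := m')
    omega)
  simp only [Finset.mem_sdiff, Finset.mem_univ, Finset.mem_insert, Finset.mem_singleton, true_and,
    not_or] at hl
  obtain ⟨u, hu, v, hv, huv⟩ := Submodule.mem_sup.mp (hle hyW.1)
  refine hfull l ?_
  rw [← huv, map_add, X.comp_other (Ne.symm hl.1) hu, X.comp_other (Ne.symm hl.2) hv, add_zero]

end Cfsg.Lib.Linear.ODec
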