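import Cfsg.Agent.Lib.Linear.ODec.Moves

/-!
# Rotations and values in blocks of dimension two
-/

set_option autoImplicit false

namespace Cfsg.Lib.Linear.ODec

open Module Cfsg.Lib.Linear.Orth
open scoped Matrix

variable {ι : Type} [Fintype ι] [DecidableEq ι] {F : Type*} [Field F] [Fintype F]
  {Q : (ι → F) → F} {B : LinearMap.BilinForm F (ι → F)}
  {U : Submodule F (ι → F)} {b0 b1 : ι → F}

/-- A vector perpendicular to two independent vectors of a plane is zero. -/
theorem Plane.eq_zero_of_perp (P : Plane Q B U b0 b1) {p p' v : ι → F} (hp : p ∈ U) (hp' : p' ∈ U)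
    (hv : v ∈ U) (hp0 : p ≠ 0) (hi : p' ∉ Submodule.span F {p}) (h : B p v = 0) (h' : B p' v = 0) :
    v = 0 := by
  by_contra hv0
  obtain ⟨o, c, hc, hpo⟩ := P.exists_line hp hp0
  obtain ⟨o', c', hc', hpo'⟩ := P.exists_line hp' fun e => hi (e ▸ Submodule.zero_mem _)
  have ho : o' = o := P.perp_unique hv hv0
    (by rw [P.space.symm, hpo', map_smul, smul_eq_zero] at h'; exact h'.resolve_left hc')
    (by rw [P.space.symm, hpo, map_smul, smul_eq_zero] at h; exact h.resolve_left hc)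
  refine hi (Submodule.mem_span_singleton.mpr ⟨c' / c, ?_⟩)
  rw [hpo, smul_smul, div_mul_cancel₀ _ hc, hpo', ho]

/-- A rotation fixes no non-zero vector. -/
theorem Plane.rot_ne (P : Plane Q B U b0 b1) {p p' v : ι → F} (hp : p ∈ U) (hp' : p' ∈ U)
    (hv : v ∈ U) (hQp : Q p ≠ 0) (hQp' : Q p' ≠ 0) (hi : p' ∉ Submodule.span F {p}) (hv0 : v ≠ 0) :
    (rGL Q p).val *ᵥ ((rGL Q p').val *ᵥ v) ≠ v := by
  have C := P.space
  have hp0 : p ≠ 0 := fun h => hQp (h ▸ C.zero)
  intro h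
  have h' : (rGL Q p').val *ᵥ v = (rGL Q p).val *ᵥ v := by
    have := congrArg (fun z => (rGL Q p).val *ᵥ z) h
    simp only [← mul_act, ← mul_assoc, rGL_sq C hQp, one_mul] at this
    exact this
  rw [rGL_act C hQp', rGL_act C hQp, sub_right_inj] at h'
  by_cases hb : B p' v = 0
  · rw [hb, mul_zero, zero_smul] at h'
    rcases smul_eq_zero.mp h'.symm with e | e
    · exact hv0 (P.eq_zero_of_perp hp hp' hv hp0 hi
        ((mul_eq_zero.mp e).resolve_left (inv_ne_zero hQp)) hb)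
    · exact hp0 e
  · refine hi (Submodule.mem_span_singleton.mpr
      ⟨((Q p')⁻¹ * B p' v)⁻¹ * ((Q p)⁻¹ * B p v), ?_⟩)
    rw [mul_smul, ← h', smul_smul, inv_mul_cancel₀ (mul_ne_zero (inv_ne_zero hQp') hb), one_smul]

/-- A rotation keeps a singular line. -/
theorem Plane.rot_singular (P : Plane Q B U b0 b1) {p p' e : ι → F} (hp : p ∈ U) (hp' : p' ∈ U)
    (he : e ∈ U) (hQp : Q p ≠ 0) (hQp' : Q p' ≠ 0) (he0 : e ≠ 0) (hQe : Q e = 0) :
    ∃ c : F, (rGL Q p).val *ᵥ ((rGL Q p').val *ᵥ e) = c • e := by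
  classical
  have C := P.space
  have move : ∀ {q z : ι → F}, q ∈ U → Q q ≠ 0 → z ∈ U → z ≠ 0 → Q z = 0 →
      ∀ c : F, (rGL Q q).val *ᵥ z ≠ c • z := by
    intro q z hq hQq hz hz0 hQz c h
    rw [rGL_act C hQq] at h
    by_cases hb : B q z = 0
    · refine hz0 (P.eq_zero_of_perp hq hz hz (fun h => hQq (h ▸ C.zero)) (fun hs => ?_) hb
        (C.self_zero hQz))
      obtain ⟨d, rfl⟩ := Submodule.mem_span_singleton.mp hs
      rw [C.smul, mul_eq_zero] at hQz
      rcases hQz with e' | e'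
      · exact hz0 (by rw [pow_eq_zero_iff two_ne_zero] at e'; rw [e', zero_smul])
      · exact hQq e'
    · have hq' : q = (((Q q)⁻¹ * B q z)⁻¹ * (1 - c)) • z := by
        have h2 : ((Q q)⁻¹ * B q z) • q = (1 - c) • z := by
          linear_combination (norm := module) (-1 : ℤ) • h
        rw [mul_smul, ← h2, smul_smul, inv_mul_cancel₀ (mul_ne_zero (inv_ne_zero hQq) hb), one_smul]
      exact hQq (by rw [hq', C.smul, hQz, mul_zero])
  set z := (rGL Q p').val *ᵥ e with hz
  set w := (rGL Q p).val *ᵥ z with hw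
  have hzU : z ∈ U := by rw [hz, rGL_act C hQp']; exact U.sub_mem he (U.smul_mem _ hp')
  have hwU : w ∈ U := by rw [hw, rGL_act C hQp]; exact U.sub_mem hzU (U.smul_mem _ hp)
  have hQz : Q z = 0 := by rw [hz, mem_iso.mp (rGL_mem C hQp'), hQe]
  have hQw : Q w = 0 := by rw [hw, mem_iso.mp (rGL_mem C hQp), hQz]
  have hz0 : z ≠ 0 := act_ne_zero he0
  have hw0 : w ≠ 0 := act_ne_zero hz0
  obtain ⟨oe, ce, hce, heo⟩ := P.exists_line he he0
  obtain ⟨oz, cz, hcz, hzo⟩ := P.exists_line hzU hz0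
  obtain ⟨ow, cw, hcw, hwo⟩ := P.exists_line hwU hw0
  have zero : ∀ {o} {c : F} {v : ι → F}, c ≠ 0 → v = c • line b0 b1 o → Q v = 0 →
      Q (line b0 b1 o) = 0 := fun {o c v} hc hv h => by
    rw [hv, C.smul] at h
    exact (mul_eq_zero.mp h).resolve_left (pow_ne_zero _ hc)
  have hez : oe ≠ oz := fun h => move hp' hQp' he he0 hQe (cz / ce) (by
    rw [← hz, heo, smul_smul, div_mul_cancel₀ _ hce, hzo, h])
  have hzw : oz ≠ ow := fun h => move hp hQp hzU hz0 hQz (cw / cz) (by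
    rw [← hw, hzo, smul_smul, div_mul_cancel₀ _ hcz, hwo, h])
  by_cases hew : ow = oe
  · exact ⟨cw / ce, by rw [heo, smul_smul, div_mul_cancel₀ _ hce, hwo, hew]⟩
  exfalso
  have h3 := P.zeros_le_two (G := Q) (β := B b0 b1) (fun a b => by rw [C.smul_add]; ring) ⟨p, hp, hQp⟩
  have hsub : ({oe, oz, ow} : Finset (Option F)) ⊆ Finset.univ.filter fun o => Q (line b0 b1 o) = 0 := by
    intro o ho
    simp only [Finset.mem_insert, Finset.mem_singleton] at ho
    refine Finset.mem_filter.mpr ⟨Finset.mem_univ _, ?_⟩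
    rcases ho with rfl | rfl | rfl
    exacts [zero hce heo hQe, zero hcz hzo hQz, zero hcw hwo hQw]
  have := Finset.card_le_card hsub
  rw [Finset.card_insert_of_notMem (by simp [hez, Ne.symm hew]),
    Finset.card_insert_of_notMem (by simp [hzw]), Finset.card_singleton] at this
  omega

/-- A vector of given norm not perpendicular to a given non-zero vector. -/
theorem Plane.exists_norm_nonperp (P : Plane Q B U b0 b1) (h2 : finrank F U = 2)
    (h3 : 3 ≤ (lines Q b0 b1).card) {x : ι → F} (hx : x ∈ U) (hx0 : x ≠ 0) {c : F} (hc : c ≠ 0) :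
    ∃ p ∈ U, Q p = c ∧ B x p ≠ 0 := by
  classical
  have C := P.space
  obtain ⟨p₀, hp₀, hQp₀⟩ := ODec.exists_norm C P.nd (by omega) hc
  obtain ⟨N, hN, hNm⟩ := P.exists_norm_set hp₀ (hQp₀ ▸ hc)
  by_contra hne
  push Not at hne
  obtain ⟨o₀, c₀, hc₀, hp₀o⟩ := P.exists_line hp₀ fun h => hc (by rw [← hQp₀, h, C.zero])
  have : N ⊆ {p₀, -p₀} := fun z hz => by
    obtain ⟨hzU, hQz⟩ := hNm z hz
    rw [hQp₀] at hQz
    obtain ⟨o, d, hd, hzo⟩ := P.exists_line hzU fun h => hc (by rw [← hQz, h, C.zero])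
    have ho : o = o₀ := P.perp_unique hx hx0
      (by have := hne z hzU hQz; rw [hzo, map_smul, smul_eq_zero] at this
          exact this.resolve_left hd)
      (by have := hne p₀ hp₀ hQp₀; rw [hp₀o, map_smul, smul_eq_zero] at this
          exact this.resolve_left hc₀)
    have h : Q (line b0 b1 o) ≠ 0 := fun h => hc (by rw [← hQz, hzo, C.smul, h, mul_zero])
    have hdd : d ^ 2 = c₀ ^ 2 := mul_right_cancel₀ h (by
      rw [← C.smul, ← hzo, hQz, ho, ← C.smul, ← hp₀o, hQp₀])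
    simp only [Finset.mem_insert, Finset.mem_singleton]
    rcases sq_eq_sq_iff_eq_or_eq_neg.mp hdd with e | e
    · exact Or.inl (by rw [hzo, hp₀o, ho, e])
    · exact Or.inr (by rw [hzo, hp₀o, ho, e, neg_smul])
  have := (Finset.card_le_card this).trans Finset.card_le_two
  omega

end Cfsg.Lib.Linear.ODec
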