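import Cfsg.Agent.Lib.Linear.ODec.Basic

/-!
# A single root element spreads to whole blocks

`H` contains `s(u, a)`; `u` has no component in the block `l` and `a` has one.  Then `H` contains
`s(u, b)` for every `b` in the block `l`.
-/

set_option autoImplicit false

namespace Cfsg.Lib.Linear.ODec

open Module Cfsg.Lib.Linear.Orth
open scoped Matrix

variable {ι : Type} [Fintype ι] [DecidableEq ι] {F : Type*} [Field F]
  {Q : (ι → F) → F} {B : LinearMap.BilinForm F (ι → F)}
  {t : ℕ} {D : Fin t → Submodule F (ι → F)} {k : ℕ}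

/-- An additive group of a block invariant under its root elements is everything (`k ≥ 4`). -/
theorem Dec.full_of_roots [Finite F] (X : Dec Q B D k) (hk : 4 ≤ k) {l : Fin t}
    {A : AddSubgroup (ι → F)}
    (hinv : ∀ w ∈ D l, ∀ b ∈ D l, Q w = 0 → B w b = 0 → ∀ v ∈ A, v ∈ D l →
      (sGL Q B w b).val *ᵥ v - v ∈ A)
    {v0 : ι → F} (hv0 : v0 ∈ A) (hv0m : v0 ∈ D l) (hv00 : v0 ≠ 0) :
    ∀ y ∈ D l, y ∈ A := by
  have C := X.space
  -- a singular vector seen by an element of `A` gives its line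
  have step : ∀ v ∈ A, v ∈ D l → ∀ w ∈ D l, Q w = 0 → B w v ≠ 0 → ∀ c : F, c • w ∈ A := by
    intro v hv hvm w hw hQw hwv c
    have hw0 : w ≠ 0 := fun h => hwv (by rw [h, map_zero, LinearMap.zero_apply])
    obtain ⟨f, hf⟩ := exists_hyp C (X.nd l) hw hw0 hQw
    have hdim := hf.le_finrank C
    rw [X.dim] at hdim
    obtain ⟨b, hb, hb0⟩ := Submodule.exists_mem_ne_zero_of_ne_bot
      (p := perp2 B (D l) w f) fun h => by rw [h, finrank_bot] at hdim; omega
    obtain ⟨b', hb', hbb⟩ : ∃ b' ∈ perp2 B (D l) w f, B b b' ≠ 0 := by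
      by_contra h
      push Not at h
      exact hb0 (hf.ndeg C (X.nd l) b hb h)
    obtain ⟨hbm, hwb, -⟩ := mem_perp2.mp hb
    obtain ⟨hb'm, hwb', -⟩ := mem_perp2.mp hb'
    set d := -c / (B w v * B b' b) with hd
    have hwdb : B w (d • b) = 0 := by rw [map_smul, hwb, smul_zero]
    set z := (sGL Q B w (d • b)).val *ᵥ v - v with hz
    have hzA : z ∈ A := hinv w hw (d • b) ((D l).smul_mem d hbm) hQw hwdb v hv hvm
    have hzm : z ∈ D l :=
      (D l).sub_mem (X.sGL_pres hw ((D l).smul_mem d hbm) hQw hwdb l hvm) hvm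
    have key := hinv w hw b' hb'm hQw hwb' z hzA hzm
    have hwz : B w z = 0 := by
      rw [hz, sGL_act C hQw hwdb]
      simp [hwb, C.self_zero hQw]
    have hb'z : B b' z = B w v * d * B b' b := by
      rw [hz, sGL_act C hQw hwdb]
      simp [C.symm b' w, hwb']
      ring
    rw [sGL_act C hQw hwb', hwz, hb'z] at key
    have e : -(B w v * d * B b' b) = c := by
      have hne : B b' b ≠ 0 := by rwa [C.symm]
      rw [hd]; field_simp
    convert key using 1
    rw [← e]
    module
  -- the vectors whose line lies in `A`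
  let S : Submodule F (ι → F) :=
    { carrier := {v | v ∈ D l ∧ ∀ c : F, c • v ∈ A}
      add_mem' := fun ha hb => ⟨(D l).add_mem ha.1 hb.1, fun c => by
        rw [smul_add]; exact A.add_mem (ha.2 c) (hb.2 c)⟩
      zero_mem' := ⟨(D l).zero_mem, fun c => by rw [smul_zero]; exact A.zero_mem⟩
      smul_mem' := fun d v hv => ⟨(D l).smul_mem d hv.1, fun c => by rw [smul_smul]; exact hv.2 _⟩ }
  have hsing : ∀ {w v : ι → F}, v ∈ A → v ∈ D l → w ∈ D l → Q w = 0 → B w v ≠ 0 → w ∈ S :=
    fun hv hvm hw hQw hne => ⟨hw, step _ hv hvm _ hw hQw hne⟩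
  have mem : ∀ {w}, w ∈ S → w ∈ A := fun {w} hw => by simpa using hw.2 1
  obtain ⟨e, he, hQe, hev⟩ : ∃ e ∈ D l, Q e = 0 ∧ B e v0 ≠ 0 := by
    by_contra h
    push Not at h
    refine hv00 (X.nd l v0 hv0m fun y hy => ?_)
    have hle : Submodule.span F {w | w ∈ D l ∧ Q w = 0} ≤ LinearMap.ker (B v0) :=
      Submodule.span_le.mpr fun w hw => LinearMap.mem_ker.mpr (by
        rw [C.symm]; exact h w hw.1 hw.2)
    exact LinearMap.mem_ker.mp (hle (span_sing C (X.nd l) (by rw [X.dim]; omega) hy))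
  obtain ⟨f, hf⟩ := exists_hyp C (X.nd l) he
    (fun h => hev (by rw [h, map_zero, LinearMap.zero_apply])) hQe
  have heS : e ∈ S := hsing hv0 hv0m he hQe hev
  have hfS : f ∈ S := hsing (mem heS) he hf.memF hf.singF (by rw [hf.pair' C]; exact one_ne_zero)
  have hall : ∀ w, w ∈ D l → Q w = 0 → w ∈ S := by
    intro w hw hQw
    by_cases h1 : B w e = 0
    · by_cases h2 : B w f = 0
      · have h3 : e + w ∈ S := hsing (mem hfS) hf.memF ((D l).add_mem he hw)
          (by rw [C.add, hQe, hQw, C.symm e w, h1]; simp)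
          (by rw [map_add, LinearMap.add_apply, hf.pair, h2, add_zero]; exact one_ne_zero)
        simpa using S.sub_mem h3 heS
      · exact hsing (mem hfS) hf.memF hw hQw h2
    · exact hsing (mem heS) he hw hQw h1
  intro y hy
  exact mem (Submodule.span_le.mpr (fun w hw => hall w hw.1 hw.2)
    (span_sing C (X.nd l) (by rw [X.dim]; omega) hy))

theorem Dec.exists_plane (X : Dec Q B D k) (hk : k = 2) (l : Fin t) :
    ∃ b0 b1, Plane Q B (D l) b0 b1 :=
  ODec.exists_plane X.space (X.nd l) (by rw [X.dim, hk])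

/-- Enough lines in a block of dimension two. -/
theorem Dec.lines_ok [Fintype F] (X : Dec Q B D k) (hS : Small Q D k) (hk : k = 2) {l : Fin t}
    {b0 b1 : ι → F} (P : Plane Q B (D l) b0 b1) :
    (5 ≤ Fintype.card F ∨ (lines Q b0 b1).card = Fintype.card F + 1) ∧
      2 ≤ (lines Q b0 b1).card ∧ ((2 : F) ≠ 0 → 6 ≤ (lines Q b0 b1).card) := by
  have h1 := P.card_lines
  have hq := Fintype.one_lt_card (α := F)
  by_cases ha : ∀ x ∈ D l, Q x = 0 → x = 0
  · have h2 := P.card_lines_aniso ha
    refine ⟨Or.inr h2, by omega, fun h20 => ?_⟩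
    have hodd : Fintype.card F % 2 = 1 := FiniteField.odd_card_of_char_ne_two fun h => h20 (by
      haveI := ringChar.charP F
      have := CharP.cast_eq_zero F (ringChar F)
      rw [h] at this
      exact_mod_cast this)
    have := hS.three hk
    omega
  · push Not at ha
    obtain ⟨x, hx, hQx, hx0⟩ := ha
    have := hS.plus hk l x hx hx0 hQx
    exact ⟨Or.inl (by omega), by omega, fun _ => by omega⟩

/-- An additive group of a plane block invariant under its reflections is everything. -/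
theorem Dec.full_of_refl [Fintype F] (X : Dec Q B D k) (hS : Small Q D k) (hk : k = 2) {l : Fin t}
    {A : AddSubgroup (ι → F)}
    (hinv : ∀ p ∈ D l, Q p ≠ 0 → ∀ v ∈ A, v ∈ D l → (rGL Q p).val *ᵥ v - v ∈ A)
    {v : ι → F} (hv : v ∈ A) (hvm : v ∈ D l) (hv0 : v ≠ 0) :
    ∀ y ∈ D l, y ∈ A := by
  classical
  have C := X.space
  obtain ⟨b0, b1, P⟩ := X.exists_plane hk l
  obtain ⟨hq, hl2, -⟩ := X.lines_ok hS hk P
  have hdim : finrank F (D l) = 2 := by rw [X.dim, hk]
  -- the reflections in two of the lines see `v`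
  have line_full : ∀ o, Q (line b0 b1 o) ≠ 0 → B (line b0 b1 o) v ≠ 0 →
      ∀ c : F, c • line b0 b1 o ∈ A := by
    intro o ho hov c
    set p := line b0 b1 o with hp
    have hpm : p ∈ D l := P.line_mem o
    let A' : AddSubgroup F :=
      { carrier := {α | α • p ∈ A}
        add_mem' := fun {a b} ha hb => by
          show (a + b) • p ∈ A
          rw [add_smul]; exact A.add_mem ha hb
        zero_mem' := by show (0 : F) • p ∈ A; rw [zero_smul]; exact A.zero_mem
        neg_mem' := fun {a} ha => by show (-a) • p ∈ A; rw [neg_smul]; exact A.neg_mem ha }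
    refine P.full_scalars hdim hq hpm ho A' (fun o' ho' α hα => ?_)
      (α := -((Q p)⁻¹ * B p v)) (show _ ∈ A from ?_)
      (neg_ne_zero.mpr (mul_ne_zero (inv_ne_zero ho) hov)) c
    · show _ • p ∈ A
      set s := line b0 b1 o' with hs
      have hsm : s ∈ D l := P.line_mem o'
      have h1 := hinv s hsm ho' (α • p) hα ((D l).smul_mem α hpm)
      have h2 := hinv p hpm ho _ h1 (by
        rw [rGL_act C ho']
        exact (D l).sub_mem ((D l).sub_mem ((D l).smul_mem α hpm) ((D l).smul_mem _ hsm))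
          ((D l).smul_mem α hpm))
      rw [rGL_act C ho', rGL_act C ho] at h2
      convert h2 using 1
      simp only [map_sub, map_smul, smul_eq_mul, C.symm s p]
      match_scalars <;> (try field_simp) <;> ring
    · have h1 := hinv p hpm ho v hv hvm
      rw [rGL_act C ho] at h1
      convert h1 using 1
      module
  obtain ⟨o1, o2, h12, h1, h2, h1v, h2v⟩ : ∃ o1 o2, o1 ≠ o2 ∧ Q (line b0 b1 o1) ≠ 0 ∧
      Q (line b0 b1 o2) ≠ 0 ∧ B (line b0 b1 o1) v ≠ 0 ∧ B (line b0 b1 o2) v ≠ 0 := by
    have h3 : 3 ≤ (lines Q b0 b1).card := by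
      have := P.card_lines
      have := Fintype.one_lt_card (α := F)
      omega
    set G := (lines Q b0 b1).filter fun o => B (line b0 b1 o) v ≠ 0 with hG
    have : 1 < G.card := by
      have h := Finset.card_filter_add_card_filter_not (s := lines Q b0 b1)
        (fun o => B (line b0 b1 o) v ≠ 0)
      have : ((lines Q b0 b1).filter fun o => ¬ B (line b0 b1 o) v ≠ 0).card ≤ 1 :=
        Finset.card_le_one.mpr fun a ha b hb => by
          simp only [Finset.mem_filter, not_not] at ha hb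
          exact P.perp_unique hvm hv0 (by rw [C.symm]; exact ha.2) (by rw [C.symm]; exact hb.2)
      simp only [hG]
      omega
    obtain ⟨a, ha, b, hb, hab⟩ := Finset.one_lt_card.mp this
    simp only [hG, Finset.mem_filter, mem_lines] at ha hb
    exact ⟨a, b, hab, ha.1, hb.1, ha.2, hb.2⟩
  have hcases : ∀ y ∈ D l, ∃ a b : F, y = a • line b0 b1 o1 + b • line b0 b1 o2 := by
    intro y hy
    have hne1 := P.line_ne o1
    have hne2 := P.line_ne o2
    have hli : LinearIndependent F ![line b0 b1 o1, line b0 b1 o2] :=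
      (LinearIndependent.pair_iff' hne1).mpr fun c hc => h12 (P.line_inj hc.symm).symm
    have hle : Submodule.span F (Set.range ![line b0 b1 o1, line b0 b1 o2]) ≤ D l :=
      Submodule.span_le.mpr (by rintro _ ⟨i, rfl⟩; fin_cases i <;> exact P.line_mem _)
    have heq := Submodule.eq_of_le_of_finrank_eq hle (by
      rw [finrank_span_eq_card hli, Fintype.card_fin, hdim])
    rw [← heq, Matrix.range_cons, Matrix.range_cons, Matrix.range_empty, Set.union_empty,
      Set.singleton_union] at hy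
    obtain ⟨a, b, hab⟩ := Submodule.mem_span_pair.mp hy
    exact ⟨a, b, hab.symm⟩
  intro y hy
  obtain ⟨a, b, rfl⟩ := hcases y hy
  exact A.add_mem (line_full o1 h1 h1v a) (line_full o2 h2 h2v b)

section Ctx

variable [Fintype F] {H : Subgroup (GL ι F)} (T : Ctx Q B D k H) (hS : Small Q D k)

include T hS

/-- `s(u, a) ∈ H`, `u` avoiding the block `l`, and `a` meeting it: the block lies in `rootsAt u`. -/
theorem Ctx.block_le {u a : ι → F} (hu : Q u = 0) (hua : B u a = 0) (hH : sGL Q B u a ∈ H)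
    {l : Fin t} (hul : T.dec.comp l u = 0) (hal : T.dec.comp l a ≠ 0)
    (hfree : k = 2 → ∃ m, m ≠ l ∧ T.dec.comp m u = 0) :
    D l ≤ rootsAt Q B T.dec.space H u hu := by
  classical
  have X := T.dec
  have C := X.space
  have hperp : ∀ y ∈ D l, B u y = 0 := fun y hy => by
    rw [← X.comp_B l u hy, hul, map_zero, LinearMap.zero_apply]
  let A : AddSubgroup (ι → F) :=
    { carrier := {v | B u v = 0 ∧ sGL Q B u v ∈ H}
      add_mem' := fun {a b} ha hb => ⟨by rw [map_add, ha.1, hb.1, add_zero], by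
        rw [← sGL_mul C hu ha.1 hb.1]; exact mul_mem ha.2 hb.2⟩
      zero_mem' := ⟨map_zero _, by
        have h : sGL Q B u (0 : ι → F) = 1 := gl_ext fun x => by
          rw [sGL_act C hu (map_zero _), C.zero]; simp
        rw [h]; exact one_mem H⟩
      neg_mem' := fun {a} ha => ⟨by rw [map_neg, ha.1, neg_zero], by
        have hn : B u (-a) = 0 := by rw [map_neg, ha.1, neg_zero]
        have h : sGL Q B u (-a) = (sGL Q B u a)⁻¹ := eq_inv_of_mul_eq_one_left (by
          rw [sGL_mul C hu hn ha.1, neg_add_cancel]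
          exact gl_ext fun x => by rw [sGL_act C hu (map_zero _), C.zero]; simp)
        rw [h]; exact inv_mem ha.2⟩ }
  have conjA : ∀ {g : GL ι F}, g ∈ H → g.val *ᵥ u = u → ∀ {v}, v ∈ A → g.val *ᵥ v ∈ A := by
    intro g hg hgu v hv
    refine ⟨?_, ?_⟩
    · conv_lhs => rw [← hgu]
      rw [C.B_act (T.le_iso hg)]; exact hv.1
    · have := mul_mem (mul_mem hg hv.2) (inv_mem hg)
      rwa [sGL_conj C hu hv.1 (T.le_iso hg), hgu] at this
  have haA : a ∈ A := ⟨hua, hH⟩
  suffices h : ∀ y ∈ D l, y ∈ A by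
    intro y hy
    exact ⟨hperp y hy, fun c => (h _ ((D l).smul_mem c hy)).2⟩
  by_cases hk4 : 4 ≤ k
  · -- root elements of the block
    have gfix : ∀ {w b : ι → F}, w ∈ D l → b ∈ D l → Q w = 0 → B w b = 0 →
        ∀ x, (∀ y ∈ D l, B y x = 0) → (sGL Q B w b).val *ᵥ x = x := fun {w b} hw hb hQw hwb x hx => by
      rw [sGL_act C hQw hwb, hx w hw, hx b hb]; simp
    have hfu : ∀ {w b : ι → F}, w ∈ D l → b ∈ D l → Q w = 0 → B w b = 0 →
        (sGL Q B w b).val *ᵥ u = u := fun hw hb hQw hwb =>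
      gfix hw hb hQw hwb u fun y hy => by rw [C.symm]; exact hperp y hy
    obtain ⟨w, b, hw, hb, hQw, hwb, hmove⟩ : ∃ w b, w ∈ D l ∧ b ∈ D l ∧ Q w = 0 ∧ B w b = 0 ∧
        (sGL Q B w b).val *ᵥ X.comp l a - X.comp l a ≠ 0 := by
      obtain ⟨w, hw, hQw, hwa⟩ : ∃ w ∈ D l, Q w = 0 ∧ B w (X.comp l a) = 1 :=
        exists_sing_pair C (X.nd l) (by rw [X.dim]; omega) (by
          by_contra h
          push Not at h
          exact hal (X.nd l _ (X.comp_mem l a) fun y hy => by rw [C.symm]; exact h y hy))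
      obtain ⟨f, hf⟩ := exists_hyp C (X.nd l) hw
        (fun h => by rw [h, map_zero, LinearMap.zero_apply] at hwa; exact zero_ne_one hwa) hQw
      have hdim := hf.le_finrank C
      rw [X.dim] at hdim
      obtain ⟨b, hb, hb0⟩ := Submodule.exists_mem_ne_zero_of_ne_bot
        (p := perp2 B (D l) w f) fun h => by rw [h, finrank_bot] at hdim; omega
      obtain ⟨hbm, hwb, hfb⟩ := mem_perp2.mp hb
      refine ⟨w, b, hw, hbm, hQw, hwb, fun h => ?_⟩
      rw [sGL_act C hQw hwb, hwa] at h
      obtain ⟨b', hb', hbb⟩ : ∃ b' ∈ perp2 B (D l) w f, B b b' ≠ 0 := by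
        by_contra h'
        push Not at h'
        exact hb0 (hf.ndeg C (X.nd l) b hb h')
      obtain ⟨-, hwb', -⟩ := mem_perp2.mp hb'
      have := congrArg (B b') h
      simp [C.symm b' w, hwb'] at this
      exact hbb (by rw [C.symm]; exact this)
    have hg := T.sGL_mem_block hw hb hQw hwb
    have hv : (sGL Q B w b).val *ᵥ a - a ∈ A := A.sub_mem (conjA hg (hfu hw hb hQw hwb) haA) haA
    have hpure : (sGL Q B w b).val *ᵥ a - a = (sGL Q B w b).val *ᵥ X.comp l a - X.comp l a := by
      have hr := gfix hw hb hQw hwb (a - X.comp l a) fun y hy => by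
        rw [map_sub, X.comp_B' l a hy, sub_self]
      rw [Matrix.mulVec_sub] at hr
      linear_combination (norm := module) hr
    rw [hpure] at hv
    exact X.full_of_roots hk4 (A := A)
      (fun w' hw' b' hb' hQw' hwb' v hvA _ => A.sub_mem
        (conjA (T.sGL_mem_block hw' hb' hQw' hwb') (hfu hw' hb' hQw' hwb') hvA) hvA)
      hv ((D l).sub_mem (X.sGL_pres hw hb hQw hwb l (X.comp_mem l a)) (X.comp_mem l a)) hmove
  by_cases hk : k = 2
  swap
  · exfalso
    have := X.k2
    have : k = 3 := by omega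
    exact absurd this (by
      intro h3
      exact hS.odd3 h3)
  obtain ⟨m, hml, hum⟩ := hfree hk
  obtain ⟨b0, b1, P⟩ := X.exists_plane hk l
  obtain ⟨-, hl2, hl5⟩ := X.lines_ok hS hk P
  obtain ⟨p, hp, hQp⟩ := exists_nonsing C (X.nd l) (X.ne_bot l)
  obtain ⟨p', hp', hQ', hpi, -⟩ := P.exists_friend (by rw [X.dim, hk]) hl2 (fun h => by have := hl5 h; omega) hp hQp
  have hQp' : Q p' ≠ 0 := hQ' ▸ hQp
  -- a rotation of the block makes a pure vector
  have hρ : rGL Q p * rGL Q p' ∈ H := T.rr_mem' hp hp' hQp hQ'.symm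
  have hρu : (rGL Q p * rGL Q p').val *ᵥ u = u := by
    rw [mul_act, rGL_fix C hQp' (by rw [C.symm]; exact hperp p' hp'),
      rGL_fix C hQp (by rw [C.symm]; exact hperp p hp)]
  set v := (rGL Q p * rGL Q p').val *ᵥ a - a with hv
  have hvA : v ∈ A := A.sub_mem (conjA hρ hρu haA) haA
  have hva : v = (rGL Q p * rGL Q p').val *ᵥ X.comp l a - X.comp l a := by
    have h2 : ∀ q, q ∈ D l → B q (a - X.comp l a) = 0 := fun q hq => by
      rw [map_sub, X.comp_B' l a hq, sub_self]
    have hr : (rGL Q p * rGL Q p').val *ᵥ (a - X.comp l a) = a - X.comp l a := by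
      rw [mul_act, rGL_fix C hQp' (h2 p' hp'), rGL_fix C hQp (h2 p hp)]
    rw [Matrix.mulVec_sub] at hr
    rw [hv]
    linear_combination (norm := module) hr
  have hvm : v ∈ D l := by
    rw [hva, mul_act]
    exact (D l).sub_mem (X.refl_pres hp hQp l (X.refl_pres hp' hQp' l (X.comp_mem l a)))
      (X.comp_mem l a)
  have hv0 : v ≠ 0 := by
    rw [hva, sub_ne_zero]
    intro h
    have h' : (rGL Q p').val *ᵥ X.comp l a = (rGL Q p).val *ᵥ X.comp l a := by
      have := congrArg (fun z => (rGL Q p).val *ᵥ z) h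
      simp only [← mul_act, ← mul_assoc, rGL_sq C hQp, one_mul] at this
      exact this
    rw [rGL_act C hQp', rGL_act C hQp, sub_right_inj] at h'
    have hp0 : p ≠ 0 := fun h => hQp (h ▸ C.zero)
    by_cases hb : B p' (X.comp l a) = 0
    · rw [hb, mul_zero, zero_smul] at h'
      have hb2 : B p (X.comp l a) = 0 := by
        rcases smul_eq_zero.mp h'.symm with h | h
        · exact (mul_eq_zero.mp h).resolve_left (inv_ne_zero hQp)
        · exact absurd h hp0
      refine hal (X.nd l _ (X.comp_mem l a) fun y hy => ?_)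
      have hsp : Submodule.span F ({p, p'} : Set (ι → F)) = D l := by
        have hli : LinearIndependent F ![p, p'] := (LinearIndependent.pair_iff' hp0).mpr fun c hc =>
          hpi (Submodule.mem_span_singleton.mpr ⟨c, hc⟩)
        refine Submodule.eq_of_le_of_finrank_eq
          (Submodule.span_le.mpr (by rintro x (rfl | rfl) <;> assumption)) ?_
        rw [show ({p, p'} : Set (ι → F)) = Set.range ![p, p'] by
          simp [Matrix.range_cons, Matrix.range_empty, Set.pair_comm],
          finrank_span_eq_card hli, Fintype.card_fin, X.dim, hk]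
      rw [← hsp] at hy
      obtain ⟨c, d, rfl⟩ := Submodule.mem_span_pair.mp hy
      rw [map_add, map_smul, map_smul, C.symm _ p, C.symm _ p', hb2, hb]
      simp
    · refine hpi (Submodule.mem_span_singleton.mpr
        ⟨((Q p')⁻¹ * B p' (X.comp l a))⁻¹ * ((Q p)⁻¹ * B p (X.comp l a)), ?_⟩)
      rw [mul_smul, ← h', smul_smul, inv_mul_cancel₀ (mul_ne_zero (inv_ne_zero hQp') hb), one_smul]
  refine X.full_of_refl hS hk (A := A) (fun q hq hQq w hw hwm => A.sub_mem ?_ hw) hvA hvm hv0
  obtain ⟨r, hr, hQr⟩ := X.exists_norm m hQq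
  have hQr0 : Q r ≠ 0 := hQr ▸ hQq
  have hgu : (rGL Q q * rGL Q r).val *ᵥ u = u := by
    rw [mul_act, rGL_fix C hQr0 (by rw [← X.comp_B' m u hr, hum, map_zero]),
      rGL_fix C hQq (by rw [C.symm]; exact hperp q hq)]
  have := conjA (T.rr_mem' hq hr hQq hQr.symm) hgu hw
  rwa [mul_act, X.refl_other (Ne.symm hml) hr hQr0 hwm] at this

end Ctx

end Cfsg.Lib.Linear.ODec
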