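import Cfsg.Agent.Lib.Linear.ODec.Transform
import Cfsg.Agent.Lib.Linear.ODec.ExactLarge

/-!
# Elements of the stabiliser with a residual space of dimension at most two
-/

set_option autoImplicit false

namespace Cfsg.Lib.Linear.ODec

open Module Cfsg.Lib.Linear.Orth
open scoped Matrix

variable {ι : Type} [Fintype ι] [DecidableEq ι] {F : Type*} [Field F]
  {Q : (ι → F) → F} {B : LinearMap.BilinForm F (ι → F)}
  {t : ℕ} {D : Fin t → Submodule F (ι → F)} {k : ℕ}

section

variable (X : Dec Q B D k)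

include X

/-- An isometry moving a block in at most one direction is an involution on it. -/
theorem Dec.invol_of_line {τ : GL ι F} (hτ : τ ∈ isometryGroup F Q) {m : Fin t} {u : ι → F}
    (hu : u ∈ D m) (hu0 : u ≠ 0)
    (h : ∀ y ∈ D m, τ.val *ᵥ y - y ∈ Submodule.span F {u}) :
    ∀ y ∈ D m, τ.val *ᵥ (τ.val *ᵥ y) = y := by
  have C := X.space
  have hφ : ∀ y ∈ D m, ∃ c : F, τ.val *ᵥ y = y + c • u := fun y hy => by
    obtain ⟨c, hc⟩ := Submodule.mem_span_singleton.mp (h y hy)
    exact ⟨c, by rw [hc]; abel⟩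
  have iso : ∀ y ∈ D m, ∀ c : F, τ.val *ᵥ y = y + c • u → c * (B y u + c * Q u) = 0 := by
    intro y _ c hc
    have e := mem_iso.mp hτ y
    rw [hc, C.add, C.smul, map_smul, smul_eq_mul] at e
    linear_combination e
  obtain ⟨a, ha⟩ := hφ u hu
  intro y hy
  obtain ⟨c, hc⟩ := hφ y hy
  suffices key : c * (2 + a) = 0 by
    rw [hc, Matrix.mulVec_add, Matrix.mulVec_smul, hc, ha]
    have e : y + c • u + c • (u + a • u) = y + (c * (2 + a)) • u := by module
    rw [e, key, zero_smul, add_zero]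
  by_cases hc0 : c = 0
  · rw [hc0, zero_mul]
  have hyu : B y u + c * Q u = 0 := (mul_eq_zero.mp (iso y hy c hc)).resolve_left hc0
  have huu : a * ((2 + a) * Q u) = 0 := by
    have := iso u hu a ha
    rw [C.self] at this
    linear_combination this
  by_cases hQu : Q u = 0
  · exfalso
    rw [hQu, mul_zero, add_zero] at hyu
    obtain ⟨z, hz, huz⟩ : ∃ z ∈ D m, B u z ≠ 0 := by
      by_contra h'
      push Not at h'
      exact hu0 (X.nd m u hu h')
    obtain ⟨d, hd⟩ := hφ z hz
    have hd0 : d = 0 := by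
      have := iso z hz d hd
      rw [hQu, mul_zero, add_zero, C.symm] at this
      exact (mul_eq_zero.mp this).resolve_right huz
    have := iso (y + z) ((D m).add_mem hy hz) c (by
      rw [Matrix.mulVec_add, hc, hd, hd0, zero_smul, add_zero]; abel)
    rw [hQu, mul_zero, add_zero, map_add, LinearMap.add_apply, hyu, zero_add, C.symm] at this
    exact mul_ne_zero hc0 huz this
  rcases mul_eq_zero.mp huu with ha0 | h2
  · have := iso (y + u) ((D m).add_mem hy hu) c (by
      rw [Matrix.mulVec_add, hc, ha, ha0, zero_smul, add_zero]; abel)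
    rw [map_add, LinearMap.add_apply, C.self] at this
    have h20 : c * (2 * Q u) = 0 := by linear_combination this - c * hyu
    have h2' := (mul_eq_zero.mp ((mul_eq_zero.mp h20).resolve_left hc0)).resolve_right hQu
    rw [ha0, add_zero, h2', mul_zero]
  · rw [(mul_eq_zero.mp h2).resolve_right hQu, mul_zero]

omit X in
theorem exists_perm {τ : GL ι F} (h : τ ∈ Cfsg.Geo.decompositionStabilizer D) :
    ∃ σ : Equiv.Perm (Fin t), ∀ i, ∀ y ∈ D i, τ.val *ᵥ y ∈ D (σ i) := by
  obtain ⟨σ, hσ⟩ := h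
  refine ⟨σ, fun i y hy => ?_⟩
  rw [← hσ i, ← Matrix.toLin'_apply]
  exact Submodule.mem_map_of_mem hy

variable {τ : GL ι F} {W : Submodule F (ι → F)} (hW : finrank F W ≤ 2)
  (hres : ∀ z, τ.val *ᵥ z - z ∈ W) {σ : Equiv.Perm (Fin t)}
  (hσ : ∀ i, ∀ y ∈ D i, τ.val *ᵥ y ∈ D (σ i))

include hW hres hσ

/-- A moved block carries the whole residual space. -/
theorem Dec.resid_swap {m : Fin t} (hm : σ m ≠ m) :
    (∀ w ∈ W, ∃ y ∈ D m, w = τ.val *ᵥ y - y) ∧ W ≤ D m ⊔ D (σ m) := by
  let f : D m →ₗ[F] W := LinearMap.codRestrict W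
    ((Matrix.mulVecLin τ.val - LinearMap.id) ∘ₗ (D m).subtype) (fun y => by simpa using hres y)
  have hf : ∀ y : D m, ((f y : W) : ι → F) = τ.val *ᵥ (y : ι → F) - y := fun y => by simp [f]
  have hinj : LinearMap.ker f = ⊥ := LinearMap.ker_eq_bot'.mpr fun y hy => by
    have e : τ.val *ᵥ (y : ι → F) = y := sub_eq_zero.mp (by rw [← hf, hy, Submodule.coe_zero])
    exact Subtype.ext (X.disj (Ne.symm hm) y.2 (e ▸ hσ m y y.2))
  have h1 := LinearMap.finrank_range_add_finrank_ker f
  rw [hinj, finrank_bot, add_zero, X.dim] at h1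
  have h2 := Submodule.finrank_le (LinearMap.range f)
  have htop : LinearMap.range f = ⊤ := Submodule.eq_top_of_finrank_eq (by
    have := X.k2
    omega)
  have hsurj : ∀ w ∈ W, ∃ y ∈ D m, w = τ.val *ᵥ y - y := fun w hw => by
    obtain ⟨y, hy⟩ := LinearMap.range_eq_top.mp htop ⟨w, hw⟩
    exact ⟨y, y.2, by rw [← hf, hy]⟩
  refine ⟨hsurj, fun w hw => ?_⟩
  obtain ⟨y, hy, rfl⟩ := hsurj w hw
  exact Submodule.sub_mem _ (Submodule.mem_sup_right (hσ m y hy)) (Submodule.mem_sup_left hy)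

/-- Not an involution: the residual space is inside a block. -/
theorem Dec.resid_invol (hτ : τ ∈ isometryGroup F Q) (hnW : ∀ m, ¬ W ≤ D m) :
    ∀ y, τ.val *ᵥ (τ.val *ᵥ y) = y := by
  have key : ∀ m, ∀ y ∈ D m, τ.val *ᵥ (τ.val *ᵥ y) = y := by
    intro m y hy
    by_cases hm : σ m = m
    · by_cases hb : D m ⊓ W = ⊥
      · have hfix : ∀ z ∈ D m, τ.val *ᵥ z = z := fun z hz => sub_eq_zero.mp ((Submodule.mem_bot F).mp
          (hb ▸ Submodule.mem_inf.mpr ⟨(D m).sub_mem (by have := hσ m z hz; rwa [hm] at this) hz, hres z⟩))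
        rw [hfix y hy, hfix y hy]
      obtain ⟨u, hu, hu0⟩ := Submodule.exists_mem_ne_zero_of_ne_bot hb
      have hlt : finrank F (D m ⊓ W : Submodule F (ι → F)) ≤ 1 := by
        by_contra h
        have h' := Submodule.eq_of_le_of_finrank_le (inf_le_right : D m ⊓ W ≤ W) (by omega)
        exact hnW m (h' ▸ inf_le_left)
      refine X.invol_of_line hτ hu.1 hu0 (fun z hz => ?_) y hy
      have hle : Submodule.span F {u} ≤ D m ⊓ W := (Submodule.span_singleton_le_iff_mem _ _).mpr hu
      rw [Submodule.eq_of_le_of_finrank_le hle (by rw [finrank_span_singleton hu0]; exact hlt)]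
      exact ⟨(D m).sub_mem (by have := hσ m z hz; rwa [hm] at this) hz, hres z⟩
    obtain ⟨hsurj, hle⟩ := X.resid_swap hW hres hσ hm
    have hj : σ (σ m) ≠ σ m := fun h => hm (σ.injective h)
    have hy' := hσ m y hy
    obtain ⟨-, hle'⟩ := X.resid_swap hW hres hσ hj
    by_cases hy0 : y = 0
    · simp [hy0]
    have hback : σ (σ m) = m := by
      by_contra h
      obtain ⟨a, ha, b, hb, hab⟩ := Submodule.mem_sup.mp (hle' (hres y))
      have := congrArg (X.comp m) hab
      rw [map_add, map_sub, X.comp_other hm ha, X.comp_other h hb, X.comp_other hm hy',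
        X.comp_self hy, zero_sub, add_zero, eq_comm, neg_eq_zero] at this
      exact hy0 this
    have hy'' : τ.val *ᵥ (τ.val *ᵥ y) ∈ D m := by
      have := hσ _ _ hy'
      rwa [hback] at this
    obtain ⟨z, hz, hze⟩ := hsurj (τ.val *ᵥ (τ.val *ᵥ y) - y) (by
      rw [← sub_add_sub_cancel _ (τ.val *ᵥ y) y]
      exact W.add_mem (hres _) (hres _))
    have hz0 : z = 0 := by
      have : τ.val *ᵥ z ∈ D m := by
        rw [show τ.val *ᵥ z = (τ.val *ᵥ (τ.val *ᵥ y) - y) + z by rw [hze]; abel]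
        exact (D m).add_mem ((D m).sub_mem hy'' hy) hz
      by_contra h0
      exact act_ne_zero h0 (X.disj hm (hσ m z hz) this)
    rw [hz0, Matrix.mulVec_zero, sub_zero, sub_eq_zero] at hze
    exact hze
  intro y
  conv_lhs => rw [← X.sum_comp y]
  rw [Matrix.mulVec_sum, Matrix.mulVec_sum]
  conv_rhs => rw [← X.sum_comp y]
  exact Finset.sum_congr rfl fun m _ => key m _ (X.comp_mem m y)

/-- Every block moved: the residual space is inside two blocks. -/
theorem Dec.resid_two (hmv : ∀ m, ∃ y ∈ D m, τ.val *ᵥ y ≠ y) :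
    ∃ m j, W ≤ D m ⊔ D j := by
  by_cases h : ∃ m, σ m ≠ m
  · obtain ⟨m, hm⟩ := h
    exact ⟨m, σ m, (X.resid_swap hW hres hσ hm).2⟩
  push Not at h
  have ht := X.two_le
  have hne : (⟨0, by omega⟩ : Fin t) ≠ ⟨1, by omega⟩ := by simp [Fin.ext_iff]
  have get : ∀ m, ∃ u ∈ D m, u ∈ W ∧ u ≠ 0 := fun m => by
    obtain ⟨y, hy, hne⟩ := hmv m
    exact ⟨τ.val *ᵥ y - y, (D m).sub_mem (by have := hσ m y hy; rwa [h m] at this) hy, hres y,
      sub_ne_zero.mpr hne⟩
  set m : Fin t := ⟨0, by omega⟩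
  set j : Fin t := ⟨1, by omega⟩
  obtain ⟨u, hu, huW, hu0⟩ := get m
  obtain ⟨v, hv, hvW, hv0⟩ := get j
  refine ⟨m, j, ?_⟩
  have hli : LinearIndependent F ![u, v] := (LinearIndependent.pair_iff' hu0).mpr fun c hc =>
    hv0 (X.disj hne (hc ▸ (D m).smul_mem c hu) hv)
  have hle : Submodule.span F (Set.range ![u, v]) ≤ W :=
    Submodule.span_le.mpr (by rintro _ ⟨i, rfl⟩; fin_cases i <;> assumption)
  rw [← Submodule.eq_of_le_of_finrank_le hle (by
    rw [finrank_span_eq_card hli, Fintype.card_fin]; exact hW)]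
  refine Submodule.span_le.mpr ?_
  rintro _ ⟨i, rfl⟩
  fin_cases i
  · exact Submodule.mem_sup_left hu
  · exact Submodule.mem_sup_right hv

end

section Tools

variable (X : Dec Q B D k)

include X

/-- A totally singular subspace of a block has at most half the dimension. -/
theorem Dec.ts_block {j : Fin t} {R : Submodule F (ι → F)} (hR : R ≤ D j) :
    finrank F R + finrank F (perpIn B (D j) R) ≤ k := by
  have C := X.space
  let Φ : D j →ₗ[F] Module.Dual F R :=
    { toFun := fun u => (B (u : ι → F)).comp R.subtype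
      map_add' := fun a b => by ext; simp
      map_smul' := fun c a => by ext; simp }
  have hsurj : LinearMap.range Φ = ⊤ := LinearMap.range_eq_top.mpr fun φ => by
    obtain ⟨ψ, hψ⟩ := LinearMap.exists_extend φ
    obtain ⟨v, hv⟩ := C.exists_dual ψ
    refine ⟨⟨X.comp j v, X.comp_mem j v⟩, LinearMap.ext fun r => ?_⟩
    show B (X.comp j v) (r : ι → F) = φ r
    rw [X.comp_B j v (hR r.2), hv, ← hψ]
    rfl
  have hker : (LinearMap.ker Φ).map (D j).subtype = perpIn B (D j) R := by
    ext x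
    constructor
    · rintro ⟨u, hu, rfl⟩
      exact ⟨u.2, fun a ha => by
        rw [C.symm]; exact LinearMap.congr_fun (LinearMap.mem_ker.mp hu) ⟨a, ha⟩⟩
    · rintro ⟨hx, h⟩
      exact ⟨⟨x, hx⟩, LinearMap.mem_ker.mpr (LinearMap.ext fun a => by
        show B x (a : ι → F) = 0
        rw [C.symm]; exact h a a.2), rfl⟩
  have h := LinearMap.finrank_range_add_finrank_ker Φ
  rw [hsurj, finrank_top, Subspace.dual_finrank_eq, X.dim] at h
  rw [← hker, ← (Submodule.equivMapOfInjective _ (Submodule.injective_subtype _) _).finrank_eq]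
  omega

/-- A non-singular vector of the block perpendicular to two given ones. -/
theorem Dec.exists_perp_nonsing (hk : 4 ≤ k) {j : Fin t} {a b : ι → F} (ha : a ∈ D j) (hb : b ∈ D j)
    (hQa : Q a ≠ 0) : ∃ q ∈ D j, Q q ≠ 0 ∧ B a q = 0 ∧ B b q = 0 := by
  classical
  have C := X.space
  set S := Submodule.span F (({a, b} : Finset (ι → F)) : Set (ι → F)) with hS
  set R := perpIn B (D j) S with hR
  have hmS : a ∈ S ∧ b ∈ S := ⟨Submodule.subset_span (by simp), Submodule.subset_span (by simp)⟩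
  by_contra hne
  push Not at hne
  have hts : ∀ r ∈ R, Q r = 0 := fun r hr => by
    by_contra h
    exact hne r hr.1 h (hr.2 a hmS.1) (hr.2 b hmS.2)
  have h1 := finrank_perpIn (B := B) (D j) S
  have hS2 : finrank F S ≤ 2 := (finrank_span_finset_le_card _).trans Finset.card_le_two
  rw [X.dim, ← hR] at h1
  have h2 := X.ts_block (R := R) (fun r hr => hr.1)
  have hle : R ≤ perpIn B (D j) R := fun r hr => ⟨hr.1, fun r' hr' => by
    have := C.add r' r
    rw [hts _ hr', hts _ hr, hts _ (R.add_mem hr' hr)] at this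
    linear_combination -this⟩
  have h3 := Submodule.finrank_mono hle
  have heq := Submodule.eq_of_le_of_finrank_le hle (by omega)
  refine hQa (hts a ?_)
  rw [heq]
  exact ⟨ha, fun r hr => by rw [C.symm]; exact hr.2 a hmS.1⟩

/-- Two independent non-perpendicular vectors of one norm. -/
theorem Dec.exists_pair [Fintype F] (hS : Small Q D k) (i : Fin t) {ν : F} (hν : ν ≠ 0) :
    ∃ p ∈ D i, ∃ p' ∈ D i, Q p = ν ∧ Q p' = ν ∧ p' ∉ Submodule.span F {p} ∧ B p p' ≠ 0 := by
  have C := X.space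
  by_cases hk : k = 2
  · obtain ⟨b0, b1, P⟩ := X.exists_plane hk i
    obtain ⟨-, h2, h6⟩ := X.lines_ok hS hk P
    obtain ⟨p, hp, hQp⟩ := X.exists_norm i hν
    obtain ⟨p', hp', hQ, hi, hB⟩ := P.exists_friend (by rw [X.dim, hk]) h2
      (fun h => by have := h6 h; omega) hp (hQp ▸ hν)
    exact ⟨p, hp, p', hp', hQp, hQ.trans hQp, hi, hB⟩
  have h3 : 4 ≤ k := by
    have := X.k2
    have := hS.odd3
    omega
  obtain ⟨w, hw, hw0, hQw⟩ := Sing.exists_singular C.smul C.polar (D i) (by rw [X.dim]; omega)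
  obtain ⟨f, hf⟩ := exists_hyp C (X.nd i) hw hw0 hQw
  have hd := hf.le_finrank C
  rw [X.dim] at hd
  obtain ⟨n, hn, hQn⟩ := ODec.exists_norm C (hf.ndeg C (X.nd i)) (by omega) hν
  obtain ⟨hnm, hwn, hfn⟩ := mem_perp2.mp hn
  refine ⟨ν • w + f, (D i).add_mem ((D i).smul_mem _ hw) hf.memF, f + n,
    (D i).add_mem hf.memF hnm, ?_, ?_, fun hs => ?_, ?_⟩
  · rw [C.add, C.smul, hQw, hf.singF, map_smul, LinearMap.smul_apply, hf.pair]; simp
  · rw [C.add, hf.singF, hQn, hfn]; simp
  · obtain ⟨c, hc⟩ := Submodule.mem_span_singleton.mp hs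
    have := congrArg (B n) hc
    simp [C.symm n w, C.symm n f, hwn, hfn, C.self, hQn] at this
    have h2 := congrArg (B w) hc
    simp [C.self_zero hQw, hf.pair, hwn] at h2
    have h4 := congrArg (B f) hc
    simp [C.self_zero hf.singF, hf.pair' C, hfn, h2] at h4
    exact hν h4
  · simp [C.symm n f, hfn, C.self_zero hf.singF, hf.pair, hwn, hν]

end Tools

end Cfsg.Lib.Linear.ODec
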