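import Cfsg.Agent.Lib.Linear.ODec.Boost

/-!
# Class vectors without a free reflection
-/

set_option autoImplicit false

namespace Cfsg.Lib.Linear.ODec

open Module Cfsg.Lib.Linear.Orth
open scoped Matrix

variable {ι : Type} [Fintype ι] [DecidableEq ι] {F : Type*} [Field F]
  {Q : (ι → F) → F} {B : LinearMap.BilinForm F (ι → F)}
  {t : ℕ} {D : Fin t → Submodule F (ι → F)} {k : ℕ}

theorem even_of_xor : ∀ d : Fin 5 → Bool,
    (((d 0).xor (d 1)).xor ((d 2).xor (d 3))).xor (d 4) = false →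
      Even (Finset.univ.filter fun i => d i = true).card := by decide

section Ctx

variable [Fintype F] {H : Subgroup (GL ι F)} (T : Ctx Q B D k H) (hS : Small Q D k) {ν : F}

include T hS

open Classical in
/-- Two or more components, one empty block. -/
theorem Ctx.omega_of_two_le (hk : k = 2) (hν : ν ≠ 0) {x : ι → F} (hx : InC Q D H ν x)
    (h2 : 2 ≤ (Finset.univ.filter fun i => T.dec.comp i x ≠ 0).card)
    {m : Fin t} (hm : T.dec.comp m x = 0) : Cfsg.Geo.omegaGL Q ≤ H := by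
  have X := T.dec
  have notD : ∀ {y : ι → F}, 2 ≤ (Finset.univ.filter fun i => X.comp i y ≠ 0).card → ∀ i, y ∉ D i := by
    intro y hy i hi
    have : (Finset.univ.filter fun j => X.comp j y ≠ 0) ⊆ {i} := fun j hj => by
      rw [Finset.mem_singleton]
      by_contra h
      exact (Finset.mem_filter.mp hj).2 (X.comp_other (Ne.symm h) hi)
    have := Finset.card_le_card this
    rw [Finset.card_singleton] at this
    omega
  have sing : ∀ {y : ι → F}, InC Q D H ν y → 2 ≤ (Finset.univ.filter fun i => X.comp i y ≠ 0).card →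
      ¬ (∀ i, X.comp i y ≠ 0 → Q (X.comp i y) ≠ 0) → Cfsg.Geo.omegaGL Q ≤ H := by
    intro y hy hy2 h
    push Not at h
    obtain ⟨i, hi, hQi⟩ := h
    exact T.omega_of_sing hS hk hν hy (notD hy2) hi hQi
  by_cases h4 : 4 ≤ (Finset.univ.filter fun i => X.comp i x ≠ 0).card
  · exact T.omega_of_free hS hk hν hx h4 (T.free_of_zero hm)
  by_cases hns : ∀ i, X.comp i x ≠ 0 → Q (X.comp i x) ≠ 0
  swap
  · exact sing hx h2 hns
  -- characteristic two leaves every vector free
  have free2 : (2 : F) = 0 → ∀ y, Free Q B D ν y := fun h y =>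
    Or.inl fun _ _ _ _ => FiniteField.isSquare_of_char_two
      (CharP.ringChar_of_prime_eq_zero Nat.prime_two (by exact_mod_cast h)) _
  have three : ∀ {y : ι → F}, InC Q D H ν y →
      (∀ i, X.comp i y ≠ 0 → Q (X.comp i y) ≠ 0) →
      (Finset.univ.filter fun i => X.comp i y ≠ 0).card = 3 → Cfsg.Geo.omegaGL Q ≤ H := by
    intro y hy hy' hy3
    by_cases h20 : (2 : F) = 0
    · obtain ⟨w, hw, -, hwc⟩ := T.boost hS hk hν hy hy' (by omega) (by omega)
      exact T.omega_of_free hS hk hν hw (by omega) (free2 h20 w)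
    · obtain ⟨w, hw, ⟨m', hm'⟩, hwc⟩ := T.boost_three hS hk h20 hν hy hy' hy3
      exact T.omega_of_free hS hk hν hw hwc (T.free_of_zero hm')
  by_cases h3 : (Finset.univ.filter fun i => X.comp i x ≠ 0).card = 3
  · exact three hx hns h3
  obtain ⟨z, hz, hzm, hzc⟩ := T.boost hS hk hν hx hns h2 (by omega)
  obtain ⟨m', hm'⟩ := hzm.resolve_right (by omega)
  by_cases h4' : 4 ≤ (Finset.univ.filter fun i => X.comp i z ≠ 0).card
  · exact T.omega_of_free hS hk hν hz h4' (T.free_of_zero hm')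
  by_cases hns' : ∀ i, X.comp i z ≠ 0 → Q (X.comp i z) ≠ 0
  swap
  · exact sing hz (by omega) hns'
  exact three hz hns' (by omega)

open Classical in
/-- Blocks with singular vectors over the field of nine elements. -/
theorem Ctx.omega_of_stuck_nine (hk : k = 2) (h9 : Fintype.card F = 9) (hν : ν ≠ 0) {x : ι → F}
    (hx : InC Q D H ν x) (hall : ∀ i, T.dec.comp i x ≠ 0)
    (hns : ∀ i, T.dec.comp i x ≠ 0 → Q (T.dec.comp i x) ≠ 0)
    (hsing : ∀ i, ∃ v ∈ D i, v ≠ 0 ∧ Q v = 0)
    (hfix : ∀ (m : Fin t) (z : ι → F), z ∈ D m → Q z ≠ 0 → B z x = 0 → IsSquare (Q z / ν)) :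
    Cfsg.Geo.omegaGL Q ≤ H := by
  have X := T.dec
  have C := X.space
  have ht := X.t6 hk
  have h30 : (3 : F) = 0 := by
    have h := Nat.cast_card_eq_zero F
    rw [h9] at h
    push_cast at h
    rw [show (9 : F) = 3 * 3 by norm_num] at h
    exact mul_self_eq_zero.mp h
  have h20 : (2 : F) ≠ 0 := fun h => one_ne_zero (α := F) (by linear_combination h30 - h)
  have hm1 : IsSquare (-1 : F) := FiniteField.isSquare_neg_one_iff.mpr (by omega)
  -- the perpendicular vectors and the squares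
  have perp : ∀ i, ∃ a ∈ D i, Q a ≠ 0 ∧ B (X.comp i x) a = 0 ∧ IsSquare (Q a / ν) ∧
      IsSquare (Q (X.comp i x) / ν) := by
    intro i
    obtain ⟨b0, b1, P⟩ := X.exists_plane hk i
    obtain ⟨a, ha, ha0, hxa⟩ := P.exists_perp_ne (by rw [X.dim, hk]) (x := X.comp i x)
    have hc0 := hns i (hall i)
    have hm := X.comp_mem i x
    have hi : a ∉ Submodule.span F {X.comp i x} := fun h => by
      obtain ⟨d, rfl⟩ := Submodule.mem_span_singleton.mp h
      rw [map_smul, C.self, smul_eq_mul, mul_eq_zero] at hxa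
      exact ha0 (by rw [hxa.resolve_right (mul_ne_zero h20 hc0), zero_smul])
    have hQa : Q a ≠ 0 := fun h => ha0 (P.eq_zero_of_perp hm ha ha (hall i) hi hxa (C.self_zero h))
    have hsa := hfix i a ha hQa (by rw [C.symm, ← X.comp_B i x ha, hxa])
    refine ⟨a, ha, hQa, hxa, hsa, ?_⟩
    obtain ⟨v, hv, hv0, hQv⟩ := hsing i
    set c := Q (X.comp i x) with hc
    set α := B v (X.comp i x) / (2 * c) with hα
    set β := B v a / (2 * Q a) with hβ
    have hdec : v = α • X.comp i x + β • a := by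
      refine sub_eq_zero.mp (P.eq_zero_of_perp hm ha ((D i).sub_mem hv ((D i).add_mem
        ((D i).smul_mem _ hm) ((D i).smul_mem _ ha))) (hall i) hi ?_ ?_)
      · simp only [map_sub, map_add, map_smul, C.self, hxa, C.symm (X.comp i x) v, hα, ← hc,
          smul_eq_mul, mul_zero, add_zero]
        field_simp
        ring
      · simp only [map_sub, map_add, map_smul, C.self, C.symm a (X.comp i x), hxa, C.symm a v, hβ,
          smul_eq_mul, mul_zero, zero_add]
        field_simp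
        ring
    have hQ : α ^ 2 * c + β ^ 2 * Q a = 0 := by
      rw [hdec, C.smul_add, hxa, ← hc] at hQv
      linear_combination hQv
    have hα0 : α ≠ 0 := fun h => by
      rw [h] at hQ
      have hb : β = 0 := by simpa [hQa] using hQ
      exact hv0 (by rw [hdec, h, hb, zero_smul, zero_smul, add_zero])
    obtain ⟨r, hr⟩ := hm1
    obtain ⟨w, hw⟩ := hsa
    refine ⟨r * (β / α) * w, ?_⟩
    field_simp at hw ⊢
    linear_combination hQ - β ^ 2 * hw + β ^ 2 * w ^ 2 * ν * hr
  choose a ha hQa hxa hsa hsc using perp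
  -- two blocks with the same norm up to sign
  set i₁ : Fin t := ⟨0, by omega⟩
  set i₂ : Fin t := ⟨1, by omega⟩
  set i₃ : Fin t := ⟨2, by omega⟩
  obtain ⟨i, j, hij, hcc⟩ : ∃ i j, i ≠ j ∧ Q (X.comp j x) ^ 2 = Q (X.comp i x) ^ 2 := by
    have key : ∀ i, (Q (X.comp i x) / ν) ^ 2 = 1 ∨ (Q (X.comp i x) / ν) ^ 2 = -1 := fun i => by
      obtain ⟨w, hw⟩ := hsc i
      have hw0 : w ≠ 0 := fun h => div_ne_zero (hns i (hall i)) hν (by rw [hw, h, mul_zero])
      have h8 := FiniteField.pow_card_sub_one_eq_one w hw0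
      rw [h9] at h8
      refine sq_eq_one_iff.mp ?_
      rw [hw]
      ring_nf
      ring_nf at h8
      exact h8
    have same : ∀ i j, (Q (X.comp j x) / ν) ^ 2 = (Q (X.comp i x) / ν) ^ 2 →
        Q (X.comp j x) ^ 2 = Q (X.comp i x) ^ 2 := fun i j h => by
      field_simp at h
      exact h
    have n12 : i₁ ≠ i₂ := by simp [i₁, i₂, Fin.ext_iff]
    have n13 : i₁ ≠ i₃ := by simp [i₁, i₃, Fin.ext_iff]
    have n23 : i₂ ≠ i₃ := by simp [i₂, i₃, Fin.ext_iff]
    rcases key i₁ with h1 | h1 <;> rcases key i₂ with h2 | h2 <;> rcases key i₃ with h3 | h3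
    all_goals first
      | exact ⟨i₁, i₂, n12, same _ _ (h2.trans h1.symm)⟩
      | exact ⟨i₁, i₃, n13, same _ _ (h3.trans h1.symm)⟩
      | exact ⟨i₂, i₃, n23, same _ _ (h3.trans h2.symm)⟩
  set c := Q (X.comp i x) with hc
  have hc0 : c ≠ 0 := hns i (hall i)
  have hBx : ∀ m, B (X.comp m x) x = 2 * Q (X.comp m x) := fun m => by
    rw [← X.comp_B' m x (X.comp_mem m x), C.self]
  -- the vector of the second block
  obtain ⟨s', hs', hQs', hBs', hval, hsq'⟩ : ∃ s' ∈ D j, Q s' ≠ 0 ∧ B s' x ≠ 0 ∧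
      B s' x ^ 2 / Q s' = -(4 * c) ∧ IsSquare (Q s' / ν) := by
    rcases sq_eq_sq_iff_eq_or_eq_neg.mp hcc with h | h
    · obtain ⟨r, hr⟩ := hsc j
      obtain ⟨w, hw⟩ := hsa j
      rw [h] at hr
      have hw0 : w ≠ 0 := fun e => div_ne_zero (hQa j) hν (by rw [hw, e, mul_zero])
      set s' := X.comp j x + (r / w) • a j with hs
      have hQ2 : Q s' = 2 * c := by
        rw [hs, C.add, C.smul, map_smul, hxa j, smul_zero, add_zero, h]
        field_simp at hr hw ⊢
        linear_combination r ^ 2 * hw - w ^ 2 * hr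
      have hB : B s' x = 2 * c := by
        rw [hs, map_add, LinearMap.add_apply, LinearMap.map_smul₂, hBx, h, ← X.comp_B' j x (ha j),
          C.symm (a j), hxa j, smul_zero, add_zero]
      refine ⟨s', (D j).add_mem (X.comp_mem j x) ((D j).smul_mem _ (ha j)),
        hQ2 ▸ mul_ne_zero h20 hc0, hB ▸ mul_ne_zero h20 hc0, ?_, ?_⟩
      · rw [hB, hQ2]
        field_simp
        linear_combination 2 * h30
      · obtain ⟨e, he⟩ := hm1
        refine ⟨e * r, ?_⟩
        rw [hQ2]
        field_simp at hr ⊢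
        linear_combination c * h30 - hr + r ^ 2 * ν * he
    · refine ⟨_, X.comp_mem j x, hns j (hall j), hBx j ▸ mul_ne_zero h20 (hns j (hall j)), ?_, hsc j⟩
      rw [hBx, h]
      field_simp
      ring
  obtain ⟨l, hli, hlj⟩ : ∃ l, l ≠ i ∧ l ≠ j := by
    obtain ⟨l, hl⟩ := Finset.card_pos.mp (show 0 < ((Finset.univ : Finset (Fin t)) \ {i, j}).card by
      rw [Finset.card_sdiff_of_subset (Finset.subset_univ _), Finset.card_univ, Fintype.card_fin,
        Finset.card_pair hij]
      omega)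
    simp only [Finset.mem_sdiff, Finset.mem_univ, Finset.mem_insert, Finset.mem_singleton, true_and,
      not_or] at hl
    exact ⟨l, hl.1, hl.2⟩
  have hcard : ({i, j} : Finset (Fin t)).card = 2 := Finset.card_pair hij
  refine T.omega_of_values hS hk hν hx {i, j} (fun m => if m = i then X.comp i x else s') (by omega)
    ?_ ?_ ⟨i, by simp, by simpa [hBx] using ⟨h20, hc0⟩⟩ ?_ (Or.inl ?_) (l := l)
    (by simp [hli, hlj]) (hall l) (fun _ => by omega) (Or.inl (by omega))
  · intro m hm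
    simp only [Finset.mem_insert, Finset.mem_singleton] at hm
    rcases hm with rfl | rfl
    · simpa using X.comp_mem _ x
    · simpa [Ne.symm hij] using hs'
  · intro m hm
    simp only [Finset.mem_insert, Finset.mem_singleton] at hm
    rcases hm with rfl | rfl
    · simpa using hc0
    · simpa [Ne.symm hij] using hQs'
  · rw [Finset.sum_pair hij]
    simp only [if_true, Ne.symm hij, if_false, hBx, hval, ← hc]
    field_simp
    ring
  · rw [Finset.filter_false_of_mem (fun m hm h => h (by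
      simp only [Finset.mem_insert, Finset.mem_singleton] at hm
      rcases hm with rfl | rfl
      · simpa using hsc m
      · simpa [Ne.symm hij] using hsq'))]
    exact ⟨0, rfl⟩

open Classical in
/-- Blocks with singular vectors. -/
theorem Ctx.omega_of_stuck_plus (hk : k = 2) (h20 : (2 : F) ≠ 0) (hν : ν ≠ 0) {x : ι → F}
    (hx : InC Q D H ν x) (hall : ∀ i, T.dec.comp i x ≠ 0)
    (hns : ∀ i, T.dec.comp i x ≠ 0 → Q (T.dec.comp i x) ≠ 0)
    (hfix : ∀ (m : Fin t) (z : ι → F), z ∈ D m → Q z ≠ 0 → B z x = 0 → IsSquare (Q z / ν))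
    (hsing : ∀ i, ∃ v ∈ D i, v ≠ 0 ∧ Q v = 0) : Cfsg.Geo.omegaGL Q ≤ H := by
  have X := T.dec
  have C := X.space
  have ht := X.t6 hk
  by_cases h9 : Fintype.card F = 9
  · exact T.omega_of_stuck_nine hS hk h9 hν hx hall hns hsing hfix
  let E' : Fin t → F → Bool → Prop := fun m z d => ∃ s ∈ D m, Q s ≠ 0 ∧ B s x ≠ 0 ∧
    B s x ^ 2 / Q s = z ∧ decide (¬ IsSquare (Q s / ν)) = d
  obtain ⟨σ, good⟩ : ∃ σ : Fin 5 ↪ Fin t, E' (σ 4) ν false ∨ ∀ i, ¬ E' (σ i) ν false := by
    have σ0 : Fin 5 ↪ Fin t := Fin.castLEEmb (by omega)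
    by_cases hk' : ∃ m, E' m ν false
    · obtain ⟨m, hm⟩ := hk'
      exact ⟨σ0.trans (Equiv.swap (σ0 4) m).toEmbedding, Or.inl (by simpa using hm)⟩
    · push Not at hk'
      exact ⟨σ0, Or.inr fun i => hk' _⟩
  let E : Fin 5 → F → Bool → Prop := fun i z d => E' (σ i) z d
  have hE : ∀ i z d, E i z d → z ≠ 0 := by
    rintro i z d ⟨s, -, hQ, hB, rfl, -⟩
    exact div_ne_zero (pow_ne_zero _ hB) hQ
  have hodd : Fintype.card F % 2 = 1 := FiniteField.odd_card_of_char_ne_two fun h => h20 (by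
    haveI := ringChar.charP F
    have := CharP.cast_eq_zero F (ringChar F)
    rw [h] at this
    exact_mod_cast this)
  have zsets : ∀ i : Fin 5, ∃ Z : Finset F, Fintype.card F + 1 ≤ 2 * Z.card ∧
      ∀ z ∈ Z, ∃ d, (z = 0 ∧ d = false) ∨ E i z d := by
    intro i
    obtain ⟨b0, b1, P⟩ := X.exists_plane hk (σ i)
    have h1 := P.card_fvals (by rw [X.dim, hk]) (X.comp_mem (σ i) x) (hall _)
    have h2 := P.card_lines
    refine ⟨insert 0 (fvals Q B b0 b1 (X.comp (σ i) x)), ?_, fun z hz => ?_⟩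
    · rw [Finset.card_insert_of_notMem fun h => fvals_ne_zero h rfl]
      omega
    · rcases Finset.mem_insert.mp hz with rfl | hz
      · exact ⟨false, Or.inl ⟨rfl, rfl⟩⟩
      · obtain ⟨o, ho, hox, rfl⟩ := mem_fvals.mp hz
        have e : B (line b0 b1 o) x = B (X.comp (σ i) x) (line b0 b1 o) := by
          rw [X.comp_B _ x (P.line_mem o), C.symm]
        exact ⟨_, Or.inr ⟨_, P.line_mem o, ho, e ▸ hox, by rw [e], rfl⟩⟩
  have cover : ∀ i j, i ≠ j → ∀ z : F, z ≠ 0 → ∃ a b : F, ∃ d e : Bool,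
      (a = 0 ∧ d = false ∨ E i a d) ∧ (b = 0 ∧ e = false ∨ E j b e) ∧ a + b = z := by
    intro i j _ z _
    obtain ⟨Zi, hci, hwi⟩ := zsets i
    obtain ⟨Zj, hcj, hwj⟩ := zsets j
    obtain ⟨a, ha⟩ : (Zi ∩ Zj.image (z - ·)).Nonempty := by
      rw [← Finset.card_pos]
      have h := Finset.card_union_add_card_inter Zi (Zj.image (z - ·))
      rw [Finset.card_image_of_injective _ sub_right_injective] at h
      have := Finset.card_le_univ (Zi ∪ Zj.image (z - ·))
      omega
    obtain ⟨ha1, ha2⟩ := Finset.mem_inter.mp ha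
    obtain ⟨b, hb, rfl⟩ := Finset.mem_image.mp ha2
    obtain ⟨d, hd⟩ := hwi _ ha1
    obtain ⟨e, he⟩ := hwj b hb
    exact ⟨z - b, b, d, e, hd, he, sub_add_cancel z b⟩
  obtain ⟨y, d, hy, ⟨i₁, hi₁⟩, ⟨i₀, hi₀⟩, hsum, hxor⟩ := graded_sum h20 hν E hE cover good
  have hsel : ∀ i, ∃ s : ι → F, y i ≠ 0 → s ∈ D (σ i) ∧ Q s ≠ 0 ∧ B s x ≠ 0 ∧
      B s x ^ 2 / Q s = y i ∧ decide (¬ IsSquare (Q s / ν)) = d i := by
    intro i
    rcases hy i with ⟨h, -⟩ | ⟨s, h1, h2, h3, h4, h5⟩
    · exact ⟨0, fun h' => absurd h h'⟩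
    · exact ⟨s, fun _ => ⟨h1, h2, h3, h4, h5⟩⟩
  choose s hs using hsel
  set l6 := σ i₀ with hl6
  set A' := Finset.univ.filter fun i => y i ≠ 0 with hA'
  have hA : ∀ i, i ∈ A' ↔ y i ≠ 0 := fun i => by simp [hA']
  have hcard : A'.card ≤ 4 := by
    have : A' ⊆ Finset.univ.erase i₀ := fun i hi =>
      Finset.mem_erase.mpr ⟨fun h => (hA i).mp hi (h ▸ hi₀), Finset.mem_univ i⟩
    have := Finset.card_le_card this
    simpa using this
  let s' : Fin t → ι → F := fun j => if h : ∃ i, σ i = j then s h.choose else 0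
  have hs' : ∀ i, s' (σ i) = s i := fun i => by
    have h : ∃ i', σ i' = σ i := ⟨i, rfl⟩
    show (if h : ∃ i', σ i' = σ i then s h.choose else 0) = s i
    rw [dif_pos h, σ.injective h.choose_spec]
  have hsm : ∀ j ∈ A'.map σ, s' j ∈ D j := fun j hj => by
    obtain ⟨i, hi, rfl⟩ := Finset.mem_map.mp hj
    rw [hs']; exact (hs i ((hA i).mp hi)).1
  have hQs : ∀ j ∈ A'.map σ, Q (s' j) ≠ 0 := fun j hj => by
    obtain ⟨i, hi, rfl⟩ := Finset.mem_map.mp hj
    rw [hs']; exact (hs i ((hA i).mp hi)).2.1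
  have hsum' : ∑ j ∈ A'.map σ, B (s' j) x ^ 2 / Q (s' j) = ∑ i, y i := by
    rw [Finset.sum_map, Finset.sum_congr rfl (g := y) fun i hi => by
      rw [hs']; exact (hs i ((hA i).mp hi)).2.2.2.1]
    exact Finset.sum_subset (Finset.subset_univ A') fun i _ hi => not_not.mp fun h => hi ((hA i).mpr h)
  have heven : Even ((A'.map σ).filter fun j => ¬ IsSquare (Q (s' j) / ν)).card := by
    rw [Finset.filter_map, Finset.card_map]
    have e : (A'.filter ((fun j => ¬ IsSquare (Q (s' j) / ν)) ∘ σ)) =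
        Finset.univ.filter fun i => d i = true := by
      ext i
      simp only [Finset.mem_filter, Function.comp, hs', Finset.mem_univ, true_and]
      constructor
      · rintro ⟨hi, hns⟩
        rw [← (hs i ((hA i).mp hi)).2.2.2.2]
        exact decide_eq_true hns
      · intro hd
        rcases hy i with ⟨-, h⟩ | h
        · rw [h] at hd; exact absurd hd (by decide)
        · have h0 := hE _ _ _ h
          refine ⟨(hA i).mpr h0, ?_⟩
          have := (hs i h0).2.2.2.2
          rw [hd] at this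
          exact of_decide_eq_true this
    rw [e]
    exact even_of_xor d hxor
  have hl6A : l6 ∉ A'.map σ := fun h => by
    obtain ⟨i, hi, hi'⟩ := Finset.mem_map.mp h
    exact ((hA i).mp hi) (σ.injective hi' ▸ hi₀)
  rcases hsum with hsum | ⟨hsum, i, i', hii, hi, hi'⟩
  · exact T.omega_of_values hS hk hν hx (A'.map σ) s' (by rw [Finset.card_map]; omega) hsm hQs
      ⟨σ i₁, Finset.mem_map_of_mem σ ((hA i₁).mpr hi₁), by rw [hs']; exact (hs i₁ hi₁).2.2.1⟩
      (hsum'.trans hsum) (Or.inl heven) hl6A (hall l6)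
      (fun h => by obtain ⟨v, hv, hv0, hQv⟩ := hsing l6; exact absurd (h v hv hQv) hv0)
      (Or.inr ⟨h20, h9⟩)
  -- the sum `ν`: the other components cancel
  have hyC := (hx.moved_mem T hν (A'.map σ) s' hsm hQs).1 heven
  set w := moved Q B x (A'.map σ) s' with hw
  have hQx : Q x ≠ 0 := hx.1 ▸ hν
  have hBxw : B x w = ν := by
    have e : B x (∑ j ∈ A'.map σ, ((Q (s' j))⁻¹ * B (s' j) x) • s' j) = ν := by
      rw [map_sum, ← hsum, ← hsum']
      refine Finset.sum_congr rfl fun j hj => ?_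
      rw [map_smul, smul_eq_mul, C.symm x]
      have := hQs j hj
      field_simp
    rw [hw, moved, map_sub, e, C.self, hx.1]
    ring
  have hz : (rGL Q x).val *ᵥ w = w - x := by
    rw [rGL_act C hQx, hx.1, hBxw, inv_mul_cancel₀ hν, one_smul]
  have hcomp : ∀ m, X.comp m (w - x) =
      if m ∈ A'.map σ then -(((Q (s' m))⁻¹ * B (s' m) x) • s' m) else 0 := by
    intro m
    rw [show w - x = -∑ j ∈ A'.map σ, ((Q (s' j))⁻¹ * B (s' j) x) • s' j by rw [hw, moved]; abel,
      map_neg, map_sum]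
    split_ifs with hm
    · rw [Finset.sum_eq_single m (fun j hj hjm => by
        rw [map_smul, X.comp_other hjm (hsm j hj), smul_zero]) (fun h => absurd hm h),
        map_smul, X.comp_self (hsm m hm)]
    · rw [Finset.sum_eq_zero fun j hj => by
        rw [map_smul, X.comp_other (fun e : j = m => hm (e ▸ hj)) (hsm j hj), smul_zero], neg_zero]
  have hne : ∀ i, y i ≠ 0 → X.comp (σ i) (w - x) ≠ 0 := fun i hi => by
    obtain ⟨-, hQ, hB, -⟩ := hs i hi
    rw [hcomp, if_pos (Finset.mem_map_of_mem σ ((hA i).mpr hi)), hs', neg_ne_zero]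
    exact smul_ne_zero (mul_ne_zero (inv_ne_zero hQ) hB) fun h => hQ (by rw [h, C.zero])
  refine T.omega_of_two_le hS hk hν (hx.refl T hν hyC) ?_ (m := l6) ?_
  · rw [hz]
    refine le_trans (Finset.card_pair (fun e => hii (σ.injective e))).ge (Finset.card_le_card
      (s := {σ i, σ i'}) fun m hm => Finset.mem_filter.mpr ⟨Finset.mem_univ m, ?_⟩)
    simp only [Finset.mem_insert, Finset.mem_singleton] at hm
    rcases hm with rfl | rfl
    exacts [hne i hi, hne i' hi']
  · rw [hz, hcomp, if_neg hl6A]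

open Classical in
/-- Anisotropic blocks and `-1` a square. -/
theorem Ctx.omega_of_stuck_square (hk : k = 2) (h20 : (2 : F) ≠ 0) (hν : ν ≠ 0) {x : ι → F}
    (hx : InC Q D H ν x) (hall : ∀ i, T.dec.comp i x ≠ 0)
    (haniso : ∀ i, ∀ v ∈ D i, Q v = 0 → v = 0) (h1 : IsSquare (-1 : F)) :
    Cfsg.Geo.omegaGL Q ≤ H := by
  have X := T.dec
  have C := X.space
  have ht := X.t6 hk
  obtain ⟨i, j, l, hij, hil, hjl⟩ : ∃ i j l : Fin t, i ≠ j ∧ i ≠ l ∧ j ≠ l :=
    ⟨⟨0, by omega⟩, ⟨1, by omega⟩, ⟨2, by omega⟩, by simp [Fin.ext_iff], by simp [Fin.ext_iff],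
      by simp [Fin.ext_iff]⟩
  have vals : ∀ m, ∃ V : Finset F, Fintype.card F ≤ 2 * V.card ∧ (∀ v ∈ V, v ≠ 0) ∧
      ∀ v ∈ V, ∃ s ∈ D m, Q s ≠ 0 ∧ B s x ≠ 0 ∧ B s x ^ 2 / Q s = v := by
    intro m
    obtain ⟨b0, b1, P⟩ := X.exists_plane hk m
    have h1 := P.card_fvals (by rw [X.dim, hk]) (X.comp_mem m x) (hall m)
    have h2 := P.card_lines_aniso (haniso m)
    refine ⟨fvals Q B b0 b1 (X.comp m x), by omega, fun v hv => fvals_ne_zero hv, fun v hv => ?_⟩
    obtain ⟨o, ho, hox, rfl⟩ := mem_fvals.mp hv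
    have e : B (line b0 b1 o) x = B (X.comp m x) (line b0 b1 o) := by
      rw [X.comp_B m x (P.line_mem o), C.symm]
    exact ⟨_, P.line_mem o, ho, e ▸ hox, by rw [e]⟩
  obtain ⟨Vi, ci, zi, wi⟩ := vals i
  obtain ⟨Vj, cj, zj, wj⟩ := vals j
  obtain ⟨a, ha, ha'⟩ := exists_opposite zi zj (by omega)
  obtain ⟨s, hs1, hs2, hs3, hs4⟩ := wi a ha
  obtain ⟨s', hs1', hs2', hs3', hs4'⟩ := wj _ ha'
  refine T.omega_of_values hS hk hν hx {i, j} (fun m => if m = i then s else s')
    (by rw [Finset.card_pair hij]; omega) ?_ ?_ ⟨i, by simp, by simpa using hs3⟩ ?_ ?_ (l := l)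
    (by simp [Ne.symm hil, Ne.symm hjl]) (hall l) (fun _ => by rw [Finset.card_pair hij]; omega)
    (Or.inl (by rw [Finset.card_pair hij]; omega))
  · intro m hm
    simp only [Finset.mem_insert, Finset.mem_singleton] at hm
    rcases hm with rfl | rfl
    · simpa using hs1
    · simpa [Ne.symm hij] using hs1'
  · intro m hm
    simp only [Finset.mem_insert, Finset.mem_singleton] at hm
    rcases hm with rfl | rfl
    · simpa using hs2
    · simpa [Ne.symm hij] using hs2'
  · rw [Finset.sum_pair hij]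
    simp [Ne.symm hij, hs4, hs4']
  · left
    have hiff : IsSquare (Q s' / ν) ↔ IsSquare (Q s / ν) := by
      obtain ⟨r, hr⟩ := h1
      have key : Q s' = Q s * (r * (B s' x / B s x)) ^ 2 := by
        have h4 : B s x ^ 2 * Q s' = -(B s' x ^ 2 * Q s) := by
          rw [← hs4] at hs4'
          field_simp at hs4'
          linear_combination hs4'
        field_simp
        linear_combination h4 + (B s' x ^ 2 * Q s) * hr
      have hr0 : r * (B s' x / B s x) ≠ 0 := mul_ne_zero
        (fun h => by rw [h, mul_zero] at hr; exact neg_ne_zero.mpr one_ne_zero hr)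
        (div_ne_zero hs3' hs3)
      rw [key, mul_div_right_comm]
      set c := r * (B s' x / B s x)
      constructor
      · rintro ⟨w, hw⟩
        exact ⟨w / c, by rw [div_mul_div_comm, ← hw]; field_simp⟩
      · rintro ⟨w, hw⟩
        exact ⟨w * c, by rw [hw]; ring⟩
    rw [Finset.filter_insert, Finset.filter_singleton]
    simp only [Ne.symm hij, if_true, if_false]
    by_cases hsq : IsSquare (Q s / ν)
    · simp [hsq, hiff.mpr hsq]
    · have hsq' : ¬ IsSquare (Q s' / ν) := fun h => hsq (hiff.mp h)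
      simp [hsq, hsq', hij, Finset.card_pair hij]

end Ctx

end Cfsg.Lib.Linear.ODec
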