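import Cfsg.Agent.Lib.Linear.ODec.Stuck

/-!
# Anisotropic blocks, `-1` a non-square
-/

set_option autoImplicit false

namespace Cfsg.Lib.Linear.ODec

open Module Cfsg.Lib.Linear.Orth
open scoped Matrix

variable {ι : Type} [Fintype ι] [DecidableEq ι] {F : Type*} [Field F]
  {Q : (ι → F) → F} {B : LinearMap.BilinForm F (ι → F)}
  {t : ℕ} {D : Fin t → Submodule F (ι → F)} {k : ℕ}

open Classical in
/-- `1 - K u` is sometimes `0` or a non-square when `u`, `1 - u` are squares. -/
theorem exists_nonsquare_shift [Fintype F] (hm1 : ¬ IsSquare (-1 : F)) {K : F} (hK : K ≠ 0) :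
    ∃ u : F, u ≠ 0 ∧ IsSquare u ∧ IsSquare (1 - u) ∧ (1 - K * u = 0 ∨ ¬ IsSquare (1 - K * u)) := by
  by_contra hne
  push Not at hne
  set S := Finset.univ.filter fun u : F => u ≠ 0 ∧ IsSquare u ∧ IsSquare (1 - u) with hS
  have hmem : ∀ {u}, u ∈ S ↔ u ≠ 0 ∧ IsSquare u ∧ IsSquare (1 - u) := fun {u} => by simp [hS]
  have h1S : (1 : F) ∈ S := hmem.mpr ⟨one_ne_zero, IsSquare.one, by rw [sub_self]; exact IsSquare.zero⟩
  have hprop : ∀ u ∈ S, 1 - K * u ≠ 0 ∧ IsSquare (1 - K * u) := fun u hu =>
    hne u (hmem.mp hu).1 (hmem.mp hu).2.1 (hmem.mp hu).2.2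
  by_cases hKs : IsSquare K
  · have hsub : S.image (K * ·) ⊆ S.erase 1 := by
      intro v hv
      obtain ⟨u, hu, rfl⟩ := Finset.mem_image.mp hv
      refine Finset.mem_erase.mpr ⟨fun h => (hprop u hu).1 (by rw [h, sub_self]), hmem.mpr
        ⟨mul_ne_zero hK (hmem.mp hu).1, hKs.mul (hmem.mp hu).2.1, (hprop u hu).2⟩⟩
    have := Finset.card_le_card hsub
    rw [Finset.card_image_of_injective _ (mul_right_injective₀ hK),
      Finset.card_erase_of_mem h1S] at this
    have : 0 < S.card := Finset.card_pos.mpr ⟨1, h1S⟩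
    omega
  · have hinj : Set.InjOn (fun u => K * u / (K * u - 1)) S := by
      intro u hu u' hu' h
      have h1 : K * u - 1 ≠ 0 := fun h => (hprop u hu).1 (by linear_combination -h)
      have h2 : K * u' - 1 ≠ 0 := fun h => (hprop u' hu').1 (by linear_combination -h)
      simp only [div_eq_div_iff h1 h2] at h
      exact mul_left_cancel₀ hK (by linear_combination -h)
    have hsub : S.image (fun u => K * u / (K * u - 1)) ⊆ S.erase 1 := by
      intro v hv
      obtain ⟨u, hu, rfl⟩ := Finset.mem_image.mp hv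
      obtain ⟨hu0, husq, -⟩ := hmem.mp hu
      obtain ⟨hw0, hwsq⟩ := hprop u hu
      have hw1 : K * u - 1 ≠ 0 := fun h => hw0 (by linear_combination -h)
      have hKu : ¬ IsSquare (K * u) := fun h => hKs (by
        have := h.mul husq.inv
        rwa [mul_assoc, mul_inv_cancel₀ hu0, mul_one] at this)
      refine Finset.mem_erase.mpr ⟨fun h => ?_, hmem.mpr ⟨div_ne_zero (mul_ne_zero hK hu0) hw1, ?_, ?_⟩⟩
      · rw [div_eq_one_iff_eq hw1] at h
        exact one_ne_zero (α := F) (by linear_combination h)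
      · have h := (isSquare_div hKu hm1).mul hwsq.inv
        have e : K * u / (K * u - 1) = K * u / -1 * (1 - K * u)⁻¹ := by
          rw [show K * u - 1 = -(1 - K * u) by ring]
          field_simp
        exact e ▸ h
      · have e : 1 - K * u / (K * u - 1) = (1 - K * u)⁻¹ := by
          rw [one_sub_div hw1, show K * u - 1 = -(1 - K * u) by ring]
          field_simp
          ring
        exact e ▸ hwsq.inv
    have := Finset.card_le_card hsub
    rw [Finset.card_image_of_injOn hinj, Finset.card_erase_of_mem h1S] at this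
    have : 0 < S.card := Finset.card_pos.mpr ⟨1, h1S⟩
    omega

section Ctx

variable [Fintype F] {H : Subgroup (GL ι F)} (T : Ctx Q B D k H) (hS : Small Q D k) {ν : F}

include T hS

/-- Anisotropic blocks and `-1` a non-square: a better class vector. -/
theorem Ctx.omega_of_stuck_nonsquare (hk : k = 2) (hν : ν ≠ 0) {x : ι → F}
    (hx : InC Q D H ν x) (hall : ∀ i, T.dec.comp i x ≠ 0)
    (haniso : ∀ i, ∀ v ∈ D i, Q v = 0 → v = 0) (hm1 : ¬ IsSquare (-1 : F))
    (hfix : ∀ (m : Fin t) (z : ι → F), z ∈ D m → Q z ≠ 0 → B z x = 0 → IsSquare (Q z / ν)) :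
    Cfsg.Geo.omegaGL Q ≤ H := by
  classical
  have X := T.dec
  have C := X.space
  have ht := X.t6 hk
  have h20 : (2 : F) ≠ 0 := fun h => hm1 ⟨1, by linear_combination (-1 : F) * h⟩
  have hQc : ∀ i, Q (X.comp i x) ≠ 0 := fun i h => hall i (haniso i _ (X.comp_mem i x) h)
  -- a perpendicular vector in each block
  have perp : ∀ i, ∃ a ∈ D i, Q a ≠ 0 ∧ B (X.comp i x) a = 0 ∧ IsSquare (Q a / ν) := by
    intro i
    obtain ⟨b0, b1, P⟩ := X.exists_plane hk i
    obtain ⟨a, ha, ha0, hxa⟩ := P.exists_perp_ne (by rw [X.dim, hk]) (x := X.comp i x)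
    have hQa : Q a ≠ 0 := fun h => ha0 (haniso i a ha h)
    refine ⟨a, ha, hQa, hxa, hfix i a ha hQa ?_⟩
    rw [C.symm, ← X.comp_B i x ha, hxa]
  have hcsq : ∀ i, IsSquare (Q (X.comp i x) / ν) := by
    intro i
    by_contra hc
    obtain ⟨a, ha, hQa, hxa, ⟨s, hs⟩⟩ := perp i
    obtain ⟨r, hr⟩ := isSquare_div hc hm1
    have hs0 : s ≠ 0 := fun h => div_ne_zero hQa hν (by rw [hs, h, mul_zero])
    have hv : Q (s • X.comp i x + r • a) = 0 := by
      rw [C.smul_add, hxa]
      field_simp at hs hr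
      linear_combination r ^ 2 * hs - s ^ 2 * hr
    have h0 := haniso i _ ((D i).add_mem ((D i).smul_mem s (X.comp_mem i x)) ((D i).smul_mem r ha)) hv
    have h1 := congrArg (B (X.comp i x)) h0
    rw [map_add, map_smul, map_smul, hxa, C.self, map_zero, smul_zero, add_zero, smul_eq_mul] at h1
    exact mul_ne_zero hs0 (mul_ne_zero h20 (hQc i)) h1
  by_cases hν' : ∀ i, Q (X.comp i x) = ν
  · -- flips of whole components
    have htp : (t : F) = 1 := by
      have h := X.Q_sum x
      rw [hx.1, Finset.sum_congr rfl fun i _ => hν' i, Finset.sum_const, Finset.card_univ,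
        Fintype.card_fin, nsmul_eq_mul] at h
      exact mul_right_cancel₀ hν (by rw [one_mul]; exact h.symm)
    set p := ringChar F with hp
    haveI := ringChar.charP F
    have hp0 : p ≠ 0 := fun h => by
      haveI : CharP F 0 := h ▸ ringChar.charP F
      haveI := CharP.charP_to_charZero F
      exact not_finite F
    have hprime : p.Prime := (CharP.char_is_prime_or_zero F p).resolve_right hp0
    have hp2 : p ≠ 2 := fun h => h20 (by
      have := CharP.cast_eq_zero F p
      rw [h] at this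
      exact_mod_cast this)
    have hdvd : p ∣ t - 1 := by
      rw [← CharP.cast_eq_zero_iff F p, Nat.cast_sub (by omega), htp, Nat.cast_one, sub_self]
    have hpt : p ≤ t - 1 := Nat.le_of_dvd (by omega) hdvd
    have hpodd : p % 2 = 1 := Nat.odd_iff.mp (hprime.odd_of_ne_two hp2)
    -- the number of flips and the resulting ratio
    obtain ⟨s, hs2, hst, β, hβ, hβs⟩ : ∃ s : ℕ, 2 ≤ s ∧ s + 2 ≤ t ∧ ∃ β : F, (β = 1 ∨ β = -1) ∧
        (2 : F) * (1 - 2 * (s : F)) = β := by
      have hp3 : 3 ≤ p := by have := hprime.two_le; omega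
      have hcast : (p : F) = 0 := CharP.cast_eq_zero F p
      by_cases h3 : p = 3
      · refine ⟨3, by omega, by omega, -1, Or.inr rfl, ?_⟩
        rw [h3] at hcast
        push_cast at hcast ⊢
        linear_combination (-3 : F) * hcast
      have h5 : 5 ≤ p := by
        rcases Nat.lt_or_ge p 5 with h | h
        · exact absurd (show p = 4 by omega) (fun h => by omega)
        · exact h
      by_cases h4 : p % 4 = 3
      · refine ⟨(p + 1) / 4, by omega, by omega, 1, Or.inl rfl, ?_⟩
        obtain ⟨m, hm⟩ : ∃ m, p = 4 * m + 3 := ⟨p / 4, by omega⟩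
        rw [show (p + 1) / 4 = m + 1 by omega]
        rw [hm] at hcast
        push_cast at hcast ⊢
        linear_combination -hcast
      · refine ⟨(3 * p + 1) / 4, by omega, by omega, 1, Or.inl rfl, ?_⟩
        obtain ⟨m, hm⟩ : ∃ m, p = 4 * m + 1 := ⟨p / 4, by omega⟩
        rw [show (3 * p + 1) / 4 = 3 * m + 1 by omega]
        rw [hm] at hcast
        push_cast at hcast ⊢
        linear_combination (-3 : F) * hcast
    obtain ⟨A, -, hA⟩ := Finset.exists_subset_card_eq (s := (Finset.univ : Finset (Fin t))) (n := s)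
      (by rw [Finset.card_univ, Fintype.card_fin]; omega)
    have hQs : ∀ j ∈ A, Q (X.comp j x) ≠ 0 := fun j _ => hQc j
    have hyC := (hx.moved_mem T hν A (fun j => X.comp j x) (fun j _ => X.comp_mem j x) hQs).1 (by
      rw [Finset.filter_false_of_mem fun j _ h => h (hcsq j)]; simp)
    have hmv : moved Q B x A (fun j => X.comp j x) = x - (2 : F) • ∑ j ∈ A, X.comp j x := by
      rw [moved, Finset.smul_sum]
      congr 1
      refine Finset.sum_congr rfl fun j _ => ?_
      rw [← X.comp_B' j x (X.comp_mem j x), C.self, hν']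
      match_scalars
      field_simp
    rw [hmv] at hyC
    set y := x - (2 : F) • ∑ j ∈ A, X.comp j x with hy
    have hBxy : B x y = ν * β := by
      rw [hy, map_sub, map_smul, map_sum, C.self, hx.1, Finset.sum_congr rfl fun j _ =>
        (show B x (X.comp j x) = 2 * ν by rw [← X.comp_B j x (X.comp_mem j x), C.self, hν']),
        Finset.sum_const, hA, nsmul_eq_mul, ← hβs, smul_eq_mul]
      ring
    have hQx : Q x ≠ 0 := hx.1 ▸ hν
    have hz := hx.refl T hν hyC
    rw [rGL_act C hQx, hBxy, hx.1, ← mul_assoc, inv_mul_cancel₀ hν, one_mul] at hz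
    have hcomp : ∀ i, X.comp i (y - β • x) =
        ((if i ∈ A then (-1 : F) else 1) - β) • X.comp i x := by
      intro i
      rw [hy, map_sub, map_sub, map_smul, map_smul, map_sum]
      by_cases hi : i ∈ A
      · rw [Finset.sum_eq_single i (fun j _ hj => X.comp_other hj (X.comp_mem j x))
          (fun h => absurd hi h), X.comp_self (X.comp_mem i x), if_pos hi]
        module
      · rw [Finset.sum_eq_zero fun j hj => X.comp_other (fun e : j = i => hi (e ▸ hj)) (X.comp_mem j x),
          if_neg hi]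
        module
    have hsupp : ∀ i, X.comp i (y - β • x) ≠ 0 ↔ ((i ∈ A ∧ β = 1) ∨ (i ∉ A ∧ β = -1)) := by
      intro i
      rw [hcomp i, Ne, smul_eq_zero, not_or]
      have h2' : (-1 : F) - 1 ≠ 0 := fun h => h20 (by linear_combination -h)
      rcases hβ with rfl | rfl <;> by_cases hi : i ∈ A <;>
        simp [hi, hall i, h2', Ne.symm (sub_ne_zero.mp h2'), sub_ne_zero.mp h2',
          one_add_one_eq_two, h20]
    have hcard : 2 ≤ (Finset.univ.filter fun i => X.comp i (y - β • x) ≠ 0).card ∧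
        ∃ m, X.comp m (y - β • x) = 0 := by
      have hne : (1 : F) ≠ -1 := fun h => h20 (by linear_combination h)
      obtain ⟨a, ha⟩ := Finset.card_pos.mp (show 0 < A.card by omega)
      obtain ⟨b, hb⟩ := Finset.card_pos.mp (show 0 < (Finset.univ \ A).card by
        rw [Finset.card_sdiff_of_subset (Finset.subset_univ _), Finset.card_univ, Fintype.card_fin]
        omega)
      rw [Finset.mem_sdiff] at hb
      rcases hβ with rfl | rfl
      · refine ⟨?_, b, not_not.mp fun h => ?_⟩
        · rw [show (Finset.univ.filter fun i => X.comp i (y - (1 : F) • x) ≠ 0) = A by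
            ext i
            rw [Finset.mem_filter, hsupp i]
            simp [hne]]
          omega
        · rcases (hsupp b).mp h with ⟨h, -⟩ | ⟨-, h⟩
          · exact hb.2 h
          · exact hne h
      · refine ⟨?_, a, not_not.mp fun h => ?_⟩
        · rw [show (Finset.univ.filter fun i => X.comp i (y - (-1 : F) • x) ≠ 0) = Finset.univ \ A by
            ext i
            rw [Finset.mem_filter, hsupp i]
            simp [Ne.symm hne]]
          rw [Finset.card_sdiff_of_subset (Finset.subset_univ _), Finset.card_univ, Fintype.card_fin]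
          omega
        · rcases (hsupp a).mp h with ⟨-, h⟩ | ⟨h, -⟩
          · exact hne h.symm
          · exact h ha
    obtain ⟨h2, m, hm⟩ := hcard
    exact T.omega_of_two_le hS hk hν hz h2 hm
  -- a class vector with another square class
  push Not at hν'
  obtain ⟨j, hj⟩ := hν'
  obtain ⟨a, ha, hQa, hxa, hasq⟩ := perp j
  set xj := X.comp j x with hxj
  set c := Q xj with hc
  have hc0 : c ≠ 0 := hQc j
  set K := 4 * c * (ν - c) / ν ^ 2 with hK
  have hK0 : K ≠ 0 := div_ne_zero (mul_ne_zero (mul_ne_zero (by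
    rw [show (4 : F) = 2 * 2 by norm_num]; exact mul_ne_zero h20 h20) hc0)
    (sub_ne_zero.mpr (Ne.symm hj))) (pow_ne_zero _ hν)
  obtain ⟨u, hu0, ⟨r, hr⟩, ⟨w, hw⟩, hu⟩ := exists_nonsquare_shift hm1 hK0
  obtain ⟨cr, hcr⟩ := hcsq j
  obtain ⟨ar, har⟩ := hasq
  rw [← hxj, ← hc] at hcr
  have hcr0 : cr ≠ 0 := fun h => div_ne_zero hc0 hν (by rw [hcr, h, mul_zero])
  have har0 : ar ≠ 0 := fun h => div_ne_zero hQa hν (by rw [har, h, mul_zero])
  set μ := r / cr with hμ
  set lam := w / ar with hlam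
  have hμ0 : μ ≠ 0 := div_ne_zero (fun h => hu0 (by rw [hr, h, mul_zero])) hcr0
  have hμc : μ ^ 2 * c = u * ν := by
    field_simp at hcr
    rw [hμ, hr, hcr]
    field_simp
  have hlk : lam ^ 2 * Q a = (1 - u) * ν := by
    field_simp at har
    rw [hlam, hw, har]
    field_simp
  set p := lam • a + μ • xj with hp
  have hpm : p ∈ D j := (D j).add_mem ((D j).smul_mem _ ha) ((D j).smul_mem _ (X.comp_mem j x))
  have hxa' : B xj a = 0 := hxa
  have hQp : Q p = ν := by
    rw [hp, C.smul_add, C.symm a xj, hxa', ← hc]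
    linear_combination hμc + hlk
  have hQx : Q x ≠ 0 := hx.1 ▸ hν
  set β := ν⁻¹ * (μ * (2 * c)) with hβ
  have hβ0 : β ≠ 0 := mul_ne_zero (inv_ne_zero hν) (mul_ne_zero hμ0 (mul_ne_zero h20 hc0))
  have hBxp : B x p = μ * (2 * c) := by
    rw [← X.comp_B j x hpm, ← hxj, hp, map_add, map_smul, map_smul, hxa', C.self, ← hc]
    simp
  have hz := hx.refl T hν (T.inC_block hν hpm hQp)
  rw [rGL_act C hQx, hBxp, hx.1, ← hβ] at hz
  have hzj : X.comp j (p - β • x) = lam • a + (μ - β) • xj := by
    rw [map_sub, map_smul, X.comp_self hpm, ← hxj, hp]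
    module
  have hzo : ∀ i, i ≠ j → X.comp i (p - β • x) = -(β • X.comp i x) := fun i hi => by
    rw [map_sub, map_smul, X.comp_other (Ne.symm hi) hpm, zero_sub]
  have hQzj : Q (X.comp j (p - β • x)) = ν * (1 - K * u) := by
    rw [hzj, C.smul_add, C.symm a xj, hxa', ← hc]
    have e : μ - β = μ * (1 - 2 * c / ν) := by rw [hβ]; field_simp
    rw [e, hK]
    field_simp
    linear_combination (ν - 2 * c) ^ 2 * hμc + ν ^ 2 * hlk
  have hsupp : Finset.univ.erase j ⊆ Finset.univ.filter fun i => X.comp i (p - β • x) ≠ 0 :=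
    fun i hi => Finset.mem_filter.mpr ⟨Finset.mem_univ i, by
      rw [hzo i (Finset.ne_of_mem_erase hi), neg_ne_zero]
      exact smul_ne_zero hβ0 (hall i)⟩
  have hc4 := Finset.card_le_card hsupp
  rw [Finset.card_erase_of_mem (Finset.mem_univ j), Finset.card_univ, Fintype.card_fin] at hc4
  refine T.omega_of_free hS hk hν hz (by omega) ?_
  rcases hu with hu | hu
  · exact T.free_of_zero (m := j) (haniso j _ (X.comp_mem j _) (by rw [hQzj, hu, mul_zero]))
  refine Or.inr ⟨j, ((μ - β) * c) • a - (lam * Q a) • xj, (D j).sub_mem ((D j).smul_mem _ ha)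
    ((D j).smul_mem _ (X.comp_mem j x)), ?_⟩
  have hQz' : Q (((μ - β) * c) • a - (lam * Q a) • xj) = c * Q a * Q (X.comp j (p - β • x)) := by
    rw [hzj, sub_eq_add_neg, ← neg_smul, C.smul_add, C.smul_add, C.symm a xj, hxa', ← hc]
    ring
  have hQzj0 : Q (X.comp j (p - β • x)) ≠ 0 := by
    rw [hQzj]; exact mul_ne_zero hν (fun h => hu (h ▸ IsSquare.zero))
  refine ⟨by rw [hQz']; exact mul_ne_zero (mul_ne_zero hc0 hQa) hQzj0, fun hsq => hu ?_, ?_⟩
  · rw [hQz', hQzj] at hsq
    obtain ⟨v, hv⟩ := hsq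
    refine ⟨v / (ν * cr * ar), ?_⟩
    field_simp at hcr har hv ⊢
    rw [hcr, har] at hv
    linear_combination hv
  · rw [← X.comp_B' j (p - β • x) ((D j).sub_mem ((D j).smul_mem _ ha)
      ((D j).smul_mem _ (X.comp_mem j x))), hzj, ← hxj]
    simp only [map_add, map_sub, map_smul, LinearMap.sub_apply, LinearMap.smul_apply, smul_eq_mul,
      C.self, C.symm a xj, hxa']
    ring

open Classical in
/-- A class vector outside the blocks gives `Ω`, planes. -/
theorem Ctx.exact_plane (hk : k = 2) (hν : ν ≠ 0) {x : ι → F} (hx : InC Q D H ν x)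
    (hxD : ∀ i, x ∉ D i) : Cfsg.Geo.omegaGL Q ≤ H := by
  have X := T.dec
  have C := X.space
  by_cases hns : ∀ i, X.comp i x ≠ 0 → Q (X.comp i x) ≠ 0
  swap
  · push Not at hns
    obtain ⟨i, hi, hQi⟩ := hns
    exact T.omega_of_sing hS hk hν hx hxD hi hQi
  have h2 : 2 ≤ (Finset.univ.filter fun i => X.comp i x ≠ 0).card := by
    by_contra h
    obtain ⟨i₀, hi₀⟩ : ∃ i, X.comp i x ≠ 0 := by
      by_contra h'
      push Not at h'
      exact hxD ⟨0, by have := X.two_le; omega⟩ (by rw [X.eq_zero h']; exact Submodule.zero_mem _)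
    refine hxD i₀ (X.mem_of_comp fun l hl => ?_)
    by_contra hl0
    have : ({i₀, l} : Finset (Fin t)) ⊆ Finset.univ.filter fun i => X.comp i x ≠ 0 := by
      intro i hi
      simp only [Finset.mem_insert, Finset.mem_singleton] at hi
      rcases hi with rfl | rfl <;> simp [hi₀, hl0]
    have := Finset.card_le_card this
    rw [Finset.card_pair (Ne.symm hl)] at this
    omega
  by_cases hall : ∀ i, X.comp i x ≠ 0
  swap
  · push Not at hall
    obtain ⟨m, hm⟩ := hall
    exact T.omega_of_two_le hS hk hν hx h2 hm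
  by_cases hf : Free Q B D ν x
  · refine T.omega_of_free hS hk hν hx ?_ hf
    rw [Finset.filter_true_of_mem fun i _ => hall i, Finset.card_univ, Fintype.card_fin]
    have := X.t6 hk
    omega
  have hfix : ∀ (m : Fin t) (z : ι → F), z ∈ D m → Q z ≠ 0 → B z x = 0 → IsSquare (Q z / ν) := by
    intro m z hz hQz hzx
    by_contra h
    exact hf (Or.inr ⟨m, z, hz, hQz, h, hzx⟩)
  have h20 : (2 : F) ≠ 0 := fun h => hf (Or.inl fun j s _ _ => FiniteField.isSquare_of_char_two
    (CharP.ringChar_of_prime_eq_zero Nat.prime_two (by exact_mod_cast h)) _)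
  by_cases han : ∀ i, ∀ v ∈ D i, Q v = 0 → v = 0
  · by_cases h1 : IsSquare (-1 : F)
    · exact T.omega_of_stuck_square hS hk h20 hν hx hall han h1
    · exact T.omega_of_stuck_nonsquare hS hk hν hx hall han h1 hfix
  push Not at han
  obtain ⟨i, v, hv, hQv, hv0⟩ := han
  refine T.omega_of_stuck_plus hS hk h20 hν hx hall hns hfix fun l => ?_
  obtain ⟨e, he⟩ := X.isom i l
  refine ⟨(e ⟨v, hv⟩ : D l), (e ⟨v, hv⟩).2, fun h => hv0 ?_, by rw [he ⟨v, hv⟩, hQv]⟩
  have : e ⟨v, hv⟩ = 0 := Subtype.ext h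
  exact congrArg Subtype.val ((LinearEquiv.map_eq_zero_iff e).mp this)

end Ctx

end Cfsg.Lib.Linear.ODec
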