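import Cfsg.Agent.Lib.Linear.ODec.Binary

/-!
# Norms and values in a plane
-/

set_option autoImplicit false

namespace Cfsg.Lib.Linear.ODec

open Module Cfsg.Lib.Linear.Orth
open scoped Matrix

variable {F : Type*} [Field F] [Fintype F] {ι : Type} [Fintype ι] [DecidableEq ι]
  {Q : (ι → F) → F} {B : LinearMap.BilinForm F (ι → F)}
  {U : Submodule F (ι → F)} {b0 b1 : ι → F}

open Classical in
/-- The values of `B(x,s)² / Q s` on the non-singular lines not perpendicular to `x`. -/
noncomputable def fvals (Q : (ι → F) → F) (B : LinearMap.BilinForm F (ι → F)) (b0 b1 x : ι → F) :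
    Finset F :=
  ((lines Q b0 b1).filter fun o => B x (line b0 b1 o) ≠ 0).image
    fun o => B x (line b0 b1 o) ^ 2 / Q (line b0 b1 o)

omit [DecidableEq ι] [Fintype ι] in
theorem mem_fvals {x : ι → F} {v : F} : v ∈ fvals Q B b0 b1 x ↔ ∃ o, Q (line b0 b1 o) ≠ 0 ∧
    B x (line b0 b1 o) ≠ 0 ∧ B x (line b0 b1 o) ^ 2 / Q (line b0 b1 o) = v := by
  classical
  simp [fvals, mem_lines, and_assoc]

omit [DecidableEq ι] [Fintype ι] in
theorem fvals_ne_zero {x : ι → F} {v : F} (h : v ∈ fvals Q B b0 b1 x) : v ≠ 0 := by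
  obtain ⟨o, h1, h2, rfl⟩ := mem_fvals.mp h
  exact div_ne_zero (pow_ne_zero _ h2) h1

section

variable (P : Plane Q B U b0 b1)

include P

omit [Fintype F] in
theorem Plane.exists_perp_ne (h2 : finrank F U = 2) {x : ι → F} :
    ∃ y ∈ U, y ≠ 0 ∧ B x y = 0 := by
  by_cases h0 : B x b0 = 0
  · exact ⟨b0, P.mem0, fun h => one_ne_zero (P.indep 1 0 (by rw [h]; simp)).1, h0⟩
  · refine ⟨B x b1 • b0 - B x b0 • b1, U.sub_mem (U.smul_mem _ P.mem0) (U.smul_mem _ P.mem1),
      fun h => h0 ?_, by simp [mul_comm]⟩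
    have := P.indep (B x b1) (-(B x b0)) (by rw [neg_smul, ← sub_eq_add_neg, h])
    exact neg_eq_zero.mp this.2

theorem Plane.card_fvals (h2 : finrank F U = 2) {x : ι → F} (hx : x ∈ U) (hx0 : x ≠ 0) :
    (lines Q b0 b1).card ≤ 2 * (fvals Q B b0 b1 x).card + 1 := by
  classical
  have C := P.space
  set S := (lines Q b0 b1).filter fun o => B x (line b0 b1 o) ≠ 0 with hS
  have h1 : (lines Q b0 b1).card ≤ S.card + 1 := by
    have h := Finset.card_filter_add_card_filter_not
      (s := lines Q b0 b1) (fun o => B x (line b0 b1 o) ≠ 0)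
    have : ((lines Q b0 b1).filter fun o => ¬ B x (line b0 b1 o) ≠ 0).card ≤ 1 :=
      Finset.card_le_one.mpr fun a ha b hb => by
        simp only [Finset.mem_filter, not_not] at ha hb
        exact P.perp_unique hx hx0 ha.2 hb.2
    simp only [hS]
    omega
  refine h1.trans (Nat.add_le_add_right ?_ 1)
  refine Finset.card_le_mul_card_image S 2 fun v hv => ?_
  obtain ⟨o₀, ho₀, rfl⟩ := Finset.mem_image.mp hv
  simp only [hS, Finset.mem_filter, mem_lines] at ho₀
  set v := B x (line b0 b1 o₀) ^ 2 / Q (line b0 b1 o₀) with hv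
  refine le_trans (Finset.card_le_card fun o ho => ?_)
    (P.zeros_le_two (G := fun y => B x y ^ 2 - v * Q y)
      (β := 2 * B x b0 * B x b1 - v * B b0 b1) (fun a b => ?_) ?_)
  · simp only [hS, Finset.mem_filter, mem_lines] at ho
    simp only [Finset.mem_filter, Finset.mem_univ, true_and]
    rw [← ho.2, div_mul_cancel₀ _ ho.1.1, sub_self]
  · simp only [map_add, map_smul, smul_eq_mul, C.smul_add]
    ring
  · by_contra hc
    push Not at hc
    obtain ⟨y, hy, hy0, hxy⟩ := P.exists_perp_ne h2 (x := x)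
    refine hy0 (P.nd y hy fun z hz => ?_)
    have e1 := hc y hy
    have e2 := hc z hz
    have e3 := hc _ (U.add_mem hy hz)
    simp only [map_add, C.add, hxy, zero_add] at e1 e2 e3
    have : v * B y z = 0 := by linear_combination e1 + e2 - e3
    exact (mul_eq_zero.mp this).resolve_left (div_ne_zero (pow_ne_zero _ ho₀.2) ho₀.1)

/-- The images of a vector under the reflections of the plane. -/
theorem Plane.exists_norm_set {p : ι → F} (hp : p ∈ U) (hQp : Q p ≠ 0) :
    ∃ N : Finset (ι → F), (lines Q b0 b1).card ≤ N.card ∧ ∀ z ∈ N, z ∈ U ∧ Q z = Q p := by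
  classical
  have C := P.space
  have hp0 : p ≠ 0 := fun h => hQp (h ▸ C.zero)
  refine ⟨(lines Q b0 b1).image fun o => (rGL Q (line b0 b1 o)).val *ᵥ p, ?_, fun z hz => ?_⟩
  · refine (Finset.card_image_of_injOn fun o ho o' ho' h => ?_).ge
    simp only [Finset.mem_coe, mem_lines] at ho ho'
    simp only [rGL_act C ho, rGL_act C ho', sub_right_inj] at h
    by_cases hb : B (line b0 b1 o) p = 0
    · have hb' : B (line b0 b1 o') p = 0 := by
        rw [hb, mul_zero, zero_smul] at h
        rcases smul_eq_zero.mp h.symm with h | h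
        · exact (mul_eq_zero.mp h).resolve_left (inv_ne_zero ho')
        · exact absurd h (P.line_ne o')
      exact P.perp_unique hp hp0 (by rw [C.symm]; exact hb) (by rw [C.symm]; exact hb')
    · have hc : ((Q (line b0 b1 o))⁻¹ * B (line b0 b1 o) p) ≠ 0 := mul_ne_zero (inv_ne_zero ho) hb
      exact P.line_inj (c := ((Q (line b0 b1 o))⁻¹ * B (line b0 b1 o) p)⁻¹ *
        ((Q (line b0 b1 o'))⁻¹ * B (line b0 b1 o') p)) (by
          rw [mul_smul, ← h, smul_smul, inv_mul_cancel₀ hc, one_smul])
  · obtain ⟨o, ho, rfl⟩ := Finset.mem_image.mp hz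
    rw [mem_lines] at ho
    exact ⟨by rw [rGL_act C ho]; exact U.sub_mem hp (U.smul_mem _ (P.line_mem o)),
      mem_iso.mp (rGL_mem C ho) p⟩

/-- A vector of the norm of `p`, independent of it and not perpendicular to it. -/
theorem Plane.exists_friend (h2 : finrank F U = 2) (hl : 2 ≤ (lines Q b0 b1).card)
    (h5 : (2 : F) ≠ 0 → 5 ≤ (lines Q b0 b1).card) {p : ι → F} (hp : p ∈ U) (hQp : Q p ≠ 0) :
    ∃ p' ∈ U, Q p' = Q p ∧ p' ∉ Submodule.span F {p} ∧ B p p' ≠ 0 := by
  classical
  have C := P.space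
  obtain ⟨N, hN, hNm⟩ := P.exists_norm_set hp hQp
  obtain ⟨y, hy, hy0, hpy⟩ := P.exists_perp_ne h2 (x := p)
  have hp0 : p ≠ 0 := fun h => hQp (h ▸ C.zero)
  obtain ⟨oy, cy, hcy, hyo⟩ := P.exists_line hy hy0
  by_contra hne
  push Not at hne
  have sub : ∀ z ∈ N, z = p ∨ z = -p ∨ ∃ c : F, z = c • y ∧ c ^ 2 * Q y = Q p := by
    intro z hz
    obtain ⟨hzU, hQz⟩ := hNm z hz
    by_cases hsp : z ∈ Submodule.span F {p}
    · obtain ⟨c, rfl⟩ := Submodule.mem_span_singleton.mp hsp
      rw [C.smul] at hQz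
      rcases sq_eq_one_iff.mp (mul_right_cancel₀ hQp (hQz.trans (one_mul _).symm)) with rfl | rfl
      · exact Or.inl (one_smul _ _)
      · exact Or.inr (Or.inl (by rw [neg_one_smul]))
    · have hpz := hne z hzU hQz hsp
      have hz0 : z ≠ 0 := fun h => hQp (by rw [← hQz, h, C.zero])
      obtain ⟨o, d, hd, hzo⟩ := P.exists_line hzU hz0
      have ho : o = oy := P.perp_unique hp hp0
        (by rw [hzo, map_smul, smul_eq_zero] at hpz; exact hpz.resolve_left hd)
        (by rw [hyo, map_smul, smul_eq_zero] at hpy; exact hpy.resolve_left hcy)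
      refine Or.inr (Or.inr ⟨d / cy, ?_, ?_⟩)
      · rw [hyo, smul_smul, div_mul_cancel₀ _ hcy, hzo, ho]
      · rw [← hQz, hzo, hyo, ho, C.smul, C.smul]; field_simp
  by_cases h20 : (2 : F) = 0
  · have hyp : ∃ c : F, c ≠ 0 ∧ y = c • p := by
      obtain ⟨o, c, hc, hpo⟩ := P.exists_line hp hp0
      have hpp : B p p = 0 := by rw [C.self, h20, zero_mul]
      have ho : o = oy := P.perp_unique hp hp0
        (by rw [hpo] at hpp; nth_rw 1 [← hpo] at hpp
            rw [map_smul, smul_eq_zero] at hpp; exact hpp.resolve_left hc)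
        (by rw [hyo, map_smul, smul_eq_zero] at hpy; exact hpy.resolve_left hcy)
      exact ⟨cy / c, div_ne_zero hcy hc, by rw [hpo, smul_smul, div_mul_cancel₀ _ hc, hyo, ho]⟩
    obtain ⟨c, -, rfl⟩ := hyp
    have hneg : -p = p := by
      rw [neg_eq_iff_add_eq_zero, show p + p = (2 : F) • p by module, h20, zero_smul]
    have : N ⊆ {p} := fun z hz => by
      rw [Finset.mem_singleton]
      rcases sub z hz with h | h | ⟨d, rfl, hd⟩
      · exact h
      · exact h.trans hneg
      · rw [C.smul, ← mul_assoc, ← mul_pow] at hd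
        rcases sq_eq_one_iff.mp (mul_right_cancel₀ hQp (hd.trans (one_mul _).symm)) with e | e <;>
          rw [smul_smul, e]
        · exact one_smul _ _
        · rw [neg_one_smul, hneg]
    have := Finset.card_le_card this
    rw [Finset.card_singleton] at this
    omega
  · have h5' := h5 h20
    by_cases hex : ∃ c : F, c ^ 2 * Q y = Q p
    · obtain ⟨c₀, hc₀⟩ := hex
      have : N ⊆ {p, -p, c₀ • y, -(c₀ • y)} := fun z hz => by
        simp only [Finset.mem_insert, Finset.mem_singleton]
        rcases sub z hz with h | h | ⟨d, rfl, hd⟩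
        · exact Or.inl h
        · exact Or.inr (Or.inl h)
        · have hy' : Q y ≠ 0 := fun h => hQp (by rw [← hc₀, h, mul_zero])
          rcases sq_eq_sq_iff_eq_or_eq_neg.mp (mul_right_cancel₀ hy' (hd.trans hc₀.symm)) with e | e <;>
            simp [e]
      have := (Finset.card_le_card this).trans Finset.card_le_four
      omega
    · have : N ⊆ {p, -p} := fun z hz => by
        simp only [Finset.mem_insert, Finset.mem_singleton]
        rcases sub z hz with h | h | ⟨d, rfl, hd⟩
        · exact Or.inl h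
        · exact Or.inr h
        · exact absurd ⟨d, hd⟩ hex
      have := (Finset.card_le_card this).trans Finset.card_le_two
      omega

/-- Two perpendicular vectors of one norm have a common non-perpendicular one. -/
theorem Plane.exists_common (h5 : 5 ≤ (lines Q b0 b1).card) {p p' : ι → F} (hp : p ∈ U)
    (hp' : p' ∈ U) (hQp : Q p ≠ 0) (hQ : Q p' = Q p) (hpp : B p p' = 0) :
    ∃ z ∈ U, Q z = Q p ∧ B p z ≠ 0 ∧ B p' z ≠ 0 := by
  classical
  have C := P.space
  obtain ⟨N, hN, hNm⟩ := P.exists_norm_set hp hQp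
  by_contra hne
  push Not at hne
  have key : ∀ a b : ι → F, a ∈ U → b ∈ U → Q a = Q p → Q b = Q p → B a b = 0 → ∀ z ∈ U,
      Q z = Q p → B a z = 0 → z = b ∨ z = -b := by
    intro a b ha hb hQa hQb hab z hz hQz haz
    obtain ⟨o, c, hc, hzo⟩ := P.exists_line hz fun h => hQp (by rw [← hQz, h, C.zero])
    obtain ⟨o', c', hc', hbo⟩ := P.exists_line hb fun h => hQp (by rw [← hQb, h, C.zero])
    have ho : o = o' := P.perp_unique ha (fun h => hQp (by rw [← hQa, h, C.zero]))
      (by rw [hzo, map_smul, smul_eq_zero] at haz; exact haz.resolve_left hc)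
      (by rw [hbo, map_smul, smul_eq_zero] at hab; exact hab.resolve_left hc')
    have h : Q (line b0 b1 o) ≠ 0 := fun h => hQp (by rw [← hQz, hzo, C.smul, h, mul_zero])
    have hcc : c ^ 2 = c' ^ 2 := mul_right_cancel₀ h (by
      rw [← C.smul, ← hzo, hQz, ho, ← C.smul, ← hbo, hQb])
    rcases sq_eq_sq_iff_eq_or_eq_neg.mp hcc with e | e
    · exact Or.inl (by rw [hzo, hbo, ho, e])
    · exact Or.inr (by rw [hzo, hbo, ho, e, neg_smul])
  have : N ⊆ {p, -p, p', -p'} := fun z hz => by
    obtain ⟨hzU, hQz⟩ := hNm z hz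
    simp only [Finset.mem_insert, Finset.mem_singleton]
    by_cases h : B p z = 0
    · rcases key p p' hp hp' rfl hQ hpp z hzU hQz h with e | e <;> tauto
    · rcases key p' p hp' hp hQ rfl (by rw [C.symm]; exact hpp) z hzU hQz
        (hne z hzU hQz h) with e | e <;> tauto
  have := (Finset.card_le_card this).trans Finset.card_le_four
  omega

/-- A set of scalars stable under the values of a plane is everything. -/
theorem Plane.full_scalars (h2 : finrank F U = 2)
    (hq : 5 ≤ Fintype.card F ∨ (lines Q b0 b1).card = Fintype.card F + 1)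
    {p : ι → F} (hp : p ∈ U) (hQp : Q p ≠ 0) (A : AddSubgroup F)
    (hA : ∀ o, Q (line b0 b1 o) ≠ 0 → ∀ α ∈ A,
      B p (line b0 b1 o) ^ 2 / Q (line b0 b1 o) / Q p * α ∈ A)
    {α : F} (hα : α ∈ A) (hα0 : α ≠ 0) (c : F) : c ∈ A := by
  classical
  let R : Subring F :=
    { carrier := {κ | ∀ a ∈ A, κ * a ∈ A}
      mul_mem' := fun {x y} hx hy a ha => by rw [mul_assoc]; exact hx _ (hy a ha)
      one_mem' := fun a ha => by rwa [one_mul]
      add_mem' := fun {x y} hx hy a ha => by rw [add_mul]; exact A.add_mem (hx a ha) (hy a ha)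
      zero_mem' := fun a _ => by rw [zero_mul]; exact A.zero_mem
      neg_mem' := fun {x} hx a ha => by rw [neg_mul]; exact A.neg_mem (hx a ha) }
  let K : Subfield F := { R with
    inv_mem' := fun x hx => by
      by_cases h : x = 0
      · rw [h, inv_zero]; exact R.zero_mem
      · have e : x ^ (Fintype.card F - 2) = x⁻¹ := eq_inv_of_mul_eq_one_left (by
          rw [← pow_succ, show Fintype.card F - 2 + 1 = Fintype.card F - 1 from by
            have := Fintype.one_lt_card (α := F)
            omega]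
          exact FiniteField.pow_card_sub_one_eq_one x h)
        exact e ▸ R.pow_mem hx _ }
  have hsub : insert 0 ((fvals Q B b0 b1 p).image (· / Q p)) ⊆
      (Finset.univ.filter fun κ => κ ∈ K) := by
    intro κ hκ
    refine Finset.mem_filter.mpr ⟨Finset.mem_univ _, ?_⟩
    rcases Finset.mem_insert.mp hκ with rfl | hκ
    · exact R.zero_mem
    · obtain ⟨v, hv, rfl⟩ := Finset.mem_image.mp hκ
      obtain ⟨o, h1, -, rfl⟩ := mem_fvals.mp hv
      exact fun a ha => hA o h1 a ha
  have h1 := Finset.card_le_card hsub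
  rw [Finset.card_insert_of_notMem (fun h => by
      obtain ⟨v, hv, hv'⟩ := Finset.mem_image.mp h
      exact div_ne_zero (fvals_ne_zero hv) hQp hv'),
    Finset.card_image_of_injective _ (fun a b h => (div_left_inj' hQp).mp h)] at h1
  have h3 : (Finset.univ.filter fun κ => κ ∈ K).card = Nat.card K := by
    rw [Nat.card_eq_fintype_card]; exact (Fintype.card_subtype _).symm
  have h4 := P.card_fvals h2 hp fun h => hQp (h ▸ P.space.zero)
  have h5 := P.card_lines
  have h6 : Nat.card F = Nat.card K ^ finrank K F := Module.natCard_eq_pow_finrank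
  have h7 : 2 ≤ Nat.card K := Finite.one_lt_card
  have h8 : finrank K F ≠ 0 := (Module.finrank_pos (R := K) (M := F)).ne'
  rw [Nat.card_eq_fintype_card (α := F)] at h6
  suffices hK : ∀ κ : F, κ ∈ K by
    simpa [div_mul_cancel₀ _ hα0] using hK (c / α) α hα
  intro κ
  by_cases hd : finrank K F = 1
  · rw [hd, pow_one] at h6
    have : (Finset.univ.filter fun κ => κ ∈ K) = Finset.univ :=
      Finset.eq_univ_of_card _ (by rw [h3, h6])
    have h := Finset.mem_univ κ
    rw [← this] at h
    exact (Finset.mem_filter.mp h).2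
  · exfalso
    have hd2 : Nat.card K ^ 2 ≤ Fintype.card F := h6 ▸ Nat.pow_le_pow_right (by omega) (by omega)
    rcases hq with hq | hq
    · have e1 : Fintype.card F ≤ 2 * Nat.card K := by omega
      have e2 : Nat.card K * Nat.card K ≤ 2 * Nat.card K := by rw [← sq]; omega
      have e3 : Nat.card K ≤ 2 := Nat.le_of_mul_le_mul_right e2 (by omega)
      omega
    · rw [hq] at h4
      nlinarith

end

end Cfsg.Lib.Linear.ODec
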